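import Mathlib
import Cfsg.Agent.Leech.OrbitCert
import Cfsg.Agent.Leech.SignGroup

/-! Generated data for an element of order 7 with three fixed points in the monomial group:
its cycle structure, centralising parameters, fixed vectors and an inverting lattice automorphism. -/

set_option autoImplicit false

namespace Cfsg.Agent.HeldType
open Cfsg Cfsg.Agent.Leech

/-- images -/
def sigQ : List ℕ := [0, 20, 8, 5, 4, 23, 3, 7, 18, 14, 9, 21, 10, 11, 19, 17, 15, 13, 6, 1, 12, 22, 16, 2]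

/-- preimages -/
def sigP : List ℕ := [0, 19, 23, 6, 4, 3, 18, 7, 2, 10, 12, 13, 20, 17, 9, 16, 22, 15, 8, 14, 1, 11, 21, 5]

/-- the permutation of order 7 -/
def sig : Equiv.Perm GolayPt := permOfLists sigP sigQ (by decide +kernel) (by decide +kernel)

theorem sig_mem : sig ∈ M24 := mem_M24_of_rows (by decide +kernel)

/-- images of the permutation squaring it -/
def twoQ : List ℕ := [0, 1, 6, 3, 4, 23, 18, 7, 5, 20, 19, 16, 9, 21, 10, 15, 22, 13, 2, 14, 12, 17, 11, 8]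

/-- preimages -/
def twoP : List ℕ := [0, 1, 18, 3, 4, 8, 2, 7, 23, 12, 14, 22, 20, 17, 19, 15, 11, 21, 6, 10, 9, 13, 16, 5]

/-- a permutation conjugating to the square -/
def two : Equiv.Perm GolayPt := permOfLists twoP twoQ (by decide +kernel) (by decide +kernel)

theorem two_mem : two ∈ M24 := mem_M24_of_rows (by decide +kernel)

theorem two_conj : ∀ p, two (sig p) = sig (sig (two p)) := by decide +kernel

/-- fixed points -/
def fixL : List ℕ := [0, 4, 7]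

/-- cycles -/
def cycL : List (List ℕ) := [[1, 20, 12, 10, 9, 14, 19], [2, 8, 18, 6, 3, 5, 23], [11, 21, 22, 16, 15, 17, 13]]

/-- cycle of a point -/
def locI : List ℕ := [0, 0, 1, 1, 1, 1, 1, 2, 1, 0, 0, 2, 0, 2, 0, 2, 2, 2, 1, 0, 0, 2, 2, 1]

/-- position in the cycle, `7` for fixed points -/
def locJ : List ℕ := [7, 0, 0, 4, 7, 5, 3, 7, 1, 4, 3, 0, 2, 6, 5, 4, 3, 5, 2, 6, 1, 1, 2, 6]

/-- parameters of the six permutations commuting with it, up to its powers -/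
def goodPar : List (List ℕ × List ℕ × List ℕ) :=
  [([0, 1, 2], [0, 1, 2], [0, 0, 0]), ([0, 2, 1], [1, 0, 2], [0, 6, 3]), ([1, 0, 2], [2, 1, 0], [0, 3, 6]), ([1, 2, 0], [1, 2, 0], [0, 3, 6]), ([2, 0, 1], [2, 0, 1], [0, 6, 3]), ([2, 1, 0], [0, 2, 1], [0, 0, 0])]

/-- fixed sign masks in six coordinates -/
def signMasks : List ℕ := [0, 10, 20, 30, 33, 43, 53, 63]

/-- representatives of the fixed classes -/
def repL : List (List ℤ) :=
  [[0, 0, 0, 0, 0, 0],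
   [-3, 1, 1, 1, 1, 1],
   [0, -2, 0, -2, 0, 0],
   [-3, -1, 1, -1, 1, 1],
   [0, 0, -2, 0, -2, 0],
   [-3, 1, -1, 1, -1, 1],
   [-6, 0, 0, 0, 0, 2],
   [-3, -1, -1, -1, -1, 1],
   [-4, -4, 0, 0, 0, 0],
   [-1, -5, -1, -1, -1, -1],
   [-4, -2, 0, 2, 0, 0],
   [-1, -3, -1, 1, -1, -1],
   [-4, -4, -2, 0, -2, 0],
   [-1, -5, 1, -1, 1, -1],
   [-2, 4, 0, 0, 0, 2],
   [-1, -3, 1, 1, 1, -1],
   [-4, 0, -4, 0, 0, 0],
   [-1, -1, -5, -1, -1, -1],
   [-4, -2, -4, -2, 0, 0],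
   [-1, 1, -5, 1, -1, -1],
   [-4, 0, -2, 0, 2, 0],
   [-1, -1, -3, -1, 1, -1],
   [-2, 0, 4, 0, 0, 2],
   [-1, 1, -3, 1, 1, -1],
   [0, -4, 4, 0, 0, 0],
   [-5, 3, 3, -1, -1, -1],
   [0, -2, 4, 2, 0, 0],
   [-3, 3, -3, -1, 1, 1],
   [0, -4, 2, 0, -2, 0],
   [-3, -3, 3, 1, -1, 1],
   [-2, -4, -4, 0, 0, -2],
   [-5, -3, -3, 1, 1, -1],
   [-8, 0, 0, 0, 0, 0],
   [-5, -1, -1, -1, -1, -1],
   [-2, 0, -2, 0, -2, -2],
   [-5, 1, -1, 1, -1, -1],
   [-2, -2, 0, -2, 0, -2],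
   [-5, -1, 1, -1, 1, -1],
   [-2, 0, 0, 0, 0, -2],
   [-5, 1, 1, 1, 1, -1],
   [-4, 4, 0, 0, 0, 0],
   [-1, 3, -1, -1, -1, -1],
   [-4, 2, 0, -2, 0, 0],
   [-1, 5, -1, 1, -1, -1],
   [-4, 4, -2, 0, -2, 0],
   [-1, 3, 1, -1, 1, -1],
   [-2, -4, 0, 0, 0, 2],
   [-1, 5, 1, 1, 1, -1],
   [-4, 0, 4, 0, 0, 0],
   [-1, -1, 3, -1, -1, -1],
   [-4, -2, 4, -2, 0, 0],
   [-1, 1, 3, 1, -1, -1],
   [-4, 0, 2, 0, -2, 0],
   [-1, -1, 5, -1, 1, -1],
   [-2, 0, -4, 0, 0, 2],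
   [-1, 1, 5, 1, 1, -1],
   [0, -4, -4, 0, 0, 0],
   [-3, -3, -3, 1, 1, 1],
   [0, -2, -4, 2, 0, 0],
   [-5, -3, 3, 1, -1, -1],
   [0, -4, -2, 0, 2, 0],
   [-5, 3, -3, -1, 1, -1],
   [-2, -4, 4, 0, 0, -2],
   [-3, 3, 3, -1, -1, 1]]

def sigGen : LGen := monGen [0, 19, 23, 6, 4, 3, 18, 7, 2, 10, 12, 13, 20, 17, 9, 16, 22, 15, 8, 14, 1, 11, 21, 5] [0, 20, 8, 5, 4, 23, 3, 7, 18, 14, 9, 21, 10, 11, 19, 17, 15, 13, 6, 1, 12, 22, 16, 2] 0
  (by decide +kernel) (by decide +kernel) (by decide +kernel) (by decide +kernel) (by decide +kernel)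

def invS1 : LGen := monGen [0, 1, 2, 3, 4, 5, 6, 7, 8, 9, 10, 11, 12, 13, 14, 15, 16, 17, 18, 19, 20, 21, 22, 23] [0, 1, 2, 3, 4, 5, 6, 7, 8, 9, 10, 11, 12, 13, 14, 15, 16, 17, 18, 19, 20, 21, 22, 23] 7042145
  (by decide +kernel) (by decide +kernel) (by decide +kernel) (by decide +kernel) (by decide +kernel)

def invX1Lab : List ℕ := [3, 3, 5, 2, 0, 2, 5, 5, 2, 0, 4, 1, 1, 4, 1, 0, 0, 1, 2, 3, 4, 3, 4, 5]

/-- a sextet -/
def invX1Sext : Sextet where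
  lab p := ⟨invX1Lab.getD (idx p) 0 % 6, Nat.mod_lt _ (by norm_num)⟩
  card_fib := by decide +kernel
  pair k := (mem_iff _).2 (by revert k; decide +kernel)

/-- its reflection -/
def invX1 : LGen := xiGen invX1Sext invX1Lab (by decide +kernel)

def invS2 : LGen := monGen [0, 1, 2, 3, 4, 5, 6, 7, 8, 9, 10, 11, 12, 13, 14, 15, 16, 17, 18, 19, 20, 21, 22, 23] [0, 1, 2, 3, 4, 5, 6, 7, 8, 9, 10, 11, 12, 13, 14, 15, 16, 17, 18, 19, 20, 21, 22, 23] 13078459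
  (by decide +kernel) (by decide +kernel) (by decide +kernel) (by decide +kernel) (by decide +kernel)

def invX2Lab : List ℕ := [4, 2, 5, 0, 3, 5, 0, 5, 0, 4, 1, 2, 4, 3, 3, 1, 2, 1, 0, 1, 2, 3, 4, 5]

/-- a sextet -/
def invX2Sext : Sextet where
  lab p := ⟨invX2Lab.getD (idx p) 0 % 6, Nat.mod_lt _ (by norm_num)⟩
  card_fib := by decide +kernel
  pair k := (mem_iff _).2 (by revert k; decide +kernel)

/-- its reflection -/
def invX2 : LGen := xiGen invX2Sext invX2Lab (by decide +kernel)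

def invM : LGen := monGen [10, 0, 6, 8, 20, 5, 18, 23, 3, 14, 11, 17, 9, 4, 19, 21, 16, 22, 2, 15, 13, 12, 1, 7] [1, 22, 18, 8, 13, 5, 2, 23, 3, 12, 0, 10, 21, 20, 9, 19, 16, 11, 6, 14, 4, 15, 17, 7] 2220640
  (by decide +kernel) (by decide +kernel) (by decide +kernel) (by decide +kernel) (by decide +kernel)

/-- a lattice automorphism inverting the element of order 7 -/
def invGen : LGen := invM.comp (invX2.comp (invS2.comp (invX1.comp invS1)))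

theorem inv_conj_lists : ((List.range 24).all fun a =>
    let l : List ℤ := (List.range 24).map fun b => if b = a then 8 else 0
    invGen.f (sigGen.f l) ==
      sigGen.f (sigGen.f (sigGen.f (sigGen.f (sigGen.f (sigGen.f (invGen.f l))))))) = true := by
  decide +kernel

end Cfsg.Agent.HeldType
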