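import Mathlib
import Cfsg.Agent.HeldType.Data

/-! Permutations of the code group commuting with or inverting the element of order 7. -/

set_option autoImplicit false
set_option maxRecDepth 8000

namespace Cfsg.Agent.HeldType
open Cfsg Cfsg.Agent.Leech
open Fin.NatCast

/-- the mask of a predicate on positions -/
def maskW (f : ℕ → Bool) : ℕ :=
  (List.range 24).foldr (fun q m => if f q then m ||| 2 ^ q else m) 0

theorem testBit_maskW (f : ℕ → Bool) (i : ℕ) :
    (maskW f).testBit i = (decide (i < 24) && f i) := by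
  have h : ∀ l : List ℕ, (l.foldr (fun q m => if f q then m ||| 2 ^ q else m) 0).testBit i =
      (decide (i ∈ l) && f i) := by
    intro l
    induction l with
    | nil => simp
    | cons a t ih =>
      simp only [List.foldr_cons]
      by_cases ha : a = i
      · subst ha; cases hfa : f a <;> simp [hfa, ih, Nat.testBit_two_pow_self]
      · split_ifs with hf <;>
          simp [ih, Nat.testBit_two_pow, ha, Ne.symm ha, Nat.testBit_or]
  rw [maskW, h]
  simp

/-- systematic re-encoding of a mask -/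
def decN (m : ℕ) : ℕ :=
  (List.finRange 12).foldr (fun i s => if m.testBit (idx (piv i)) then rowMask i ^^^ s else s) 0

theorem bitWord_decN (m : ℕ) : bitWord (decN m) = dec (bitWord m) := by
  rw [dec_eq, Fin.sum_univ_def]
  unfold decN
  induction List.finRange 12 with
  | nil => simp [bitWord_zero]
  | cons a t ih =>
    simp only [List.foldr_cons, List.map_cons, List.sum_cons]
    rcases Bool.eq_false_or_eq_true (m.testBit (idx (piv a))) with ha | ha
    · have h1 : bitWord m (piv a) = 1 := by simp [bitWord, ha]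
      rw [if_pos ha, bitWord_xor, ih, h1, one_smul, row]
    · have h1 : bitWord m (piv a) = 0 := by simp [bitWord, ha]
      rw [if_neg (by simp [ha]), ih, h1, zero_smul, zero_add]

/-- does an image list preserve the code -/
def okQ (Q : List ℕ) : Bool :=
  (List.finRange 12).all fun i =>
    let m := maskW fun q => (rowMask i).testBit (Q.getD q 0)
    (decN m ^^^ m) % 2 ^ 24 == 0

theorem okQ_of_mem {π : Equiv.Perm GolayPt} (hπ : π ∈ M24) {Q : List ℕ}
    (hQ : ∀ p, idx (π p) = Q.getD (idx p) 0) : okQ Q = true := by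
  refine List.all_eq_true.2 fun i _ => ?_
  set m := maskW fun q => (rowMask i).testBit (Q.getD q 0) with hm
  have hmw : bitWord m = row i ∘ π := funext fun p => by
    simp only [bitWord, hm, testBit_maskW, idx_lt p, decide_true, Bool.true_and, row,
      Function.comp, hQ]
  have hmem : row i ∘ π ∈ golayCode := comp_mem_of_M24 hπ (row_mem i)
  rw [← hmw, mem_iff, ← bitWord_decN] at hmem
  have hbits : ∀ q < 24, (decN m).testBit q = m.testBit q := fun q hq => by
    have := congrFun hmem (ptOf q)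
    simp only [bitWord, idx_ptOf q hq] at this
    revert this
    cases (decN m).testBit q <;> cases m.testBit q <;> simp
  simp only [beq_iff_eq]
  refine Nat.eq_of_testBit_eq fun q => ?_
  rw [Nat.testBit_mod_two_pow, Nat.testBit_xor, Nat.zero_testBit]
  by_cases hq : q < 24
  · simp [hbits q hq]
  · simp [hq]

/-- a point from its position in the fixed point or cycle lists -/
def fixPt (i : Fin 3) : GolayPt := ptOf (fixL.getD i 0)

/-- a point on a cycle -/
def cycPt (i : Fin 3) (j : Fin 7) : GolayPt := ptOf ((cycL.getD i []).getD j 0)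

theorem pt_cases : ∀ p : GolayPt, (∃ i, p = fixPt i) ∨ ∃ i j, p = cycPt i j := by decide +kernel

theorem sig_fixPt : ∀ i, sig (fixPt i) = fixPt i := by decide +kernel

theorem sig_cycPt : ∀ i j, sig (cycPt i j) = cycPt i (j + 1) := by decide +kernel

theorem cycPt_inj : ∀ i i' j j', cycPt i j = cycPt i' j' → i = i' ∧ j = j' := by decide +kernel

theorem fixPt_inj : ∀ i i', fixPt i = fixPt i' → i = i' := by decide +kernel

theorem cyc_not_fixed : ∀ i j, sig (cycPt i j) ≠ cycPt i j := by decide +kernel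

theorem iterate_cycPt (n : ℕ) (i : Fin 3) (j : Fin 7) :
    (⇑sig)^[n] (cycPt i j) = cycPt i (j + (n : Fin 7)) := by
  induction n with
  | zero => simp
  | succ n ih => rw [Function.iterate_succ_apply', ih, sig_cycPt, Nat.cast_succ, add_assoc]

/-- image list from parameters -/
def parQ (k : ℕ) (a b h : List ℕ) : List ℕ :=
  (List.range 24).map fun q =>
    if locJ.getD q 0 = 7 then fixL.getD (a.getD (locI.getD q 0) 0) 0
    else (cycL.getD (b.getD (locI.getD q 0) 0) []).getD ((h.getD (locI.getD q 0) 0 + k * locJ.getD q 0) % 7) 0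

theorem parQ_getD (k q : ℕ) (hq : q < 24) (a b h : List ℕ) : (parQ k a b h).getD q 0 =
    if locJ.getD q 0 = 7 then fixL.getD (a.getD (locI.getD q 0) 0) 0
    else (cycL.getD (b.getD (locI.getD q 0) 0) []).getD
      ((h.getD (locI.getD q 0) 0 + k * locJ.getD q 0) % 7) 0 := by
  simp [parQ, List.getD_eq_getElem?_getD, hq]

theorem loc_facts : (∀ i : Fin 3, locI.getD (fixL.getD i 0) 0 = i ∧ locJ.getD (fixL.getD i 0) 0 = 7 ∧
    fixL.getD i 0 < 24) ∧ ∀ (i : Fin 3) (j : Fin 7),
    locI.getD ((cycL.getD i []).getD j 0) 0 = i ∧ locJ.getD ((cycL.getD i []).getD j 0) 0 = j ∧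
      (cycL.getD i []).getD j 0 < 24 := by decide +kernel

/-- the permutations of three symbols -/
def perm3 : List (List ℕ) := [[0, 1, 2], [0, 2, 1], [1, 0, 2], [1, 2, 0], [2, 0, 1], [2, 1, 0]]

theorem perm3_spec : ∀ x y w : Fin 3, x ≠ y → x ≠ w → y ≠ w →
    [x.val, y.val, w.val] ∈ perm3 := by decide +kernel

theorem exists_step : ∀ k : Fin 7, k ≠ 0 → ∀ h h' : Fin 7, ∃ m : Fin 7, h + k * m = h' := by decide +kernel

theorem six_values (k : ℕ) (hk : (k : Fin 7) ≠ 0) (hkf : ∀ p, (⇑sig)^[k] p = p → sig p = p)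
    {π : Equiv.Perm GolayPt} (hπ : π ∈ M24) (hc : ∀ p, π (sig p) = (⇑sig)^[k] (π p)) :
    ∃ (a b : Fin 3 → Fin 3) (h : Fin 3 → Fin 7),
      (∀ i, π (fixPt i) = fixPt (a i)) ∧ (∀ i j, π (cycPt i j) = cycPt (b i) (h i + (k : Fin 7) * j)) ∧
      [(a 0).val, (a 1).val, (a 2).val] ∈ perm3 ∧ [(b 0).val, (b 1).val, (b 2).val] ∈ perm3 ∧
      okQ (parQ k [(a 0).val, (a 1).val, (a 2).val] [(b 0).val, (b 1).val, (b 2).val]
        [(h 0).val, (h 1).val, (h 2).val]) = true := by
  have ha : ∀ i, ∃ a, π (fixPt i) = fixPt a := by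
    intro i
    have := hc (fixPt i)
    rw [sig_fixPt] at this
    have hf := hkf _ this.symm
    rcases pt_cases (π (fixPt i)) with h | ⟨a, j, h⟩
    · exact h
    · exact absurd (h ▸ hf) (cyc_not_fixed a j)
  choose a ha using ha
  have hb : ∀ i, ∃ b h, π (cycPt i 0) = cycPt b h := by
    intro i
    rcases pt_cases (π (cycPt i 0)) with ⟨f, h⟩ | h
    · exfalso
      have h1 := hc (cycPt i 0)
      rw [h, Function.iterate_fixed (sig_fixPt f)] at h1
      exact cyc_not_fixed i 0 (π.injective (h1.trans h.symm))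
    · exact h
  choose b h hb using hb
  have hj : ∀ i (j : Fin 7), π (cycPt i j) = cycPt (b i) (h i + (k : Fin 7) * j) := by
    intro i
    suffices ∀ n : ℕ, π (cycPt i (n : Fin 7)) = cycPt (b i) (h i + (k : Fin 7) * (n : Fin 7)) by
      intro j; have := this j.val; rwa [Fin.cast_val_eq_self] at this
    intro n
    induction n with
    | zero => simp [hb]
    | succ n ih =>
      rw [Nat.cast_succ, ← sig_cycPt, hc, ih, iterate_cycPt, mul_add, mul_one, add_assoc]
  have hainj : Function.Injective a := fun i i' e =>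
    fixPt_inj _ _ (π.injective (by rw [ha, ha, e]))
  have hbinj : Function.Injective b := fun i i' e => by
    obtain ⟨m, hm⟩ := exists_step _ hk (h i') (h i)
    exact (cycPt_inj _ _ _ _ (π.injective
      (show π (cycPt i 0) = π (cycPt i' m) by rw [hb, hj, hm, e]))).1
  refine ⟨a, b, h, ha, hj, perm3_spec _ _ _ (hainj.ne (by decide)) (hainj.ne (by decide)) (hainj.ne (by decide)),
    perm3_spec _ _ _ (hbinj.ne (by decide)) (hbinj.ne (by decide)) (hbinj.ne (by decide)), okQ_of_mem hπ ?_⟩
  intro p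
  have hget : ∀ q < 24, ∀ a' b' h' : List ℕ, (parQ k a' b' h').getD q 0 =
      if locJ.getD q 0 = 7 then fixL.getD (a'.getD (locI.getD q 0) 0) 0
      else (cycL.getD (b'.getD (locI.getD q 0) 0) []).getD
        ((h'.getD (locI.getD q 0) 0 + k * locJ.getD q 0) % 7) 0 := fun q hq a' b' h' => by
    simp [parQ, List.getD_eq_getElem?_getD, hq]
  have h3 : ∀ {n : ℕ} (f : Fin 3 → Fin n) (i : Fin 3),
      [(f 0).val, (f 1).val, (f 2).val].getD i 0 = (f i).val := fun f i => by
    fin_cases i <;> rfl
  obtain ⟨L1, L2⟩ := loc_facts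
  rcases pt_cases p with ⟨i, rfl⟩ | ⟨i, j, rfl⟩
  · obtain ⟨e1, e2, e3⟩ := L1 i
    rw [ha, fixPt, fixPt, idx_ptOf _ (L1 (a i)).2.2, idx_ptOf _ e3, hget _ e3, if_pos e2, e1, h3]
  · obtain ⟨e1, e2, e3⟩ := L2 i j
    have hne : (j : ℕ) ≠ 7 := ne_of_lt j.2
    rw [hj, cycPt, cycPt, idx_ptOf _ (L2 _ _).2.2, idx_ptOf _ e3, hget _ e3, e2, if_neg hne, e1, h3, h3]
    congr 1
    simp [Fin.val_add, Fin.val_mul, Fin.val_natCast, Nat.add_mod, Nat.mul_mod]

/-- exhaustive search with the first shift normalised -/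
def searchAll (k : ℕ) (good : List (List ℕ × List ℕ × List ℕ)) : Bool :=
  perm3.all fun a => perm3.all fun b => (List.range 7).all fun x => (List.range 7).all fun y =>
    !okQ (parQ k a b [0, x, y]) || good.contains (a, b, [0, x, y])

theorem search_one : searchAll 1 goodPar = true := by decide +kernel

theorem search_inv : searchAll 6 [] = true := by decide +kernel

theorem sig_pow_apply (n : ℕ) (p : GolayPt) : (sig ^ n) p = (⇑sig)^[n] p := by
  rw [Equiv.Perm.coe_pow]

/-- no element of the code group inverts it -/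
theorem no_inverting {π : Equiv.Perm GolayPt} (hπ : π ∈ M24)
    (hc : ∀ p, π (sig p) = (⇑sig)^[6] (π p)) : False := by
  obtain ⟨a, b, h, -, hb, -, -, -⟩ := six_values 6 (by decide) (by decide +kernel) hπ hc
  have hsig7 : ∀ p, (⇑sig)^[7] p = p := by decide +kernel
  have hπ' : (sig ^ (7 - (h 0).val)) * π ∈ M24 := mul_mem (pow_mem sig_mem _) hπ
  have hc' : ∀ p, ((sig ^ (7 - (h 0).val)) * π) (sig p) =
      (⇑sig)^[6] (((sig ^ (7 - (h 0).val)) * π) p) := fun p => by
    simp only [Equiv.Perm.mul_apply, hc, sig_pow_apply, ← Function.iterate_add_apply, Nat.add_comm]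
  obtain ⟨a', b', h', -, hb', ma, mb, hok⟩ := six_values 6 (by decide) (by decide +kernel) hπ' hc'
  have h0 : h' 0 = 0 := by
    have e1 := hb' 0 0
    rw [Equiv.Perm.mul_apply, hb, sig_pow_apply, iterate_cycPt] at e1
    have e2 := (cycPt_inj _ _ _ _ e1).2
    revert e2
    generalize h 0 = x
    generalize h' 0 = y
    revert x y
    decide +kernel
  rw [h0] at hok
  have := List.all_eq_true.1 search_inv _ ma
  have := List.all_eq_true.1 this _ mb
  have := List.all_eq_true.1 this (h' 1).val (List.mem_range.2 (h' 1).2)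
  have := List.all_eq_true.1 this (h' 2).val (List.mem_range.2 (h' 2).2)
  simp only [Fin.val_zero] at hok
  rw [hok] at this
  simp at this

/-- parameters of a coset representative -/
def parOf (e : Fin 6) : List ℕ × List ℕ × List ℕ := goodPar.getD e ([], [], [])

/-- the preimage list of a representative -/
def parP (e : Fin 6) : List ℕ :=
  let Q := parQ 1 (parOf e).1 (parOf e).2.1 (parOf e).2.2
  (List.range 24).map fun q => Q.idxOf q

theorem par_left : ∀ (e : Fin 6) p, ptOf ((parP e).getD (idx (ptOf ((parQ 1 (parOf e).1 (parOf e).2.1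
    (parOf e).2.2).getD (idx p) 0))) 0) = p := by decide +kernel

theorem par_right : ∀ (e : Fin 6) p, ptOf ((parQ 1 (parOf e).1 (parOf e).2.1 (parOf e).2.2).getD
    (idx (ptOf ((parP e).getD (idx p) 0))) 0) = p := by decide +kernel

/-- a coset representative of the centraliser -/
def parPerm (e : Fin 6) : Equiv.Perm GolayPt :=
  permOfLists (parP e) (parQ 1 (parOf e).1 (parOf e).2.1 (parOf e).2.2) (par_left e) (par_right e)

theorem parPerm_mem (e : Fin 6) : parPerm e ∈ M24 :=
  mem_M24_of_rows (by revert e; decide +kernel)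

theorem parPerm_comm : ∀ e p, parPerm e (sig p) = sig (parPerm e p) := by decide +kernel

/-- image of a fixed point under a representative -/
def parA (e : Fin 6) (i : Fin 3) : Fin 3 := Fin.ofNat 3 ((parOf e).1.getD i 0)

/-- image of a cycle under a representative -/
def parB (e : Fin 6) (i : Fin 3) : Fin 3 := Fin.ofNat 3 ((parOf e).2.1.getD i 0)

theorem parPerm_fixPt : ∀ e i, parPerm e (fixPt i) = fixPt (parA e i) := by decide +kernel

theorem parPerm_cycPt : ∀ e i, ∃ j, parPerm e (cycPt i 0) = cycPt (parB e i) j := by decide +kernel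

/-- every element of the code group commuting with it -/
theorem commuting_cases {π : Equiv.Perm GolayPt} (hπ : π ∈ M24) (hc : ∀ p, π (sig p) = sig (π p)) :
    ∃ (n : Fin 7) (e : Fin 6), π = sig ^ n.val * parPerm e := by
  have hc1 : ∀ p, π (sig p) = (⇑sig)^[1] (π p) := by simpa using hc
  obtain ⟨a, b, h, -, hb, -, -, -⟩ := six_values 1 (by decide) (fun p hp => hp) hπ hc1
  set π' := sig ^ (7 - (h 0).val) * π with hπ'def
  have hπ' : π' ∈ M24 := mul_mem (pow_mem sig_mem _) hπ
  have hc' : ∀ p, π' (sig p) = (⇑sig)^[1] (π' p) := fun p => by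
    simp only [hπ'def, Equiv.Perm.mul_apply, hc, sig_pow_apply, Function.iterate_one]
    rw [← Function.iterate_succ_apply' (⇑sig), ← Function.iterate_succ_apply (⇑sig)]
  obtain ⟨a', b', h', ha', hb', ma, mb, hok⟩ := six_values 1 (by decide) (fun p hp => hp) hπ' hc'
  have h0 : h' 0 = 0 := by
    have e1 := hb' 0 0
    rw [hπ'def, Equiv.Perm.mul_apply, hb, sig_pow_apply, iterate_cycPt] at e1
    have e2 := (cycPt_inj _ _ _ _ e1).2
    revert e2
    generalize h 0 = x
    generalize h' 0 = y
    revert x y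
    decide +kernel
  rw [h0, Fin.val_zero] at hok
  have := List.all_eq_true.1 search_one _ ma
  have := List.all_eq_true.1 this _ mb
  have := List.all_eq_true.1 this (h' 1).val (List.mem_range.2 (h' 1).2)
  have := List.all_eq_true.1 this (h' 2).val (List.mem_range.2 (h' 2).2)
  rw [hok] at this
  simp only [Bool.not_true, Bool.false_or, List.contains_eq_mem, decide_eq_true_eq] at this
  obtain ⟨e, he⟩ : ∃ e : Fin 6, parOf e = ([(a' 0).val, (a' 1).val, (a' 2).val],
      [(b' 0).val, (b' 1).val, (b' 2).val], [0, (h' 1).val, (h' 2).val]) := by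
    obtain ⟨n, hn, he⟩ := List.getElem_of_mem this
    have hl : goodPar.length = 6 := rfl
    exact ⟨⟨n, hl ▸ hn⟩, by rw [parOf, List.getD_eq_getElem?_getD, List.getElem?_eq_getElem hn]; simpa using he⟩
  refine ⟨h 0, e, ?_⟩
  have hpe : π' = parPerm e := by
    refine Equiv.ext fun p => ?_
    show π' p = ptOf ((parQ 1 (parOf e).1 (parOf e).2.1 (parOf e).2.2).getD (idx p) 0)
    rw [he]
    have h3 : ∀ {m : ℕ} (f : Fin 3 → Fin m) (i : Fin 3),
        [(f 0).val, (f 1).val, (f 2).val].getD i 0 = (f i).val := fun f i => by fin_cases i <;> rfl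
    obtain ⟨L1, L2⟩ := loc_facts
    rcases pt_cases p with ⟨i, rfl⟩ | ⟨i, j, rfl⟩
    · obtain ⟨e1, e2, e3⟩ := L1 i
      rw [ha', fixPt, fixPt, idx_ptOf _ e3, parQ_getD _ _ e3, if_pos e2, e1, h3]
    · obtain ⟨e1, e2, e3⟩ := L2 i j
      have hne : (j : ℕ) ≠ 7 := ne_of_lt j.2
      have h3' : [(0 : ℕ), (h' 1).val, (h' 2).val].getD i 0 = (h' i).val := by
        fin_cases i <;> simp [h0]
      rw [hb', cycPt, cycPt, idx_ptOf _ e3, parQ_getD _ _ e3, e2, if_neg hne, e1, h3, h3']
      simp [Fin.val_add, Nat.add_mod]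
  have h7 : sig ^ 7 = 1 := Equiv.ext (by decide +kernel)
  rw [← hpe, hπ'def, ← mul_assoc, ← pow_add, Nat.add_sub_cancel' (h 0).2.le, h7, one_mul]

end Cfsg.Agent.HeldType
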