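import Mathlib
import Cfsg.Agent.HeldType.Perm
import Cfsg.Agent.MonsterType.Monomial
import Cfsg.Agent.Leech.PairsEight

/-! The lattice vectors fixed by the element of order 7, and their classes modulo two. -/

set_option autoImplicit false
set_option maxRecDepth 8000

namespace Cfsg.Agent.HeldType
open Cfsg Cfsg.Agent Cfsg.Agent.Leech MonsterType
open Fin.NatCast

/-- the element of order 7 in the code group -/
def sigM : ↥M24 := ⟨sig, sig_mem⟩

/-- the lattice automorphism of order 7 -/
def sS : ↥Co0 := permHom sigM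

theorem sS_apply (v : leechLattice) (p : GolayPt) :
    ((sS • v : leechLattice) : GolayPt → ℤ) (sig p) = (v : GolayPt → ℤ) p := by
  show ((Leech.permCo0 sig sig_mem • v : leechLattice) : GolayPt → ℤ) (sig p) = _
  rw [Leech.permCo0_apply]
  simp

/-- fixed vectors are constant on cycles -/
theorem fixed_cyc {v : leechLattice} (h : sS • v = v) (i : Fin 3) (j : Fin 7) :
    (v : GolayPt → ℤ) (cycPt i j) = (v : GolayPt → ℤ) (cycPt i 0) := by
  suffices ∀ n : ℕ, (v : GolayPt → ℤ) (cycPt i (n : Fin 7)) = (v : GolayPt → ℤ) (cycPt i 0) by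
    have := this j.val; rwa [Fin.cast_val_eq_self] at this
  intro n
  induction n with
  | zero => simp
  | succ n ih =>
    rw [Nat.cast_succ, ← sig_cycPt, ← ih]
    conv_lhs => rw [← h]
    exact sS_apply v _

/-- six coordinates of a vector -/
def six : leechLattice →+ (Fin 6 → ℤ) where
  toFun v := ![(v : GolayPt → ℤ) (fixPt 0), (v : GolayPt → ℤ) (fixPt 1), (v : GolayPt → ℤ) (fixPt 2),
    (v : GolayPt → ℤ) (cycPt 0 0), (v : GolayPt → ℤ) (cycPt 1 0), (v : GolayPt → ℤ) (cycPt 2 0)]
  map_zero' := by funext i; fin_cases i <;> simp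
  map_add' v w := by funext i; fin_cases i <;> simp

/-- the vector with given six coordinates -/
def spread (t : Fin 6 → ℤ) : GolayPt → ℤ := fun p =>
  if locJ.getD (idx p) 0 = 7 then t (Fin.ofNat 6 (locI.getD (idx p) 0))
  else t (Fin.ofNat 6 (3 + locI.getD (idx p) 0))

theorem spread_fix (t : Fin 6 → ℤ) (i : Fin 3) : spread t (fixPt i) = t (Fin.ofNat 6 i.val) := by
  obtain ⟨e1, e2, e3⟩ := loc_facts.1 i
  rw [spread, fixPt, idx_ptOf _ e3, if_pos e2, e1]

theorem spread_cyc (t : Fin 6 → ℤ) (i : Fin 3) (j : Fin 7) :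
    spread t (cycPt i j) = t (Fin.ofNat 6 (3 + i.val)) := by
  obtain ⟨e1, e2, e3⟩ := loc_facts.2 i j
  rw [spread, cycPt, idx_ptOf _ e3, e2, if_neg (ne_of_lt j.2), e1]

theorem spread_six {v : leechLattice} (h : sS • v = v) : (v : GolayPt → ℤ) = spread (six v) := by
  funext p
  rcases pt_cases p with ⟨i, rfl⟩ | ⟨i, j, rfl⟩
  · rw [spread_fix]; fin_cases i <;> rfl
  · rw [spread_cyc, fixed_cyc h]; fin_cases i <;> rfl

theorem fixed_ext {v w : leechLattice} (hv : sS • v = v) (hw : sS • w = w) (h : six v = six w) : v = w :=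
  Subtype.ext (by rw [spread_six hv, spread_six hw, h])

/-- coordinates of a combination of the basis -/
def combT (n : Fin 6 → ℤ) : Fin 6 → ℤ :=
  ![n 0, n 0 + 2 * n 1, n 0 + 2 * n 2, n 0 + 2 * n 1 + 4 * n 3, n 0 + 2 * n 2 + 4 * n 4,
    5 * n 0 + 4 * n 3 + 4 * n 4 + 8 * n 5]

/-- coefficients of a fixed vector -/
def coefT (t : Fin 6 → ℤ) : Fin 6 → ℤ :=
  ![t 0, (t 1 - t 0) / 2, (t 2 - t 0) / 2, (t 3 - t 1) / 4, (t 4 - t 2) / 4,
    (t 5 - 5 * t 0 - (t 3 - t 1) - (t 4 - t 2)) / 8]

theorem coefT_combT (n : Fin 6 → ℤ) : coefT (combT n) = n := by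
  funext i
  fin_cases i <;> simp [coefT, combT] <;> omega

theorem spread_sig : ∀ i : Fin 6, ∀ p, spread (combT (Pi.single i 1)) (sig⁻¹ p) =
    spread (combT (Pi.single i 1)) p := by decide +kernel

theorem spread_basis_mem (i : Fin 6) : spread (combT (Pi.single i 1)) ∈ leechLattice :=
  Leech.mem_of_parity _ (if i = 0 then 1 else 0) (by revert i; decide +kernel)
    (by revert i; decide +kernel) (by revert i; decide +kernel)

/-- the basis of the fixed vectors -/
def basV (i : Fin 6) : leechLattice := ⟨spread (combT (Pi.single i 1)), spread_basis_mem i⟩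

theorem basV_fixed (i : Fin 6) : sS • basV i = basV i :=
  Subtype.ext (funext fun p => by
    show ((Leech.permCo0 sig sig_mem • basV i : leechLattice) : GolayPt → ℤ) p = _
    rw [Leech.permCo0_apply]
    exact spread_sig i p)

theorem six_basV : ∀ i, six (basV i) = combT (Pi.single i 1) := by decide +kernel

/-- the fixed vectors as a subgroup -/
def fixedSub (g : ↥Co0) : AddSubgroup leechLattice :=
  AddMonoidHom.eqLocus
    (AddMonoidHom.mk' (fun v : leechLattice => g • v) (Leech.smul_add' g)) (AddMonoidHom.id _)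

theorem mem_fixedSub {g : ↥Co0} {v : leechLattice} : v ∈ fixedSub g ↔ g • v = v := Iff.rfl

/-- a combination of the basis -/
def vecN (n : Fin 6 → ℤ) : leechLattice := ∑ i, n i • basV i

theorem vecN_fixed (n : Fin 6 → ℤ) : sS • vecN n = vecN n :=
  mem_fixedSub.1 (sum_mem fun i _ => AddSubgroup.zsmul_mem _ (mem_fixedSub.2 (basV_fixed i)) _)

theorem six_vecN (n : Fin 6 → ℤ) : six (vecN n) = combT n := by
  rw [vecN, map_sum]
  simp only [map_zsmul, six_basV]
  funext j
  fin_cases j <;> simp [combT, Fin.sum_univ_six, Pi.single_apply, mul_comm] <;> ring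

/-- the code condition on parities -/
def bitsOK (k : Fin 5 → Fin 4) : Bool :=
  let m := maskW fun q =>
    let i := locI.getD q 0
    let j := if locJ.getD q 0 = 7 then i else 3 + i
    if j = 0 then false else (k (Fin.ofNat 5 (j - 1))).val % 2 == 1
  (decN m ^^^ m) % 2 ^ 24 == 0

theorem residues : ∀ (a : Fin 2) (k : Fin 5 → Fin 4), bitsOK k = true →
    (2 * (a.val : ℤ) + (k 0).val + (k 1).val - (k 2).val - (k 3).val - (k 4).val) % 4 = 0 →
      ((k 2).val : ℤ) % 2 = ((k 0).val : ℤ) % 2 ∧ ((k 3).val : ℤ) % 2 = ((k 1).val : ℤ) % 2 ∧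
        (-2 * (a.val : ℤ) + (k 4).val - (k 2).val + (k 0).val - (k 3).val + (k 1).val) % 4 = 0 := by
  decide +kernel

theorem cast_two (x : ℤ) : ((x : ℤ) : ZMod 2) = if x % 2 = 1 then 1 else 0 := by
  rcases Int.emod_two_eq_zero_or_one x with h | h
  · rw [if_neg (by omega)]; exact (ZMod.intCast_zmod_eq_zero_iff_dvd x 2).2 (by omega)
  · rw [if_pos h, ← Int.emod_add_mul_ediv x 2, h]
    push_cast
    rw [show (2 : ZMod 2) = 0 from rfl, zero_mul, add_zero]

/-- the basis spans the fixed vectors -/
theorem fixed_eq_vecN {v : leechLattice} (h : sS • v = v) : vecN (coefT (six v)) = v := by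
  refine fixed_ext (vecN_fixed _) h ?_
  rw [six_vecN]
  obtain ⟨m, y, hy, hsum, hcode⟩ := Leech.mem_lattice_iff.1 v.2
  have hsp := spread_six h
  set t := six v with ht
  have ht0 : t 0 = (v : GolayPt → ℤ) (fixPt 0) := rfl
  have hm : (2 : ℤ) ∣ t 0 - m := ⟨y (fixPt 0), by rw [ht0, hy]; ring⟩
  have hpar : ∀ i : Fin 6, (2 : ℤ) ∣ t i - t 0 := by
    intro i
    obtain ⟨p, hp⟩ : ∃ p, t i = (v : GolayPt → ℤ) p := by
      fin_cases i <;> exact ⟨_, rfl⟩
    exact ⟨y p - y (fixPt 0), by rw [hp, ht0, hy, hy]; ring⟩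
  let k : Fin 5 → Fin 4 := fun i => ⟨(((t i.succ - t 0) / 2) % 4).toNat, by omega⟩
  have hk : ∀ i : Fin 5, ((k i).val : ℤ) = ((t i.succ - t 0) / 2) % 4 := fun i => by
    simp only [k]; omega
  have hb : bitsOK k = true := by
    have h1 : red2 y + ((y (fixPt 0) : ℤ) : ZMod 2) • (1 : GolayPt → ZMod 2) ∈ golayCode :=
      add_mem hcode (Submodule.smul_mem _ _ Leech.one_mem)
    have hw : bitWord (maskW fun q =>
        let i := locI.getD q 0
        let j := if locJ.getD q 0 = 7 then i else 3 + i
        if j = 0 then false else (k (Fin.ofNat 5 (j - 1))).val % 2 == 1) =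
        red2 y + ((y (fixPt 0) : ℤ) : ZMod 2) • (1 : GolayPt → ZMod 2) := by
      funext p
      have hyp : y p = ((v : GolayPt → ℤ) p - m) / 2 := by rw [hy]; omega
      have hy0 : y (fixPt 0) = (t 0 - m) / 2 := by rw [ht0, hy]; omega
      simp only [bitWord, testBit_maskW, idx_lt p, decide_true, Bool.true_and, Pi.add_apply,
        Pi.smul_apply, Pi.one_apply, smul_eq_mul, mul_one, Leech.red2, ← Int.cast_add]
      rw [cast_two, hyp, hy0, congrFun hsp p]
      simp only [spread]
      have hloc : ∀ p, locI.getD (idx p) 0 < 3 := by decide +kernel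
      have key : ∀ j : Fin 6, (if (j : ℕ) = 0 then false else (k (Fin.ofNat 5 ((j : ℕ) - 1))).val % 2 == 1) =
          decide (((t j - m) / 2 + (t 0 - m) / 2) % 2 = 1) := by
        intro j
        have := hpar j
        obtain rfl | ⟨i, rfl⟩ := j.eq_zero_or_eq_succ
        · simp; omega
        · have h2 := hk i
          simp only [Fin.val_succ, Nat.add_sub_cancel, Nat.succ_ne_zero, if_false,
            show Fin.ofNat 5 (i : ℕ) = i from Fin.ext (Nat.mod_eq_of_lt i.2)]
          rw [Bool.eq_iff_iff, beq_iff_eq, decide_eq_true_iff]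
          omega
      have hI := hloc p
      by_cases hj : locJ.getD (idx p) 0 = 7
      · have hv := key ⟨locI.getD (idx p) 0, by omega⟩
        have hof : Fin.ofNat 6 (locI.getD (idx p) 0) = ⟨locI.getD (idx p) 0, by omega⟩ :=
          Fin.ext (Nat.mod_eq_of_lt (by omega))
        simp only [if_pos hj, hof]
        simp only at hv
        rw [hv]
        simp only [decide_eq_true_eq]
      · have hv := key ⟨3 + locI.getD (idx p) 0, by omega⟩
        have hof : Fin.ofNat 6 (3 + locI.getD (idx p) 0) = ⟨3 + locI.getD (idx p) 0, by omega⟩ :=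
          Fin.ext (Nat.mod_eq_of_lt (by omega))
        simp only [if_neg hj, hof]
        simp only at hv
        rw [hv]
        simp only [decide_eq_true_eq]
    rw [← hw, Leech.mem_iff, ← bitWord_decN] at h1
    unfold bitsOK
    refine beq_iff_eq.2 (Nat.eq_of_testBit_eq fun q => ?_)
    rw [Nat.testBit_mod_two_pow, Nat.testBit_xor, Nat.zero_testBit]
    by_cases hq : q < 24
    · have := congrFun h1 (ptOf q)
      simp only [bitWord, idx_ptOf q hq] at this
      revert this
      generalize (decN _).testBit q = A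
      generalize (maskW _).testBit q = B
      cases A <;> cases B <;> simp
    · simp [hq]
  have hs : ∑ p, (v : GolayPt → ℤ) p = t 0 + t 1 + t 2 + 7 * (t 3 + t 4 + t 5) := by
    rw [hsp, Leech.univ_eq_range, Finset.sum_image (fun a ha b hb e => by
      rw [← idx_ptOf a (Finset.mem_range.1 ha), ← idx_ptOf b (Finset.mem_range.1 hb), e])]
    simp only [Finset.sum_range_succ, Finset.sum_range_zero, spread]
    simp (decide := true) [locI, locJ, idx_ptOf]
    ring
  rw [hs] at hsum
  have e : ∀ i : Fin 5, t i.succ = t 0 + 2 * ((t i.succ - t 0) / 2) := fun i => by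
    have := hpar i.succ; omega
  have := e 0; have := e 1; have := e 2; have := e 3; have := e 4
  have := hk 0; have := hk 1; have := hk 2; have := hk 3; have := hk 4
  simp only [show (0 : Fin 5).succ = (1 : Fin 6) from rfl, show (1 : Fin 5).succ = (2 : Fin 6) from rfl,
    show (2 : Fin 5).succ = (3 : Fin 6) from rfl, show (3 : Fin 5).succ = (4 : Fin 6) from rfl,
    show (4 : Fin 5).succ = (5 : Fin 6) from rfl] at *
  obtain ⟨r1, r2, r3⟩ := residues ⟨(t 0 % 2).toNat, by omega⟩ k hb (by
    have : (((t 0 % 2).toNat : ℕ) : ℤ) = t 0 % 2 := by omega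
    simp only [this]
    omega)
  have : (((t 0 % 2).toNat : ℕ) : ℤ) = t 0 % 2 := by omega
  simp only [this] at r3
  funext i
  fin_cases i <;> simp [combT, coefT] <;> omega

/-- the class map on combinations -/
def kap (k : Fin 6 → ZMod 2) : leechLattice ⧸ Leech.twoSub :=
  cls (vecN fun i => ((k i).val : ℤ))

theorem cls_vecN (n : Fin 6 → ℤ) : cls (vecN n) = kap fun i => (n i : ZMod 2) := by
  refine Leech.cls_eq_iff.2 ⟨vecN fun i => n i / 2, ?_⟩
  simp only [vecN, ← Finset.sum_add_distrib, ← add_smul]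
  refine Finset.sum_congr rfl fun i _ => ?_
  congr 1
  have h2 : ((((n i : ZMod 2))).val : ℤ) = n i % 2 := ZMod.val_intCast _
  rw [h2]
  omega

theorem vecN_add (a b : Fin 6 → ℤ) : vecN (a + b) = vecN a + vecN b := by
  simp only [vecN, ← Finset.sum_add_distrib, Pi.add_apply, add_smul]

theorem kap_add (a b : Fin 6 → ZMod 2) : kap (a + b) = kap a + kap b := by
  have h : kap a + kap b = cls (vecN ((fun i => ((a i).val : ℤ)) + fun i => ((b i).val : ℤ))) := by
    rw [vecN_add]; rfl
  rw [h, cls_vecN]
  refine congrArg kap (funext fun i => ?_)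
  simp only [Pi.add_apply, Int.cast_add, Int.cast_natCast, ZMod.natCast_zmod_val]

theorem cls_fixed {v : leechLattice} (h : sS • v = v) :
    cls v = kap fun i => (coefT (six v) i : ZMod 2) := by
  conv_lhs => rw [← fixed_eq_vecN h]
  exact cls_vecN _

theorem kap_injective : Function.Injective kap := by
  intro a b h
  obtain ⟨z, hz⟩ := Leech.cls_eq_iff.1 h
  have hzf : sS • z = z := by
    have h1 := congrArg (fun v => sS • v) hz
    simp only [Leech.smul_add', vecN_fixed] at h1
    rw [hz] at h1
    have h2 := add_left_cancel h1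
    refine Subtype.ext (funext fun p => ?_)
    have := congrArg (fun v : leechLattice => (v : GolayPt → ℤ) p) h2
    simp only [AddSubgroup.coe_add, Pi.add_apply] at this
    omega
  have h6 := congrArg six hz
  rw [map_add, map_add, six_vecN, six_vecN, ← fixed_eq_vecN hzf, six_vecN] at h6
  set c := coefT (six z) with hc
  have := congrArg coefT (show combT (fun i => ((a i).val : ℤ)) =
      combT (fun i => ((b i).val : ℤ) + (c i + c i)) by
    rw [h6]; funext i; fin_cases i <;> simp [combT] <;> ring)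
  rw [coefT_combT, coefT_combT] at this
  funext i
  have := congrFun this i
  have := ZMod.val_lt (a i); have := ZMod.val_lt (b i)
  exact ZMod.val_injective 2 (by omega)

theorem sS_pow_seven : sS ^ 7 = 1 := by
  rw [sS, ← map_pow, show sigM ^ 7 = 1 from Subtype.ext (Equiv.ext (show ∀ p, (sig ^ 7) p = p by decide +kernel)),
    map_one]

/-- every fixed class has a fixed representative -/
theorem exists_kap {v : leechLattice} (h : cls (sS • v) = cls v) : ∃ k, kap k = cls v := by
  have hpow : ∀ n, cls (sS ^ n • v) = cls v := by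
    intro n
    induction n with
    | zero => rw [pow_zero, one_smul]
    | succ n ih => rw [pow_succ', mul_smul, MonsterType.cls_smul sS ih, h]
  set w : leechLattice := ∑ n ∈ Finset.range 7, sS ^ n • v with hw
  have hfix : sS • w = w := by
    have hsum : sS • w = ∑ n ∈ Finset.range 7, sS ^ (n + 1) • v := by
      rw [hw, show (sS • ∑ n ∈ Finset.range 7, sS ^ n • v) =
        (AddMonoidHom.mk' (fun x : leechLattice => sS • x) (Leech.smul_add' sS)) (∑ n ∈ Finset.range 7, sS ^ n • v) from rfl,
        map_sum]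
      simp [pow_succ', mul_smul]
    have h1 := Finset.sum_range_succ' (fun n => sS ^ n • v) 7
    have h2 := Finset.sum_range_succ (fun n => sS ^ n • v) 7
    rw [h1, sS_pow_seven, pow_zero] at h2
    rw [hsum]
    exact add_right_cancel h2
  refine ⟨_, (cls_fixed hfix).symm.trans ?_⟩
  have : cls w = ∑ _n ∈ Finset.range 7, cls v := by
    show QuotientAddGroup.mk' Leech.twoSub w = _
    rw [hw, map_sum]
    exact Finset.sum_congr rfl fun n _ => hpow n
  rw [this, Finset.sum_const, Finset.card_range]
  have h2 : (2 : ℕ) • cls v = 0 := by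
    rw [two_nsmul]
    show cls (v + v) = cls 0
    exact Leech.cls_eq_iff.2 ⟨v, by simp⟩
  rw [show (7 : ℕ) = 2 * 3 + 1 from rfl, add_nsmul, mul_nsmul, h2, nsmul_zero, zero_add, one_nsmul]

/-- table of representatives -/
def repT (k : Fin 6 → ZMod 2) : Fin 6 → ℤ := fun i =>
  (repL.getD (∑ j, (k j).val * 2 ^ (j : ℕ)) []).getD (i : ℕ) 0

theorem repT_facts : ∀ k : Fin 6 → ZMod 2, combT (coefT (repT k)) = repT k ∧
    (fun i => (coefT (repT k) i : ZMod 2)) = k := by decide +kernel

/-- the representative of a fixed class -/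
def repV (k : Fin 6 → ZMod 2) : leechLattice := vecN (coefT (repT k))

theorem six_repV (k : Fin 6 → ZMod 2) : six (repV k) = repT k := by
  rw [repV, six_vecN, (repT_facts k).1]

theorem cls_repV (k : Fin 6 → ZMod 2) : cls (repV k) = kap k := by
  rw [repV, cls_vecN, (repT_facts k).2]

theorem repV_coe (k : Fin 6 → ZMod 2) : (repV k : GolayPt → ℤ) = spread (repT k) := by
  exact (spread_six (vecN_fixed _)).trans (congrArg spread (six_repV k))

/-- norm of a representative -/
def normK (k : Fin 6 → ZMod 2) : ℤ := sqNorm (spread (repT k))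

theorem normK_cases : ∀ k : Fin 6 → ZMod 2,
    normK k = 0 ∨ normK k = 32 ∨ normK k = 48 ∨ normK k = 64 := by decide +kernel

theorem card_frames : (Finset.univ.filter fun k : Fin 6 → ZMod 2 => normK k = 64).card = 14 := by
  decide +kernel

theorem nondeg : ∀ k : Fin 6 → ZMod 2, k ≠ 0 →
    ∃ l, (normK l = 32 ∨ normK l = 64) ∧ ¬ (16 : ℤ) ∣ dotInt (spread (repT k)) (spread (repT l)) := by
  decide +kernel

theorem layer_repV (k : Fin 6 → ZMod 2) : repV k ∈ Leech.layer (normK k) := by
  show sqNorm (repV k : GolayPt → ℤ) = _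
  rw [repV_coe]; rfl

theorem norm_of_cls {v : leechLattice} {N : ℤ} (hN : N ≤ 64) (hv : v ∈ Leech.layer N)
    {k : Fin 6 → ZMod 2} (h : kap k = cls v) : normK k = N := by
  by_contra hne
  have h64 : normK k ≤ 64 := by rcases normK_cases k with e | e | e | e <;> omega
  exact Set.disjoint_left.1 (Leech.image_disjoint h64 hN hne) ⟨repV k, layer_repV k, rfl⟩
    ⟨v, hv, by rw [← h, cls_repV]⟩

end Cfsg.Agent.HeldType
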