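import Mathlib
import Cfsg.Agent.HeldType.Six

/-! The monomial elements commuting with the element of order 7 and their action on fixed vectors. -/

set_option autoImplicit false
set_option maxRecDepth 8000

namespace Cfsg.Agent.HeldType
open Cfsg Cfsg.Agent Cfsg.Agent.Leech MonsterType
open Fin.NatCast

/-- the slot of a point -/
def slot (p : GolayPt) : Fin 6 :=
  if locJ.getD (idx p) 0 = 7 then Fin.ofNat 6 (locI.getD (idx p) 0)
  else Fin.ofNat 6 (3 + locI.getD (idx p) 0)

theorem spread_eq (t : Fin 6 → ℤ) (p : GolayPt) : spread t p = t (slot p) := by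
  unfold spread slot; split_ifs <;> rfl

theorem slot_sig : ∀ p, slot (sig p) = slot p := by decide +kernel

/-- six bits of a fixed code word -/
def wOf (i : Fin 8) (j : Fin 6) : ZMod 2 := if (signMasks.getD i 0).testBit j then 1 else 0

theorem wOf_code : ∀ w : Fin 6 → ZMod 2, Leech.dec (fun p => w (slot p)) = (fun p => w (slot p)) →
    ∃ i, w = wOf i := by decide +kernel

theorem cWord_dec : ∀ i : Fin 8, Leech.dec (fun p => wOf i (slot p)) = fun p => wOf i (slot p) := by
  decide +kernel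

/-- a fixed code word -/
def cWord (i : Fin 8) : Multiplicative ↥golayCode :=
  Multiplicative.ofAdd ⟨fun p => wOf i (slot p), (Leech.mem_iff _).2 (cWord_dec i)⟩

theorem cWord_inj : ∀ i j : Fin 8, (fun p => wOf i (slot p)) = (fun p => wOf j (slot p)) → i = j := by
  decide +kernel

/-- the permutation part of a centralising element -/
def piM (n : Fin 7) (e : Fin 6) : ↥M24 := sigM ^ n.val * ⟨parPerm e, parPerm_mem e⟩

theorem piM_coe (n : Fin 7) (e : Fin 6) :
    (piM n e : Equiv.Perm GolayPt) = sig ^ n.val * parPerm e := rfl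

theorem piM_inj : ∀ (n n' : Fin 7) (e e' : Fin 6),
    (∀ p, (sig ^ n.val * parPerm e) p = (sig ^ n'.val * parPerm e') p) → n = n' ∧ e = e' := by
  decide +kernel

/-- a monomial element commuting with the element of order 7 -/
def elem (i : Fin 8) (n : Fin 7) (e : Fin 6) : ↥Co0 := signHom (cWord i) * permHom (piM n e)

theorem elem_injective {i i' : Fin 8} {n n' : Fin 7} {e e' : Fin 6}
    (h : elem i n e = elem i' n' e') : i = i' ∧ n = n' ∧ e = e' := by
  obtain ⟨h1, h2⟩ := mono_inj h
  have hc := congrArg (fun c : Multiplicative ↥golayCode => c.toAdd.1) h1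
  refine ⟨cWord_inj _ _ hc, piM_inj _ _ _ _ fun p => ?_⟩
  rw [← piM_coe, ← piM_coe, h2]

theorem sS_signHom (c : Multiplicative ↥golayCode) :
    sS * signHom c = signHom (Multiplicative.ofAdd ⟨fun p => c.toAdd.1 (sig⁻¹ p),
      Leech.comp_mem_of_M24 (inv_mem sig_mem) c.toAdd.2⟩) * sS := by
  refine Leech.ext_of_oct fun i => Subtype.ext (funext fun q => ?_)
  show (((Leech.permCo0 _ sig_mem * Leech.signCo0 _ c.toAdd.2) • Leech.oct i : leechLattice) :
    GolayPt → ℤ) q = (((Leech.signCo0 (fun p => c.toAdd.1 (sig⁻¹ p))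
      (Leech.comp_mem_of_M24 (inv_mem sig_mem) c.toAdd.2) * Leech.permCo0 _ sig_mem) • Leech.oct i :
      leechLattice) : GolayPt → ℤ) q
  simp only [mul_smul, Leech.permCo0_apply, Leech.signCo0_apply, Leech.negOn]

theorem elem_comm (i : Fin 8) (n : Fin 7) (e : Fin 6) : sS * elem i n e = elem i n e * sS := by
  rw [elem, ← mul_assoc, sS_signHom, mul_assoc, mul_assoc]
  congr 1
  · refine congrArg signHom (Multiplicative.toAdd.injective (Subtype.ext (funext fun p => ?_)))
    show wOf i (slot (sig⁻¹ p)) = wOf i (slot p)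
    conv_rhs => rw [show p = sig (sig⁻¹ p) by simp, slot_sig]
  · rw [sS, ← map_mul, ← map_mul]
    refine congrArg permHom (Subtype.ext (Equiv.ext fun p => ?_))
    show sig ((sig ^ n.val) (parPerm e p)) = (sig ^ n.val) (parPerm e (sig p))
    rw [parPerm_comm, ← Equiv.Perm.mul_apply sig, ← pow_succ', ← Equiv.Perm.mul_apply (sig ^ n.val),
      ← pow_succ]

theorem elem_mem_frame (i : Fin 8) (n : Fin 7) (e : Fin 6) :
    elem i n e ∈ stabCls (Leech.oct none) :=
  mul_mem (sign_mem_frame _) (perm_mem_frame _)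

/-- the monomial part of the centraliser -/
theorem mono_cases {g : ↥Co0} (hg : g ∈ stabCls (Leech.oct none)) (hc : sS * g = g * sS) :
    ∃ i n e, g = elem i n e := by
  obtain ⟨c, π, rfl⟩ := frame_decomp hg
  have h' : sS * (signHom c * permHom π) = signHom (Multiplicative.ofAdd ⟨fun p => c.toAdd.1 (sig⁻¹ p),
      Leech.comp_mem_of_M24 (inv_mem sig_mem) c.toAdd.2⟩) * permHom (sigM * π) := by
    rw [← mul_assoc, sS_signHom, mul_assoc, map_mul]; rfl
  rw [h', mul_assoc (signHom c), sS, ← map_mul] at hc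
  obtain ⟨h1, h2⟩ := mono_inj hc
  have hπ : ∀ p, (π : Equiv.Perm GolayPt) (sig p) = sig ((π : Equiv.Perm GolayPt) p) := fun p =>
    (congrArg (fun τ : ↥M24 => (τ : Equiv.Perm GolayPt) p) h2).symm
  obtain ⟨n, e, he⟩ := commuting_cases π.2 hπ
  have hcs : ∀ p, c.toAdd.1 (sig p) = c.toAdd.1 p := fun p => by
    have := congrArg (fun c : Multiplicative ↥golayCode => c.toAdd.1 (sig p)) h1
    simpa using this.symm
  let sp : Fin 6 → GolayPt := ![fixPt 0, fixPt 1, fixPt 2, cycPt 0 0, cycPt 1 0, cycPt 2 0]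
  have hcy : ∀ (i : Fin 3) (m : ℕ), c.toAdd.1 (cycPt i (m : Fin 7)) = c.toAdd.1 (cycPt i 0) := by
    intro i m
    induction m with
    | zero => simp
    | succ m ih => rw [Nat.cast_succ, ← sig_cycPt, hcs, ih]
  have hcc : ∀ p, c.toAdd.1 p = c.toAdd.1 (sp (slot p)) := by
    intro p
    rcases pt_cases p with ⟨i, rfl⟩ | ⟨i, j, rfl⟩
    · have : ∀ i : Fin 3, sp (slot (fixPt i)) = fixPt i := by decide +kernel
      rw [this]
    · have : ∀ (i : Fin 3) (j : Fin 7), sp (slot (cycPt i j)) = cycPt i 0 := by decide +kernel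
      rw [this, ← hcy i j.val, Fin.cast_val_eq_self]
  obtain ⟨i, hi⟩ := wOf_code (fun j => c.toAdd.1 (sp j)) (by
    have := (Leech.mem_iff _).1 c.toAdd.2
    rwa [show c.toAdd.1 = fun p => c.toAdd.1 (sp (slot p)) from funext hcc] at this)
  refine ⟨i, n, e, ?_⟩
  rw [elem]
  congr 1
  · refine congrArg signHom (Multiplicative.toAdd.injective (Subtype.ext (funext fun p => ?_)))
    rw [hcc p]
    exact congrFun hi (slot p)
  · exact congrArg permHom (Subtype.ext he)

/-- source slot of a coordinate -/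
def srcE (e : Fin 6) (j : Fin 6) : Fin 6 :=
  if j.val < 3 then Fin.ofNat 6 ((parOf e).1.idxOf j.val)
  else Fin.ofNat 6 (3 + (parOf e).2.1.idxOf (j.val - 3))

theorem srcE_spec : ∀ (n : Fin 7) (e : Fin 6) (p : GolayPt),
    slot ((sig ^ n.val * parPerm e)⁻¹ p) = srcE e (slot p) := by decide +kernel

/-- action on six coordinates -/
def actT (i : Fin 8) (e : Fin 6) (t : Fin 6 → ℤ) : Fin 6 → ℤ := fun j =>
  if wOf i j = 0 then t (srcE e j) else -t (srcE e j)

theorem six_elem (i : Fin 8) (n : Fin 7) (e : Fin 6) {v : leechLattice} (h : sS • v = v) :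
    six (elem i n e • v) = actT i e (six v) := by
  have hv : ∀ p, ((elem i n e • v : leechLattice) : GolayPt → ℤ) p =
      if wOf i (slot p) = 0 then six v (srcE e (slot p)) else -six v (srcE e (slot p)) := by
    intro p
    rw [elem, mul_smul]
    show ((Leech.signCo0 _ (cWord i).toAdd.2 • (Leech.permCo0 _ (piM n e).2 • v) : leechLattice) :
      GolayPt → ℤ) p = _
    rw [Leech.signCo0_apply]
    simp only [Leech.negOn, Leech.permCo0_apply]
    rw [spread_six h, spread_eq, piM_coe, srcE_spec]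
    simp only [cWord, toAdd_ofAdd]
    split_ifs <;> simp_all
  have hs : slot (fixPt 0) = 0 ∧ slot (fixPt 1) = 1 ∧ slot (fixPt 2) = 2 ∧
      slot (cycPt 0 0) = 3 ∧ slot (cycPt 1 0) = 4 ∧ slot (cycPt 2 0) = 5 := by decide +kernel
  obtain ⟨s0, s1, s2, s3, s4, s5⟩ := hs
  funext j
  fin_cases j
  · exact (hv _).trans (by rw [s0]; rfl)
  · exact (hv _).trans (by rw [s1]; rfl)
  · exact (hv _).trans (by rw [s2]; rfl)
  · exact (hv _).trans (by rw [s3]; rfl)
  · exact (hv _).trans (by rw [s4]; rfl)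
  · exact (hv _).trans (by rw [s5]; rfl)

/-- action on fixed classes -/
def actK (i : Fin 8) (e : Fin 6) (k : Fin 6 → ZMod 2) : Fin 6 → ZMod 2 := fun j =>
  (coefT (actT i e (repT k)) j : ZMod 2)

theorem cls_elem (i : Fin 8) (n : Fin 7) (e : Fin 6) (k : Fin 6 → ZMod 2) :
    Leech.cls (elem i n e • repV k) = kap (actK i e k) := by
  have hf : sS • repV k = repV k := vecN_fixed _
  have hf' : sS • (elem i n e • repV k) = elem i n e • repV k := by
    rw [← mul_smul, elem_comm, mul_smul, hf]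
  rw [cls_fixed hf', six_elem i n e hf, six_repV]
  rfl

end Cfsg.Agent.HeldType
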