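import Mathlib
import Cfsg.Agent.HeldType.Mono
import Cfsg.Agent.Leech.Transitive
import Cfsg.Agent.S0364

/-! The centraliser of the element of order 7 in the automorphism group of the lattice,
through its action on the fixed coordinate frames modulo two. -/

set_option autoImplicit false
set_option maxRecDepth 8000

namespace Cfsg.Agent.HeldType
open Cfsg Cfsg.Agent Cfsg.Agent.Leech MonsterType
open scoped Pointwise

/-- stabiliser of the standard frame -/
abbrev frameStab : Subgroup ↥Co0 := stabCls (Leech.oct none)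

/-- the centraliser of the element of order 7 -/
abbrev cent7 : Subgroup ↥Co0 := Subgroup.centralizer ({sS} : Set ↥Co0)

theorem mem_cent7 {g : ↥Co0} : g ∈ cent7 ↔ g * sS = sS * g := Subgroup.mem_centralizer_singleton_iff

theorem orderOf_sS : orderOf sS = 7 := by
  have : Fact (Nat.Prime 7) := ⟨by norm_num⟩
  refine orderOf_eq_prime sS_pow_seven fun h => ?_
  obtain ⟨-, h2⟩ := mono_inj (c := 1) (d := 1) (σ := sigM) (τ := 1) (by simpa [sS] using h)
  exact cyc_not_fixed 0 0 (congrArg (fun τ : ↥M24 => (τ : Equiv.Perm GolayPt) (cycPt 0 0)) h2)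

/-- the permutation conjugating to the square, as a lattice automorphism -/
def twoS : ↥Co0 := permHom ⟨two, two_mem⟩

theorem twoS_conj : twoS * sS = sS ^ 2 * twoS := by
  rw [twoS, sS, ← map_pow, ← map_mul, ← map_mul]
  exact congrArg permHom (Subtype.ext (Equiv.ext two_conj))

theorem sigGen_g : sigGen.g = sS := by
  show Leech.permCo0 _ _ * Leech.signCo0 (Leech.bitWord 0) _ = _
  simp only [Leech.bitWord_zero, Leech.signCo0_zero, mul_one]
  rfl

/-- a lattice automorphism inverting the element of order 7 -/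
def invS : ↥Co0 := invGen.g

theorem oct_list : ∀ p : GolayPt, Leech.toL (Leech.oct p : GolayPt → ℤ) =
    (List.range 24).map fun b => if b = Leech.idx p then (8 : ℤ) else 0 := by decide +kernel

theorem invS_conj : invS * sS = sS ^ 6 * invS := by
  refine Leech.ext_of_oct fun p => Subtype.ext (Leech.toL_injective ?_)
  have hl := beq_iff_eq.1 (List.all_eq_true.1 inv_conj_lists (Leech.idx p) (List.mem_range.2 (Leech.idx_lt p)))
  simp only [mul_smul, pow_succ, pow_zero, one_mul, invS, ← sigGen_g, invGen.spec, sigGen.spec, oct_list]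
  exact hl

theorem orderOf_conj7 (g : ↥Co0) : orderOf (g * sS * g⁻¹) = 7 := by
  have h := orderOf_injective (MulAut.conj g).toMonoidHom (MulAut.conj g).injective sS
  simp only [MulEquiv.coe_toMonoidHom, MulAut.conj_apply] at h
  rw [h, orderOf_sS]

theorem sS_mem_frame : sS ∈ frameStab := perm_mem_frame sigM

theorem card_frameStab : Nat.card ↥frameStab = 4096 * 244823040 := by
  have hC : Nat.card (Multiplicative ↥golayCode) = 4096 := by
    rw [Nat.card_congr Multiplicative.toAdd, Module.natCard_eq_pow_finrank (K := ZMod 2),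
      Leech.finrank_golayCode]
    simp
  rw [← hC, ← S0364.result, ← Nat.card_prod]
  refine (Nat.card_congr (Equiv.ofBijective
    (fun x : Multiplicative ↥golayCode × ↥M24 => (⟨signHom x.1 * permHom x.2,
      mul_mem (sign_mem_frame _) (perm_mem_frame _)⟩ : ↥frameStab)) ⟨?_, ?_⟩)).symm
  · intro a b h
    obtain ⟨h1, h2⟩ := mono_inj (congrArg Subtype.val h)
    exact Prod.ext h1 h2
  · rintro ⟨g, hg⟩
    obtain ⟨c, σ, rfl⟩ := frame_decomp hg
    exact ⟨(c, σ), rfl⟩

/-- an element of order 7 of the frame stabiliser is conjugate to the fixed one or its inverse -/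
theorem frame_sylow {t : ↥Co0} (ht : t ∈ frameStab) (ho : orderOf t = 7) :
    ∃ n ∈ frameStab, n * t * n⁻¹ = sS ∨ n * t * n⁻¹ = sS ^ 6 := by
  have := Leech.finite_co0
  have : Fact (Nat.Prime 7) := ⟨by norm_num⟩
  have hsy : ∀ x : ↥frameStab, orderOf (x : ↥Co0) = 7 →
      ∃ P : Sylow 7 ↥frameStab, (P : Subgroup ↥frameStab) = Subgroup.zpowers x := by
    intro x hx
    rw [Subgroup.orderOf_coe] at hx
    refine ⟨Sylow.ofCard (Subgroup.zpowers x) ?_, rfl⟩
    rw [Nat.card_zpowers, hx, card_frameStab]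
    have : Nat.factorization (4096 * 244823040) 7 = 1 := by
      rw [Nat.factorization_def _ (by norm_num : Nat.Prime 7),
        show (4096 : ℕ) * 244823040 = 7 ^ 1 * 143256453120 from by norm_num,
        padicValNat.mul (by norm_num) (by norm_num), padicValNat.prime_pow,
        padicValNat.eq_zero_of_not_dvd (by norm_num)]
    rw [this, pow_one]
  obtain ⟨P, hP⟩ := hsy ⟨t, ht⟩ ho
  obtain ⟨R, hR⟩ := hsy ⟨sS, sS_mem_frame⟩ orderOf_sS
  obtain ⟨n, hn⟩ := MulAction.exists_smul_eq ↥frameStab P R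
  have hmem : n * ⟨t, ht⟩ * n⁻¹ ∈ (R : Subgroup ↥frameStab) := by
    rw [← hn, Sylow.coe_subgroup_smul]
    exact ⟨⟨t, ht⟩, by rw [hP]; exact Subgroup.mem_zpowers _, by simp⟩
  classical
  rw [hR, mem_zpowers_iff_mem_range_orderOf, Finset.mem_image] at hmem
  obtain ⟨k, hk, hke⟩ := hmem
  rw [Finset.mem_range, ← Subgroup.orderOf_coe, orderOf_sS] at hk
  have e : sS ^ k = (n : ↥Co0) * t * (n : ↥Co0)⁻¹ := by
    have := congrArg Subtype.val hke
    simpa using this
  have hne : k ≠ 0 := by
    rintro rfl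
    rw [pow_zero, eq_comm, mul_inv_eq_one, mul_eq_left] at e
    rw [e, orderOf_one] at ho
    omega
  have h2 : ∀ m, twoS * sS ^ m = sS ^ (2 * m) * twoS := by
    intro m
    induction m with
    | zero => simp
    | succ m ih => rw [pow_succ, ← mul_assoc, ih, mul_assoc, twoS_conj, ← mul_assoc, ← pow_add, mul_add]
  have h2' : ∀ m, twoS * sS ^ m * twoS⁻¹ = sS ^ (2 * m % 7) := fun m => by
    rw [h2, mul_inv_cancel_right, ← pow_mod_orderOf, orderOf_sS]
  have hT : twoS ∈ frameStab := perm_mem_frame _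
  have key : ∀ j : ℕ, ∃ n' ∈ frameStab, n' * t * n'⁻¹ = sS ^ (2 ^ j * k % 7) := by
    intro j
    induction j with
    | zero => exact ⟨n, n.2, by rw [pow_zero, one_mul, Nat.mod_eq_of_lt hk, e]⟩
    | succ j ih =>
      obtain ⟨n', hn', he⟩ := ih
      refine ⟨twoS * n', mul_mem hT hn', ?_⟩
      rw [show twoS * n' * t * (twoS * n')⁻¹ = twoS * (n' * t * n'⁻¹) * twoS⁻¹ by group, he, h2']
      congr 1
      rw [Nat.pow_succ, show 2 ^ j * 2 * k = 2 * (2 ^ j * k) by ring]
      omega
  have hex : ∃ j, 2 ^ j * k % 7 = 1 ∨ 2 ^ j * k % 7 = 6 := by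
    interval_cases k
    · omega
    all_goals first
      | exact ⟨0, Or.inl rfl⟩ | exact ⟨1, Or.inl rfl⟩ | exact ⟨2, Or.inl rfl⟩
      | exact ⟨0, Or.inr rfl⟩ | exact ⟨1, Or.inr rfl⟩ | exact ⟨2, Or.inr rfl⟩
  obtain ⟨j, hj⟩ := hex
  obtain ⟨n', hn', he⟩ := key j
  refine ⟨n', hn', ?_⟩
  rcases hj with hj | hj <;> rw [hj] at he
  · exact Or.inl (he.trans (pow_one _))
  · exact Or.inr he

theorem no_inverting_frame {y : ↥Co0} (hy : y ∈ frameStab) (h : y * sS = sS ^ 6 * y) : False := by
  obtain ⟨c, π, rfl⟩ := frame_decomp hy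
  obtain ⟨d, hd⟩ := perm_sign_conj (sigM ^ 6) c
  rw [mul_inv_eq_iff_eq_mul] at hd
  rw [sS, ← map_pow, ← mul_assoc (permHom (sigM ^ 6)), hd, mul_assoc, mul_assoc, ← map_mul, ← map_mul] at h
  obtain ⟨-, h2⟩ := mono_inj h
  refine no_inverting π.2 fun p => ?_
  have := congrArg (fun τ : ↥M24 => (τ : Equiv.Perm GolayPt) p) h2
  simp only [Subgroup.coe_mul, SubgroupClass.coe_pow, Equiv.Perm.mul_apply, sig_pow_apply] at this
  exact this

theorem clsSmul_add (g : ↥Co0) {v a b : leechLattice} (h : cls v = cls a + cls b) :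
    cls (g • v) = cls (g • a) + cls (g • b) := by
  have h' : cls v = cls (a + b) := h
  rw [MonsterType.cls_smul g h', Leech.smul_add']
  rfl

/-- action on fixed classes -/
def mapK (g : ↥Co0) (k : Fin 6 → ZMod 2) : Fin 6 → ZMod 2 := fun j =>
  (coefT (six (g • repV k)) j : ZMod 2)

/-- elements preserving the fixed vectors -/
def Keeps (g : ↥Co0) : Prop := ∀ v : leechLattice, sS • v = v → sS • (g • v) = g • v

theorem keeps_cent {g : ↥Co0} (hg : g ∈ cent7) : Keeps g := fun v hv => by
  rw [← mul_smul, ← mem_cent7.1 hg, mul_smul, hv]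

theorem keeps_invS : Keeps invS := fun v hv => by
  have h : ∀ m : ℕ, (sS ^ 6) ^ m • (invS • v) = invS • v := by
    intro m
    induction m with
    | zero => simp
    | succ m ih =>
      have h1 : sS ^ 6 • (invS • v) = invS • v := by rw [← mul_smul, ← invS_conj, mul_smul, hv]
      rw [pow_succ, mul_smul, h1, ih]
  have h36 : (sS ^ 6) ^ 6 = sS := by
    rw [← pow_mul, ← pow_mod_orderOf, orderOf_sS]
    norm_num
  have := h 6
  rwa [h36] at this

theorem kap_mapK {g : ↥Co0} (hg : Keeps g) (k : Fin 6 → ZMod 2) :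
    kap (mapK g k) = cls (g • repV k) := (cls_fixed (hg _ (vecN_fixed _))).symm

theorem mapK_add {g : ↥Co0} (hg : Keeps g) (a b : Fin 6 → ZMod 2) :
    mapK g (a + b) = mapK g a + mapK g b := by
  refine kap_injective ?_
  rw [kap_add, kap_mapK hg, kap_mapK hg, kap_mapK hg]
  exact clsSmul_add g (by rw [cls_repV, cls_repV, cls_repV, kap_add])

theorem mapK_injective {g : ↥Co0} (hg : Keeps g) : Function.Injective (mapK g) := by
  intro a b h
  have h1 := congrArg kap h
  rw [kap_mapK hg, kap_mapK hg] at h1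
  have h2 := MonsterType.cls_smul g⁻¹ h1
  rw [inv_smul_smul, inv_smul_smul, cls_repV, cls_repV] at h2
  exact kap_injective h2

theorem mapK_mul {g h : ↥Co0} (hg : Keeps g) (hh : Keeps h) (k : Fin 6 → ZMod 2) :
    mapK (g * h) k = mapK g (mapK h k) := by
  refine kap_injective ?_
  rw [kap_mapK (fun v hv => by rw [mul_smul]; exact hg _ (hh _ hv)), kap_mapK hg, mul_smul]
  exact MonsterType.cls_smul g (by rw [← kap_mapK hh, cls_repV])

theorem mapK_one (k : Fin 6 → ZMod 2) : mapK 1 k = k :=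
  kap_injective (by rw [kap_mapK (fun v hv => by simpa using hv), one_smul, cls_repV])

instance : MulAction ↥cent7 (Fin 6 → ZMod 2) where
  smul g k := mapK g k
  one_smul k := mapK_one k
  mul_smul g h k := mapK_mul (keeps_cent g.2) (keeps_cent h.2) k

theorem cent_smul_def (g : ↥cent7) (k : Fin 6 → ZMod 2) : g • k = mapK g k := rfl

/-- the class of the standard frame -/
def kStd : Fin 6 → ZMod 2 := ![0, 0, 0, 0, 0, 1]

theorem oct_fixed : sS • Leech.oct none = Leech.oct none :=
  Subtype.ext (funext fun p => by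
    show ((Leech.permCo0 sig sig_mem • Leech.oct none : leechLattice) : GolayPt → ℤ) p = _
    rw [Leech.permCo0_apply]
    have : ∀ p, (Leech.oct none : GolayPt → ℤ) (sig⁻¹ p) = (Leech.oct none : GolayPt → ℤ) p := by decide +kernel
    exact this p)

theorem kap_kStd : kap kStd = cls (Leech.oct none) := by
  rw [cls_fixed oct_fixed]
  exact congrArg kap (show kStd = fun i => (coefT (six (Leech.oct none)) i : ZMod 2) by decide +kernel)

theorem cls_rep_std : cls (repV kStd) = cls (Leech.oct none) := by rw [cls_repV, kap_kStd]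

theorem stab_eq : MulAction.stabilizer ↥cent7 kStd = frameStab.subgroupOf cent7 := by
  ext g
  rw [MulAction.mem_stabilizer_iff, Subgroup.mem_subgroupOf, cent_smul_def, ← kap_injective.eq_iff,
    kap_mapK (keeps_cent g.2), kap_kStd, MonsterType.mem_stabCls,
    MonsterType.cls_smul _ cls_rep_std]

theorem elem_cent (i : Fin 8) (n : Fin 7) (e : Fin 6) : elem i n e ∈ cent7 :=
  mem_cent7.2 (elem_comm i n e).symm

theorem card_frame_cent : Nat.card ↥(frameStab.subgroupOf cent7) = 336 := by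
  rw [show 336 = Nat.card (Fin 8 × Fin 7 × Fin 6) by simp]
  refine (Nat.card_congr (Equiv.ofBijective
    (fun x : Fin 8 × Fin 7 × Fin 6 => (⟨⟨_, elem_cent x.1 x.2.1 x.2.2⟩,
      Subgroup.mem_subgroupOf.2 (elem_mem_frame x.1 x.2.1 x.2.2)⟩ : ↥(frameStab.subgroupOf cent7)))
      ⟨?_, ?_⟩)).symm
  · intro a b h
    obtain ⟨h1, h2, h3⟩ := elem_injective (congrArg (fun g : ↥(frameStab.subgroupOf cent7) =>
      ((g : ↥cent7) : ↥Co0)) h)
    exact Prod.ext h1 (Prod.ext h2 h3)
  · rintro ⟨⟨g, hg⟩, hm⟩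
    obtain ⟨i, n, e, rfl⟩ := mono_cases (Subgroup.mem_subgroupOf.1 hm) (mem_cent7.1 hg).symm
    exact ⟨(i, n, e), rfl⟩

/-- the fixed frames in the orbit of the standard one -/
abbrev orbStd : Set (Fin 6 → ZMod 2) := MulAction.orbit ↥cent7 kStd

theorem normK_mapK {g : ↥Co0} (hg : Keeps g) (k : Fin 6 → ZMod 2) : normK (mapK g k) = normK k := by
  refine norm_of_cls (v := g • repV k) ?_ ?_ (kap_mapK hg k)
  · rcases normK_cases k with e | e | e | e <;> omega
  · show sqNorm _ = _
    rw [Leech.sqNorm_smul]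
    exact layer_repV k

theorem normK_std : normK kStd = 64 := by decide +kernel

theorem swap_pow {x : ↥Co0} (h : x * sS = sS ^ 6 * x) : x * sS ^ 6 = sS * x := by
  have h6 : x * sS ^ 6 = (sS ^ 6) ^ 6 * x := SemiconjBy.pow_right (show SemiconjBy x sS (sS ^ 6) from h) 6
  rw [h6, ← pow_mul, ← pow_mod_orderOf, orderOf_sS]
  norm_num

theorem frames_eq : {k | normK k = 64} = orbStd ∪ mapK invS '' orbStd := by
  refine Set.Subset.antisymm (fun k hk => ?_) ?_
  · obtain ⟨g, hg⟩ := Leech.reach (repV k) (by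
      have := layer_repV k
      rwa [show normK k = 64 from hk] at this)
    obtain ⟨y, hy, hye⟩ := Leech.stdCross_congr hg (Leech.oct_mem_stdCross none)
    have hcl : cls (g • repV k) = cls (Leech.oct none) := Leech.cls_eq.2 ⟨y, hy, hye⟩
    have ht : g * sS * g⁻¹ ∈ frameStab := by
      rw [MonsterType.mem_stabCls, ← MonsterType.cls_smul _ hcl, ← mul_smul,
        inv_mul_cancel_right, mul_smul, show sS • repV k = repV k from vecN_fixed _, hcl]
    obtain ⟨n, hn, hcase⟩ := frame_sylow ht (orderOf_conj7 g)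
    have hh : cls ((n * g) • repV k) = cls (Leech.oct none) := by
      rw [mul_smul, MonsterType.cls_smul n hcl]; exact hn
    have hconj : n * (g * sS * g⁻¹) * n⁻¹ = (n * g) * sS * (n * g)⁻¹ := by group
    rw [hconj] at hcase
    rcases hcase with e | e
    · left
      have hc : n * g ∈ cent7 := mem_cent7.2 (mul_inv_eq_iff_eq_mul.1 e)
      refine ⟨(⟨_, hc⟩ : ↥cent7)⁻¹, ?_⟩
      show _ • kStd = k
      rw [inv_smul_eq_iff]
      refine kap_injective ?_
      rw [cent_smul_def, kap_mapK (keeps_cent hc), kap_kStd]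
      exact hh.symm
    · right
      set h := n * g with hh'
      have e1 : h * sS = sS ^ 6 * h := mul_inv_eq_iff_eq_mul.1 e
      have hc' : invS⁻¹ * h⁻¹ ∈ cent7 := by
        have a1 : h⁻¹ * sS = sS ^ 6 * h⁻¹ := by
          rw [inv_mul_eq_iff_eq_mul, ← mul_assoc, swap_pow e1, mul_inv_cancel_right]
        have a2 : invS⁻¹ * sS ^ 6 = sS * invS⁻¹ := by
          rw [inv_mul_eq_iff_eq_mul, ← mul_assoc, invS_conj, mul_inv_cancel_right]
        exact mem_cent7.2 (by rw [mul_assoc, a1, ← mul_assoc, a2, mul_assoc])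
      refine ⟨(⟨_, hc'⟩ : ↥cent7) • kStd, MulAction.mem_orbit _ _, ?_⟩
      refine kap_injective ?_
      rw [kap_mapK keeps_invS, MonsterType.cls_smul invS
        (show cls (repV ((⟨_, hc'⟩ : ↥cent7) • kStd)) = cls ((invS⁻¹ * h⁻¹) • Leech.oct none) by
          rw [cls_repV, cent_smul_def, kap_mapK (keeps_cent hc')]
          exact MonsterType.cls_smul _ cls_rep_std),
        ← mul_smul, mul_inv_cancel_left, ← cls_repV]
      have := MonsterType.cls_smul h⁻¹ hh
      rw [inv_smul_smul] at this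
      exact this.symm
  · rintro k (⟨g, rfl⟩ | ⟨k', ⟨g, rfl⟩, rfl⟩)
    · exact (normK_mapK (keeps_cent g.2) _).trans normK_std
    · exact (normK_mapK keeps_invS _).trans ((normK_mapK (keeps_cent g.2) _).trans normK_std)

theorem frames_disjoint : Disjoint orbStd (mapK invS '' orbStd) := by
  rw [Set.disjoint_left]
  rintro _ ⟨a, rfl⟩ ⟨_, ⟨b, rfl⟩, h⟩
  have h1 := congrArg kap h
  simp only [cent_smul_def] at h1
  rw [kap_mapK keeps_invS, kap_mapK (keeps_cent a.2)] at h1
  have hb : cls (repV (b • kStd)) = cls ((b : ↥Co0) • Leech.oct none) := by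
    rw [cls_repV, cent_smul_def, kap_mapK (keeps_cent b.2)]
    exact MonsterType.cls_smul _ cls_rep_std
  simp only [cent_smul_def] at hb
  rw [MonsterType.cls_smul invS hb, MonsterType.cls_smul _ cls_rep_std, ← mul_smul] at h1
  have h2 := MonsterType.cls_smul (a : ↥Co0)⁻¹ h1
  rw [inv_smul_smul, ← mul_smul] at h2
  refine no_inverting_frame (MonsterType.mem_stabCls.2 h2) ?_
  have ha : (a : ↥Co0)⁻¹ * sS ^ 6 = sS ^ 6 * (a : ↥Co0)⁻¹ :=
    ((Commute.pow_right (mem_cent7.1 a.2) 6).inv_left).eq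
  calc (a : ↥Co0)⁻¹ * (invS * b) * sS = (a : ↥Co0)⁻¹ * (invS * (b * sS)) := by group
    _ = (a : ↥Co0)⁻¹ * (invS * sS) * b := by rw [mem_cent7.1 b.2]; group
    _ = (a : ↥Co0)⁻¹ * sS ^ 6 * (invS * b) := by rw [invS_conj]; group
    _ = sS ^ 6 * ((a : ↥Co0)⁻¹ * (invS * b)) := by rw [ha]; group

theorem ncard_orbStd : orbStd.ncard = 7 := by
  have h := congrArg Set.ncard frames_eq
  rw [Set.ncard_union_eq frames_disjoint, Set.ncard_image_of_injective _ (mapK_injective keeps_invS)] at h
  have h14 : ({k | normK k = 64} : Set (Fin 6 → ZMod 2)).ncard = 14 := by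
    rw [← card_frames, ← Set.ncard_coe_finset]
    congr 1
    ext k; simp
  omega

theorem card_cent7 : Nat.card ↥cent7 = 2352 := by
  have := Leech.finite_co0
  have h := (MulAction.stabilizer ↥cent7 kStd).card_mul_index
  rw [MulAction.index_stabilizer, ncard_orbStd, stab_eq, card_frame_cent] at h
  omega

end Cfsg.Agent.HeldType
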