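import Mathlib
import Cfsg.Agent.HeldType.Frames
import Cfsg.Agent.Classical.LinearBasic

/-! The centraliser of the element of order 7 modulo that element is the linear group of degree 3
over the field with two elements. -/

set_option autoImplicit false
set_option maxRecDepth 8000

namespace Cfsg.Agent.HeldType
open Cfsg Cfsg.Agent Cfsg.Agent.Leech MonsterType
open Fin.NatCast

/-- embedding of the plane spanned by the standard orbit -/
def iota (w : Fin 3 → ZMod 2) : Fin 6 → ZMod 2 := ![0, w 2, w 1, w 1, w 2, w 0]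

/-- coordinates on that plane -/
def proj3 (k : Fin 6 → ZMod 2) : Fin 3 → ZMod 2 := ![k 5, k 2, k 1]

/-- membership of that plane -/
def InW (k : Fin 6 → ZMod 2) : Prop := k 0 = 0 ∧ k 2 = k 3 ∧ k 1 = k 4

instance (k : Fin 6 → ZMod 2) : Decidable (InW k) := by unfold InW; infer_instance

theorem iota_facts : (∀ w, InW (iota w) ∧ proj3 (iota w) = w) ∧ (∀ k, InW k → iota (proj3 k) = k) ∧
    (∀ a b, iota (a + b) = iota a + iota b) ∧ (∀ a b, proj3 (a + b) = proj3 a + proj3 b) := by
  decide +kernel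

/-- the other frame of the plane -/
def IsSix (k : Fin 6 → ZMod 2) : Prop := InW k ∧ k ≠ 0 ∧ k ≠ kStd
/-- the orbit of three frames outside the plane -/
def IsThree (k : Fin 6 → ZMod 2) : Prop := normK k = 64 ∧ ¬ InW k ∧ k 0 = 0
/-- the orbit of four frames outside the plane -/
def IsFour (k : Fin 6 → ZMod 2) : Prop := normK k = 64 ∧ ¬ InW k ∧ k 0 = 1

instance (k : Fin 6 → ZMod 2) : Decidable (IsSix k) := by unfold IsSix; infer_instance
instance (k : Fin 6 → ZMod 2) : Decidable (IsThree k) := by unfold IsThree; infer_instance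
instance (k : Fin 6 → ZMod 2) : Decidable (IsFour k) := by unfold IsFour; infer_instance

theorem split_facts : (∀ k, normK k = 64 → k = kStd ∨ IsSix k ∨ IsThree k ∨ IsFour k) ∧
    (Finset.univ.filter IsSix).card = 6 ∧ (Finset.univ.filter IsThree).card = 3 ∧
    (Finset.univ.filter IsFour).card = 4 ∧
    (Finset.univ.filter fun k => InW k ∧ k ≠ 0).card = 7 ∧
    (Finset.univ.filter fun k => k = kStd ∨ IsThree k ∨ IsFour k).card = 8 := by decide +kernel

theorem six_conn : ∀ k l : Fin 6 → ZMod 2, IsSix k → IsSix l → ∃ i e, actK i e k = l := by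
  decide +kernel

theorem three_conn : ∀ k l : Fin 6 → ZMod 2, IsThree k → IsThree l → ∃ i e, actK i e k = l := by
  decide +kernel

theorem four_conn : ∀ k l : Fin 6 → ZMod 2, IsFour k → IsFour l → ∃ i e, actK i e k = l := by
  decide +kernel

theorem mapK_elem (i : Fin 8) (n : Fin 7) (e : Fin 6) (k : Fin 6 → ZMod 2) :
    mapK (elem i n e) k = actK i e k :=
  kap_injective ((kap_mapK (keeps_cent (elem_cent i n e)) k).trans (cls_elem i n e k))

theorem orb_closed {k l : Fin 6 → ZMod 2} (hk : k ∈ orbStd) (h : ∃ i e, actK i e k = l) : l ∈ orbStd := by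
  obtain ⟨i, e, rfl⟩ := h
  rw [← mapK_elem i 0 e k]
  exact MulAction.mem_orbit_of_mem_orbit (⟨_, elem_cent i 0 e⟩ : ↥cent7) hk

theorem orbStd_eq : orbStd = {k | InW k ∧ k ≠ 0} := by
  obtain ⟨hsplit, h6, h3, h4, h7, h8⟩ := split_facts
  have hstd : kStd ∈ orbStd := MulAction.mem_orbit_self _
  have hfr : ∀ k ∈ orbStd, normK k = 64 := fun k hk => by
    have := frames_eq.ge (Or.inl hk)
    exact this
  have hcard := ncard_orbStd
  by_cases hs : ∃ k ∈ orbStd, IsSix k
  · obtain ⟨k, hk, hks⟩ := hs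
    have hsub : {k | InW k ∧ k ≠ 0} ⊆ orbStd := by
      rintro l ⟨hl, hl0⟩
      by_cases h : l = kStd
      · exact h ▸ hstd
      · exact orb_closed hk (six_conn k l hks ⟨hl, hl0, h⟩)
    refine (Set.eq_of_subset_of_ncard_le hsub ?_ (Set.toFinite _)).symm
    rw [hcard, ← h7, ← Set.ncard_coe_finset]
    exact le_of_eq (congrArg Set.ncard (by ext; simp))
  · exfalso
    push Not at hs
    have h3e : ∃ k ∈ orbStd, IsThree k := by
      by_contra hc
      push Not at hc
      have hsub : orbStd ⊆ ↑(insert kStd (Finset.univ.filter IsFour)) := by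
        intro k hk
        rcases hsplit k (hfr k hk) with h | h | h | h
        · simp [h]
        · exact absurd h (hs k hk)
        · exact absurd h (hc k hk)
        · simp [h]
      have := Set.ncard_le_ncard hsub (Set.toFinite _)
      rw [hcard, Set.ncard_coe_finset] at this
      have := Finset.card_insert_le kStd (Finset.univ.filter IsFour)
      omega
    have h4e : ∃ k ∈ orbStd, IsFour k := by
      by_contra hc
      push Not at hc
      have hsub : orbStd ⊆ ↑(insert kStd (Finset.univ.filter IsThree)) := by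
        intro k hk
        rcases hsplit k (hfr k hk) with h | h | h | h
        · simp [h]
        · exact absurd h (hs k hk)
        · simp [h]
        · exact absurd h (hc k hk)
      have := Set.ncard_le_ncard hsub (Set.toFinite _)
      rw [hcard, Set.ncard_coe_finset] at this
      have := Finset.card_insert_le kStd (Finset.univ.filter IsThree)
      omega
    obtain ⟨a, ha, ha3⟩ := h3e
    obtain ⟨b, hb, hb4⟩ := h4e
    have hsub : ↑(Finset.univ.filter fun k => k = kStd ∨ IsThree k ∨ IsFour k) ⊆ orbStd := by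
      intro k hk
      simp only [Finset.coe_filter, Finset.mem_univ, true_and, Set.mem_ofPred_eq] at hk
      rcases hk with h | h | h
      · exact h ▸ hstd
      · exact orb_closed ha (three_conn a k ha3 h)
      · exact orb_closed hb (four_conn b k hb4 h)
    have := Set.ncard_le_ncard hsub (Set.toFinite _)
    rw [Set.ncard_coe_finset, h8, hcard] at this
    omega

theorem mapK_zero {g : ↥Co0} (hg : Keeps g) : mapK g 0 = 0 := by
  have := mapK_add hg 0 0
  simpa using this

theorem inW_mapK (g : ↥cent7) {k : Fin 6 → ZMod 2} (hk : InW k) : InW (mapK g k) := by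
  by_cases h : k = 0
  · subst h
    rw [mapK_zero (keeps_cent g.2)]
    exact ⟨rfl, rfl, rfl⟩
  · have hm : k ∈ orbStd := orbStd_eq.ge ⟨hk, h⟩
    exact (orbStd_eq.le (MulAction.mem_orbit_of_mem_orbit g hm)).1

/-- the induced additive map of the plane -/
def planeMap (g : ↥cent7) : (Fin 3 → ZMod 2) →+ (Fin 3 → ZMod 2) :=
  AddMonoidHom.mk' (fun w => proj3 (mapK g (iota w))) fun a b => by
    rw [iota_facts.2.2.1, mapK_add (keeps_cent g.2), iota_facts.2.2.2]

theorem iota_planeMap (g : ↥cent7) (w : Fin 3 → ZMod 2) :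
    iota (planeMap g w) = mapK g (iota w) :=
  iota_facts.2.1 _ (inW_mapK g (iota_facts.1 w).1)

/-- its matrix -/
noncomputable def planeMat (g : ↥cent7) : Matrix (Fin 3) (Fin 3) (ZMod 2) :=
  LinearMap.toMatrix' ((planeMap g).toZModLinearMap 2)

theorem planeMat_mulVec (g : ↥cent7) (w : Fin 3 → ZMod 2) :
    (planeMat g).mulVec w = planeMap g w := by
  rw [← Matrix.toLin'_apply, planeMat, Matrix.toLin'_toMatrix']
  rfl

theorem planeMat_mul (g h : ↥cent7) : planeMat (g * h) = planeMat g * planeMat h := by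
  refine Matrix.ext_of_mulVec_single fun i => ?_
  rw [← Matrix.mulVec_mulVec, planeMat_mulVec, planeMat_mulVec, planeMat_mulVec]
  show proj3 (mapK ((g : ↥Co0) * h) _) = proj3 (mapK g (iota (planeMap h _)))
  rw [iota_planeMap, mapK_mul (keeps_cent g.2) (keeps_cent h.2)]

theorem planeMat_one : planeMat 1 = 1 := by
  refine Matrix.ext_of_mulVec_single fun i => ?_
  rw [Matrix.one_mulVec, planeMat_mulVec]
  show proj3 (mapK 1 _) = _
  rw [mapK_one, (iota_facts.1 _).2]

theorem planeMat_det (g : ↥cent7) : (planeMat g).det = 1 := by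
  have h : (planeMat g).det * (planeMat g⁻¹).det = 1 := by
    rw [← Matrix.det_mul, ← planeMat_mul, mul_inv_cancel, planeMat_one, Matrix.det_one]
  rcases (show ∀ x : ZMod 2, x = 0 ∨ x = 1 by decide) (planeMat g).det with e | e
  · rw [e, zero_mul] at h
    exact absurd h zero_ne_one
  · exact e

/-- the representation on the plane -/
noncomputable def phi : ↥cent7 →* Matrix.SpecialLinearGroup (Fin 3) (ZMod 2) where
  toFun g := ⟨planeMat g, planeMat_det g⟩
  map_one' := Subtype.ext planeMat_one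
  map_mul' g h := Subtype.ext (planeMat_mul g h)

theorem phi_eq_one {g : ↥cent7} : phi g = 1 ↔ ∀ w, mapK g (iota w) = iota w := by
  constructor
  · intro h w
    have h' : planeMat g = 1 := congrArg Subtype.val h
    rw [← iota_planeMap, ← planeMat_mulVec, h', Matrix.one_mulVec]
  · intro h
    refine Subtype.ext (Matrix.ext_of_mulVec_single fun i => ?_)
    show (planeMat g).mulVec _ = (1 : Matrix (Fin 3) (Fin 3) (ZMod 2)).mulVec _
    rw [Matrix.one_mulVec, planeMat_mulVec]
    show proj3 _ = _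
    rw [h, (iota_facts.1 _).2]

theorem kernel_check : ∀ (i : Fin 8) (e : Fin 6),
    (∀ w, actK i e (iota w) = iota w) ↔ (i = 0 ∨ i = 7) ∧ e = 0 := by decide +kernel

theorem phi_ker_iff {g : ↥cent7} : phi g = 1 ↔ ∃ (i : Fin 8) (n : Fin 7),
    (i = 0 ∨ i = 7) ∧ (g : ↥Co0) = elem i n 0 := by
  constructor
  · intro h
    have hw := phi_eq_one.1 h
    have hs : iota ![1, 0, 0] = kStd := by decide +kernel
    have hm : (g : ↥Co0) ∈ frameStab := by
      have := hw ![1, 0, 0]
      rw [hs] at this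
      have h2 : g ∈ MulAction.stabilizer ↥cent7 kStd := this
      rw [stab_eq] at h2
      exact h2
    obtain ⟨i, n, e, he⟩ := mono_cases hm (mem_cent7.1 g.2).symm
    obtain ⟨hi, rfl⟩ := (kernel_check i e).1 fun w => by rw [← mapK_elem i n, ← he, hw]
    exact ⟨i, n, hi, he⟩
  · rintro ⟨i, n, hi, he⟩
    exact phi_eq_one.2 fun w => by rw [he, mapK_elem]; exact (kernel_check i 0).2 ⟨hi, rfl⟩ w

theorem card_sl : Nat.card (Matrix.SpecialLinearGroup (Fin 3) (ZMod 2)) = 168 := by
  have h2 := Classical.card_sl_mul (F := ZMod 2) (ZMod.card 2) 3 (by norm_num)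
  rw [show (∏ i : Fin 3, (2 ^ 3 - 2 ^ (i : ℕ))) = 168 from by decide, show 2 - 1 = 1 from rfl,
    one_mul] at h2
  exact h2

theorem phi_surjective : Function.Surjective phi := by
  have := Leech.finite_co0
  rw [← MonoidHom.range_eq_top]
  refine Subgroup.eq_top_of_card_eq _ ?_
  have h1 := phi.ker.card_mul_index
  rw [Subgroup.index_ker, card_cent7] at h1
  have hk : Nat.card ↥phi.ker = Nat.card (Bool × Fin 7) := by
    refine (Nat.card_congr (Equiv.ofBijective
      (fun x : Bool × Fin 7 => (⟨⟨_, elem_cent (if x.1 then 7 else 0) x.2 0⟩,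
        phi_ker_iff.2 ⟨_, _, by cases x.1 <;> simp, rfl⟩⟩ : ↥phi.ker)) ⟨?_, ?_⟩)).symm
    · rintro ⟨a, n⟩ ⟨b, m⟩ h
      obtain ⟨h1, h2, -⟩ := elem_injective (congrArg (fun g : ↥phi.ker => ((g : ↥cent7) : ↥Co0)) h)
      cases a <;> cases b <;> simp_all
    · rintro ⟨g, hg⟩
      obtain ⟨i, n, hi, he⟩ := phi_ker_iff.1 hg
      rcases hi with rfl | rfl
      · exact ⟨(false, n), Subtype.ext (Subtype.ext he.symm)⟩
      · exact ⟨(true, n), Subtype.ext (Subtype.ext he.symm)⟩
  rw [hk, Nat.card_prod, Nat.card_eq_fintype_card, Fintype.card_bool, Nat.card_eq_fintype_card,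
    Fintype.card_fin] at h1
  rw [card_sl]
  omega

theorem elem_zero (n : Fin 7) : elem 0 n 0 = sS ^ n.val := by
  have h1 : cWord 0 = 1 :=
    Multiplicative.toAdd.injective (Subtype.ext (show (fun p => wOf 0 (slot p)) = 0 by decide +kernel))
  rw [elem, h1, map_one, one_mul, sS, ← map_pow]
  exact congrArg permHom (Subtype.ext (show sig ^ n.val * parPerm 0 = sig ^ n.val by
    rw [show parPerm 0 = 1 from Equiv.ext (by decide +kernel), mul_one]))

theorem elem_seven (n : Fin 7) : elem 7 n 0 = Leech.zneg * sS ^ n.val := by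
  have h1 : cWord 7 = allOnes :=
    Multiplicative.toAdd.injective (Subtype.ext (show (fun p => wOf 7 (slot p)) = 1 by decide +kernel))
  rw [← elem_zero, elem, elem, h1, ← mul_assoc, show cWord 0 = 1 from
    Multiplicative.toAdd.injective (Subtype.ext (show (fun p => wOf 0 (slot p)) = 0 by decide +kernel)),
    map_one, mul_one]
  rfl

theorem phi_ker_rho {g : ↥cent7} : phi g = 1 ↔ rho (g : ↥Co0) ∈ Subgroup.zpowers (rho sS) := by
  constructor
  · intro h
    obtain ⟨i, n, hi, he⟩ := phi_ker_iff.1 h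
    rcases hi with rfl | rfl
    · rw [he, elem_zero, map_pow]; exact Subgroup.npow_mem_zpowers _ _
    · rw [he, elem_seven, map_mul, rho_eq_one.2 (Or.inr rfl), one_mul, map_pow]
      exact Subgroup.npow_mem_zpowers _ _
  · intro h
    have := Leech.finite_co0
    rw [mem_powers_iff_mem_zpowers.symm, Submonoid.mem_powers_iff] at h
    obtain ⟨k, hk⟩ := h
    rw [← map_pow, ← pow_mod_orderOf sS, orderOf_sS] at hk
    have h1 : rho ((g : ↥Co0) * (sS ^ (k % 7))⁻¹) = 1 := by rw [map_mul, map_inv, hk, mul_inv_cancel]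
    refine phi_ker_iff.2 ?_
    rcases rho_eq_one.1 h1 with e | e
    · exact ⟨0, ⟨k % 7, Nat.mod_lt _ (by norm_num)⟩, Or.inl rfl, by
        rw [elem_zero]; exact mul_inv_eq_one.1 e⟩
    · exact ⟨7, ⟨k % 7, Nat.mod_lt _ (by norm_num)⟩, Or.inr rfl, by
        rw [elem_seven]; exact mul_inv_eq_iff_eq_mul.1 e⟩

/-- the centraliser in the simple quotient -/
abbrev cent7Bar : Subgroup Spor.Co1 := Subgroup.centralizer ({rho sS} : Set Spor.Co1)

theorem exists_lift_cent {y : Spor.Co1} (hy : y ∈ cent7Bar) : ∃ g ∈ cent7, rho g = y := by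
  obtain ⟨g, rfl⟩ := QuotientGroup.mk'_surjective _ y
  refine ⟨g, ?_, rfl⟩
  have h := Subgroup.mem_centralizer_singleton_iff.1 hy
  have h1 : rho (g * sS * g⁻¹ * sS⁻¹) = 1 := by
    rw [map_mul, map_mul, map_mul, map_inv, map_inv]
    rw [show rho g * rho sS = rho sS * rho g from h]
    group
  rcases rho_eq_one.1 h1 with e | e
  · rw [mul_inv_eq_one, mul_inv_eq_iff_eq_mul] at e
    exact mem_cent7.2 e
  · exfalso
    rw [mul_inv_eq_iff_eq_mul] at e
    have h7 : (g * sS * g⁻¹) ^ 7 = 1 := by rw [conj_pow, sS_pow_seven, mul_one, mul_inv_cancel]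
    rw [e, (show Commute Leech.zneg sS from (Leech.zneg_comm sS).symm).mul_pow, sS_pow_seven,
      mul_one, show (7 : ℕ) = 2 * 3 + 1 from rfl, pow_add, pow_mul, Leech.zneg_sq, one_pow, one_mul,
      pow_one] at h7
    exact Leech.zneg_ne_one h7

/-- restriction of the projection -/
def rhoCent : ↥cent7 →* ↥cent7Bar :=
  (rho.comp cent7.subtype).codRestrict cent7Bar fun g => Subgroup.mem_centralizer_singleton_iff.2
    (show rho g * rho sS = rho sS * rho g by rw [← map_mul, ← map_mul, mem_cent7.1 g.2])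

theorem rhoCent_surjective : Function.Surjective rhoCent := fun y => by
  obtain ⟨g, hg, he⟩ := exists_lift_cent y.2
  exact ⟨⟨g, hg⟩, Subtype.ext he⟩

/-- the map of the centraliser onto the linear group -/
noncomputable def phiBar : ↥cent7Bar →* Matrix.SpecialLinearGroup (Fin 3) (ZMod 2) :=
  rhoCent.liftOfRightInverse (Function.surjInv rhoCent_surjective)
    (Function.rightInverse_surjInv rhoCent_surjective)
    ⟨phi, fun g hg => MonoidHom.mem_ker.2 (phi_ker_rho.2 (by
      have h : rho (g : ↥Co0) = 1 := congrArg Subtype.val (MonoidHom.mem_ker.1 hg)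
      rw [h]; exact Subgroup.one_mem _))⟩

theorem phiBar_rho (g : ↥cent7) : phiBar (rhoCent g) = phi g :=
  rhoCent.liftOfRightInverse_comp_apply _ _ _ g

theorem phiBar_surjective : Function.Surjective phiBar := fun x => by
  obtain ⟨g, hg⟩ := phi_surjective x
  exact ⟨rhoCent g, (phiBar_rho g).trans hg⟩

theorem phiBar_eq_one {y : ↥cent7Bar} : phiBar y = 1 ↔ (y : Spor.Co1) ∈ Subgroup.zpowers (rho sS) := by
  obtain ⟨g, rfl⟩ := rhoCent_surjective y
  rw [phiBar_rho, phi_ker_rho]
  rfl

theorem phi_of_fixes {g : ↥cent7}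
    (h : ∀ k, Leech.cls ((g : ↥Co0) • repV k) = Leech.cls (repV k)) : phi g = 1 :=
  phi_eq_one.2 fun w => kap_injective (by rw [kap_mapK (keeps_cent g.2), h, cls_repV])

theorem isSimple_sl : IsSimpleGroup (Matrix.SpecialLinearGroup (Fin 3) (ZMod 2)) := by
  have hcen : Subgroup.center (Matrix.SpecialLinearGroup (Fin 3) (ZMod 2)) = ⊥ := by
    refine (Subgroup.eq_bot_iff_forall _).2 fun c hc => ?_
    obtain ⟨x, hx, hc'⟩ := Matrix.SpecialLinearGroup.mem_center_iff.1 hc
    have key : ∀ y : ZMod 2, y ^ 3 = 1 → y = 1 := by decide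
    rw [Fintype.card_fin] at hx
    rw [key x hx, map_one] at hc'
    exact Subtype.ext hc'.symm
  have hsimp := Classical.isSimpleGroup_psl (ι := Fin 3) (F := ZMod 2) (Or.inl (by simp))
  let q : Matrix.ProjectiveSpecialLinearGroup (Fin 3) (ZMod 2) ≃* Matrix.SpecialLinearGroup (Fin 3) (ZMod 2) :=
    (QuotientGroup.quotientMulEquivOfEq hcen).trans QuotientGroup.quotientBot
  exact MulEquiv.isSimpleGroup q.symm

/-- every automorphism of the group of order 7 is induced in the quotient -/
theorem exists_inducing {k : ℕ} (hk : ¬ 7 ∣ k) :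
    ∃ h : ↥Co0, rho h * rho sS * (rho h)⁻¹ = rho sS ^ k := by
  have hstep : ∀ (h : ↥Co0) (a b : ℕ), h * sS * h⁻¹ = sS ^ a → h * sS ^ b * h⁻¹ = sS ^ (a * b) := by
    intro h a b hh
    rw [← conj_pow, hh, ← pow_mul]
  have hinv : invS * sS * invS⁻¹ = sS ^ 6 := by rw [invS_conj, mul_inv_cancel_right]
  have htwo : twoS * sS * twoS⁻¹ = sS ^ 2 := by rw [twoS_conj, mul_inv_cancel_right]
  have hall : ∀ r : Fin 7, r ≠ 0 → ∃ h : ↥Co0, h * sS * h⁻¹ = sS ^ r.val := by
    have h4 : (twoS * twoS) * sS * (twoS * twoS)⁻¹ = sS ^ (2 * 2) := by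
      rw [show twoS * twoS * sS * (twoS * twoS)⁻¹ = twoS * (twoS * sS * twoS⁻¹) * twoS⁻¹ by group, htwo]
      exact hstep _ _ _ htwo
    have hm : ∀ (h : ↥Co0) (a : ℕ), h * sS * h⁻¹ = sS ^ a →
        (invS * h) * sS * (invS * h)⁻¹ = sS ^ (6 * a % 7) := fun h a hh => by
      rw [show invS * h * sS * (invS * h)⁻¹ = invS * (h * sS * h⁻¹) * invS⁻¹ by group, hh,
        hstep _ _ _ hinv]
      conv_lhs => rw [← pow_mod_orderOf, orderOf_sS]
    intro r hr
    fin_cases r
    · exact absurd rfl hr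
    · exact ⟨1, by simp⟩
    · exact ⟨twoS, htwo⟩
    · exact ⟨invS * (twoS * twoS), hm _ _ h4⟩
    · exact ⟨twoS * twoS, h4⟩
    · exact ⟨invS * twoS, hm _ _ htwo⟩
    · exact ⟨invS, hinv⟩
  obtain ⟨h, hh⟩ := hall ⟨k % 7, Nat.mod_lt _ (by norm_num)⟩ (fun e => hk (Nat.dvd_of_mod_eq_zero (congrArg Fin.val e)))
  refine ⟨h, ?_⟩
  rw [← map_inv, ← map_mul, ← map_mul, hh, map_pow]
  conv_rhs => rw [← map_pow, ← pow_mod_orderOf, orderOf_sS, map_pow]

end Cfsg.Agent.HeldType
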