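import Mathlib
import Cfsg.Agent.MonsterType.BabyType
import Cfsg.Agent.HeldType.Quot

/-! Elements of order 7 in the centraliser of two commuting conjugates in Monster type. -/

set_option autoImplicit false

namespace Cfsg.Agent.HeldType
open Cfsg Cfsg.Agent MonsterType

variable {G : Type*} [Group G] [Finite G] {z : G}
  {Q : Subgroup (Subgroup.centralizer ({z} : Set G))} [Q.Normal]
  {e : (Subgroup.centralizer ({z} : Set G)) ⧸ Q ≃* Spor.Co1}
  {ψ : leechLattice → Q ⧸ Subgroup.center Q}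

omit [Finite G] in
/-- change of the identification by a lattice automorphism -/
theorem rebase (d : MonsterType.Data Q e ψ) (g : ↥Co0) :
    ∃ (e' : (Subgroup.centralizer ({z} : Set G)) ⧸ Q ≃* Spor.Co1)
      (ψ' : leechLattice → Q ⧸ Subgroup.center Q),
      MonsterType.Data Q e' ψ' ∧ (∀ v, ψ' v = ψ (g⁻¹ • v)) ∧
      ∀ h, proj e' h = rho g * proj e h * (rho g)⁻¹ := by
  refine ⟨e.trans (MulAut.conj (rho g)), fun w => ψ (g⁻¹ • w), ⟨d.hz, d.ext, d.card, ?_, ?_, ?_, ?_⟩,
    fun _ => rfl, fun _ => rfl⟩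
  · intro a b
    simp only [Leech.smul_add', d.hψ.1]
  · intro y
    obtain ⟨w, rfl⟩ := d.hψ.2.1 y
    exact ⟨g • w, by simp⟩
  · intro a
    show ψ (g⁻¹ • a) = 1 ↔ _
    rw [d.hψ.2.2.1]
    constructor
    · rintro ⟨y, hy⟩
      exact ⟨g • y, by rw [← Leech.smul_add', ← hy, smul_inv_smul]⟩
    · rintro ⟨y, rfl⟩
      exact ⟨g⁻¹ • y, Leech.smul_add' _ _ _⟩
  · intro h k hk a q hq
    have h' := d.hψ.2.2.2 h (g⁻¹ * k * g) (by
      show rho (g⁻¹ * k * g) = _
      rw [map_mul, map_mul, map_inv, show rho k = rho g * e (QuotientGroup.mk h) * (rho g)⁻¹ from hk]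
      group) (g⁻¹ • a) q hq
    rw [mul_smul, mul_smul, smul_inv_smul] at h'
    exact h'

omit [Finite G] in
/-- a class of the largest type becomes the standard frame -/
theorem exists_std64 (d : MonsterType.Data Q e ψ) {x : Q} (hx : Typ ψ 64 x) :
    ∃ (e' : (Subgroup.centralizer ({z} : Set G)) ⧸ Q ≃* Spor.Co1)
      (ψ' : leechLattice → Q ⧸ Subgroup.center Q),
      MonsterType.Data Q e' ψ' ∧ ψ' (Leech.oct none) = QuotientGroup.mk x := by
  obtain ⟨w, hw, hwx⟩ := hx
  obtain ⟨g, hg⟩ := Leech.reach w hw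
  obtain ⟨t, ht, hte⟩ := Leech.stdCross_congr hg (Leech.oct_mem_stdCross none)
  obtain ⟨e', ψ', d', hψ', -⟩ := rebase d g
  refine ⟨e', ψ', d', ?_⟩
  rw [hψ', ← hwx, psi_congr d]
  have := MonsterType.cls_smul g⁻¹ (Leech.cls_eq.2 ⟨t, ht, hte⟩ : Leech.cls (g • w) = Leech.cls (Leech.oct none))
  rw [inv_smul_smul] at this
  exact this.symm

theorem orderOf_rho_sS : orderOf (rho sS) = 7 := by
  have : Fact (Nat.Prime 7) := ⟨by norm_num⟩
  refine orderOf_eq_prime (by rw [← map_pow, sS_pow_seven, map_one]) fun h => ?_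
  have h1 := rho_mono_eq_one (c := 1) (σ := sigM) (by rw [map_one, one_mul]; exact h)
  exact cyc_not_fixed 0 0 (congrArg (fun τ : ↥M24 => (τ : Equiv.Perm GolayPt) (cycPt 0 0)) h1.2)

/-- the seven part of a joint centraliser -/
theorem seven_part (d : MonsterType.Data Q e ψ) {x : Q} (hx : Typ ψ 64 x) :
    (Nat.card ↥(Subgroup.centralizer
      ({(x : Subgroup.centralizer ({z} : Set G))} : Set (Subgroup.centralizer ({z} : Set G))))).factorization 7 = 1 := by
  obtain ⟨e', ψ', d', hv⟩ := exists_std64 d hx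
  have hxc : x ∉ Subgroup.center Q := typ_notMem_center d (Or.inr (Or.inr rfl)) hx
  set H := Subgroup.centralizer
    ({(x : Subgroup.centralizer ({z} : Set G))} : Set (Subgroup.centralizer ({z} : Set G))) with hH
  have himg := proj_centralizer d' hv hxc
  have hker : (proj e').ker = Q := by ext t; rw [MonoidHom.mem_ker, proj_eq_one]
  have h1 : Nat.card ↥(H.map (proj e')) * Nat.card ↥(H ⊓ Q : Subgroup _) = Nat.card ↥H := by
    rw [← Subgroup.relIndex_ker (f := proj e'), hker, ← Subgroup.inf_relIndex_left, mul_comm]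
    have h := ((H ⊓ Q).subgroupOf H).card_mul_index
    rwa [Nat.card_congr (Subgroup.subgroupOfEquivOfLe (inf_le_left : H ⊓ Q ≤ H)).toEquiv] at h
  have hHQ : Nat.card ↥(H ⊓ Q : Subgroup _) = 2 ^ 24 := by
    rw [← card_centralizer d hxc]
    exact Nat.card_congr
      ⟨fun a => ⟨⟨a.1, a.2.2⟩, Subgroup.mem_centralizer_singleton_iff.2
          (Subtype.ext (Subgroup.mem_centralizer_singleton_iff.1 a.2.1))⟩,
        fun q => ⟨q.1.1, Subgroup.mem_centralizer_singleton_iff.2
          (congrArg Subtype.val (Subgroup.mem_centralizer_singleton_iff.1 q.2)), q.1.2⟩,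
        fun _ => rfl, fun _ => rfl⟩
  rw [himg] at h1
  have := Leech.finite_co0
  have h7 : 7 ∣ Nat.card ↥((stabCls (Leech.oct none)).map rho) := by
    have hm : rho sS ∈ (stabCls (Leech.oct none)).map rho := ⟨_, sS_mem_frame, rfl⟩
    rw [← orderOf_rho_sS, ← Subgroup.orderOf_mk _ hm]
    exact orderOf_dvd_natCard _
  have h49 : ¬ 7 ^ 2 ∣ Nat.card ↥((stabCls (Leech.oct none)).map rho) := by
    intro h
    have := h.trans (Subgroup.card_map_dvd (stabCls (Leech.oct none)) rho)
    rw [card_frameStab] at this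
    norm_num at this
  have hpos : 0 < Nat.card ↥((stabCls (Leech.oct none)).map rho) := Nat.card_pos
  rw [← h1, hHQ, Nat.factorization_mul hpos.ne' (by norm_num)]
  simp only [Finsupp.add_apply, Nat.Prime.factorization_pow Nat.prime_two]
  rw [Finsupp.single_eq_of_ne (by norm_num), add_zero]
  have hp : Nat.Prime 7 := by norm_num
  have a := (hp.pow_dvd_iff_le_factorization (k := 1) hpos.ne').1 (by simpa using h7)
  have b : ¬ 2 ≤ (Nat.card ↥((stabCls (Leech.oct none)).map rho)).factorization 7 := fun h =>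
    h49 ((hp.pow_dvd_iff_le_factorization hpos.ne').2 h)
  omega

theorem two_power_seven (d : MonsterType.Data Q e ψ) {a : Subgroup.centralizer ({z} : Set G)}
    (ha : a ∈ Q) (h7 : a ^ 7 = 1) : a = 1 := by
  have h := orderOf_dvd_natCard (⟨a, ha⟩ : Q)
  rw [d.card, Subgroup.orderOf_mk] at h
  have h' := Nat.dvd_gcd h (orderOf_dvd_of_pow_eq_one h7)
  norm_num at h'
  exact h'

/-- subgroups of order 7 in a group whose order has seven part 7 are conjugate -/
theorem conj_seven {H : Type*} [Group H] [Finite H] (hH : (Nat.card H).factorization 7 = 1)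
    {a b : H} (ha : orderOf a = 7) (hb : orderOf b = 7) :
    ∃ u : H, ∃ j : ℕ, u * a * u⁻¹ = b ^ j := by
  have : Fact (Nat.Prime 7) := ⟨by norm_num⟩
  let A : Sylow 7 H := Sylow.ofCard (Subgroup.zpowers a) (by rw [Nat.card_zpowers, ha, hH, pow_one])
  let B : Sylow 7 H := Sylow.ofCard (Subgroup.zpowers b) (by rw [Nat.card_zpowers, hb, hH, pow_one])
  obtain ⟨u, hu⟩ := MulAction.exists_smul_eq H A B
  have hmem : u * a * u⁻¹ ∈ (B : Subgroup H) := by
    rw [← hu, Sylow.coe_subgroup_smul]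
    exact ⟨a, Subgroup.mem_zpowers a, by simp⟩
  change u * a * u⁻¹ ∈ Subgroup.zpowers b at hmem
  rw [← mem_powers_iff_mem_zpowers, Submonoid.mem_powers_iff] at hmem
  obtain ⟨j, hj⟩ := hmem
  exact ⟨u, j, hj.symm⟩

theorem proj_order_seven (d : MonsterType.Data Q e ψ) {b : Subgroup.centralizer ({z} : Set G)}
    (hb : orderOf b = 7) : orderOf (proj e b) = 7 := by
  have : Fact (Nat.Prime 7) := ⟨by norm_num⟩
  have h7 : b ^ 7 = 1 := by rw [← hb]; exact pow_orderOf_eq_one b
  refine orderOf_eq_prime (by rw [← map_pow, h7, map_one]) fun h => ?_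
  rw [two_power_seven d (proj_eq_one.1 h) h7, orderOf_one] at hb
  omega

/-- normal form for an element of order 7 centralising a conjugate -/
theorem exists_normal_form (d : MonsterType.Data Q e ψ) {x : Q} (hx : Typ ψ 64 x)
    {b : Subgroup.centralizer ({z} : Set G)} (hb : orderOf b = 7)
    (hbx : b * x = (x : Subgroup.centralizer ({z} : Set G)) * b) :
    ∃ (e' : (Subgroup.centralizer ({z} : Set G)) ⧸ Q ≃* Spor.Co1)
      (ψ' : leechLattice → Q ⧸ Subgroup.center Q),
      MonsterType.Data Q e' ψ' ∧ ψ' (Leech.oct none) = QuotientGroup.mk x ∧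
      (proj e' b = rho sS ∨ proj e' b⁻¹ = rho sS) := by
  obtain ⟨e1, ψ1, d1, hv⟩ := exists_std64 d hx
  have hxc : x ∉ Subgroup.center Q := typ_notMem_center d (Or.inr (Or.inr rfl)) hx
  have hmem : proj e1 b ∈ (stabCls (Leech.oct none)).map rho := by
    rw [← proj_centralizer d1 hv hxc]
    exact ⟨b, Subgroup.mem_centralizer_singleton_iff.2 hbx, rfl⟩
  obtain ⟨t0, ht0, hte⟩ := hmem
  have ho := proj_order_seven d1 hb
  have : Fact (Nat.Prime 7) := ⟨by norm_num⟩
  have h7 : rho (t0 ^ 7) = 1 := by rw [map_pow, hte, ← ho]; exact pow_orderOf_eq_one _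
  have h14 : t0 ^ 14 = 1 := by
    rw [show (14 : ℕ) = 7 * 2 from rfl, pow_mul]
    rcases rho_eq_one.1 h7 with h | h <;> rw [h]
    · exact one_pow 2
    · exact Leech.zneg_sq
  have hrt : rho (t0 ^ 8) = proj e1 b := by
    rw [show t0 ^ 8 = t0 ^ 7 * t0 from pow_succ t0 7, map_mul, h7, one_mul, hte]
  have hto : orderOf (t0 ^ 8) = 7 := by
    refine orderOf_eq_prime ?_ fun h => ?_
    · rw [← pow_mul, show 8 * 7 = 14 * 4 from rfl, pow_mul, h14, one_pow]
    · rw [h, map_one] at hrt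
      rw [← hrt, orderOf_one] at ho
      omega
  obtain ⟨n, hn, hcase⟩ := frame_sylow (pow_mem ht0 8) hto
  obtain ⟨e2, ψ2, d2, hψ2, hp⟩ := rebase d1 n
  refine ⟨e2, ψ2, d2, ?_, ?_⟩
  · rw [hψ2, ← hv, psi_congr d1]
    exact inv_mem hn
  · rcases hcase with h | h
    · left
      rw [hp, ← hrt, ← map_inv, ← map_mul, ← map_mul, h]
    · right
      rw [map_inv, hp, ← hrt, ← map_inv rho n, ← map_mul, ← map_mul, h, ← map_inv,
        inv_eq_of_mul_eq_one_right (a := sS ^ 6) (b := sS) (by rw [← pow_succ, sS_pow_seven])]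

end Cfsg.Agent.HeldType
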