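import Mathlib
import Cfsg.Agent.HeldType.Data

/-! An involution inverting the element of order 7 and a map of its eigenframe to the standard one. -/

set_option autoImplicit false
set_option maxRecDepth 8000

namespace Cfsg.Agent.HeldType
open Cfsg Cfsg.Agent Cfsg.Agent.Leech

/-- a monomial element -/
def jTail : LGen := monGen [0, 1, 2, 3, 4, 5, 6, 7, 8, 9, 10, 11, 12, 13, 14, 15, 16, 17, 18, 19, 20, 21, 22, 23] [0, 1, 2, 3, 4, 5, 6, 7, 8, 9, 10, 11, 12, 13, 14, 15, 16, 17, 18, 19, 20, 21, 22, 23] 16777215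
  (by decide +kernel) (by decide +kernel) (by decide +kernel) (by decide +kernel) (by decide +kernel)

/-- the involution -/
def jGen : LGen := invGen.comp jTail

/-- a monomial element -/
def frS0 : LGen := monGen [0, 1, 2, 3, 4, 5, 6, 7, 8, 9, 10, 11, 12, 13, 14, 15, 16, 17, 18, 19, 20, 21, 22, 23] [0, 1, 2, 3, 4, 5, 6, 7, 8, 9, 10, 11, 12, 13, 14, 15, 16, 17, 18, 19, 20, 21, 22, 23] 9778410
  (by decide +kernel) (by decide +kernel) (by decide +kernel) (by decide +kernel) (by decide +kernel)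

/-- labels -/
def frX0Lab : List ℕ := [4, 5, 2, 3, 0, 2, 0, 5, 3, 1, 4, 5, 1, 0, 3, 1, 2, 4, 0, 1, 2, 3, 4, 5]

/-- a sextet -/
def frX0Sext : Sextet where
  lab p := ⟨frX0Lab.getD (idx p) 0 % 6, Nat.mod_lt _ (by norm_num)⟩
  card_fib := by decide +kernel
  pair k := (mem_iff _).2 (by revert k; decide +kernel)

/-- its reflection -/
def frX0 : LGen := xiGen frX0Sext frX0Lab (by decide +kernel)

/-- a monomial element -/
def frS1 : LGen := monGen [0, 1, 2, 3, 4, 5, 6, 7, 8, 9, 10, 11, 12, 13, 14, 15, 16, 17, 18, 19, 20, 21, 22, 23] [0, 1, 2, 3, 4, 5, 6, 7, 8, 9, 10, 11, 12, 13, 14, 15, 16, 17, 18, 19, 20, 21, 22, 23] 16288910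
  (by decide +kernel) (by decide +kernel) (by decide +kernel) (by decide +kernel) (by decide +kernel)

/-- labels -/
def frX1Lab : List ℕ := [5, 0, 1, 1, 0, 0, 2, 5, 0, 3, 2, 1, 2, 1, 3, 5, 4, 3, 2, 4, 4, 3, 4, 5]

/-- a sextet -/
def frX1Sext : Sextet where
  lab p := ⟨frX1Lab.getD (idx p) 0 % 6, Nat.mod_lt _ (by norm_num)⟩
  card_fib := by decide +kernel
  pair k := (mem_iff _).2 (by revert k; decide +kernel)

/-- its reflection -/
def frX1 : LGen := xiGen frX1Sext frX1Lab (by decide +kernel)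

/-- to the standard frame -/
def frGen : LGen := (frX1.comp (frS1.comp (frX0.comp frS0)))

/-- a monomial element -/
def jSign : LGen := monGen [0, 1, 2, 3, 4, 5, 6, 7, 8, 9, 10, 11, 12, 13, 14, 15, 16, 17, 18, 19, 20, 21, 22, 23] [0, 1, 2, 3, 4, 5, 6, 7, 8, 9, 10, 11, 12, 13, 14, 15, 16, 17, 18, 19, 20, 21, 22, 23] 9058487
  (by decide +kernel) (by decide +kernel) (by decide +kernel) (by decide +kernel) (by decide +kernel)

theorem j_lists : ((List.range 24).all fun a =>
    let l : List ℤ := (List.range 24).map fun b => if b = a then 8 else 0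
    (jGen.f (sigGen.f l) ==
      sigGen.f (sigGen.f (sigGen.f (sigGen.f (sigGen.f (sigGen.f (jGen.f l))))))) &&
    (frGen.f (jGen.f l) == jSign.f (frGen.f l))) = true := by
  decide +kernel

end Cfsg.Agent.HeldType
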