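import Mathlib
import Cfsg.Agent.HeldType.Setup

/-! The centraliser of a Sylow 7-subgroup of a joint centraliser is of Held type. -/

set_option autoImplicit false

namespace Cfsg.Agent.HeldType
open Cfsg Cfsg.Agent MonsterType
open scoped commutatorElement

variable {G : Type*} [Group G] [Finite G] {z : G}
  {Q : Subgroup (Subgroup.centralizer ({z} : Set G))} [Q.Normal]
  {e : (Subgroup.centralizer ({z} : Set G)) ⧸ Q ≃* Spor.Co1}
  {ψ : leechLattice → Q ⧸ Subgroup.center Q}

/-- lifting normalising elements -/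
theorem exists_lift (d : MonsterType.Data Q e ψ) {b : Subgroup.centralizer ({z} : Set G)}
    (hb : orderOf b = 7) (hp : proj e b = rho sS) {y : Spor.Co1} {k : ℕ}
    (hy : y * rho sS * y⁻¹ = rho sS ^ k) :
    ∃ w : Subgroup.centralizer ({z} : Set G), proj e w = y ∧ w * b * w⁻¹ = b ^ k := by
  have := Leech.finite_co0
  set H7 := (Subgroup.zpowers (rho sS)).comap (proj e) with hH7
  have hbm : b ∈ H7 := by rw [hH7, Subgroup.mem_comap, hp]; exact Subgroup.mem_zpowers _
  obtain ⟨w0, hw0⟩ := proj_surjective e y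
  have hb' : w0 * b * w0⁻¹ ∈ H7 := by
    rw [hH7, Subgroup.mem_comap, map_mul, map_mul, map_inv, hw0, hp, hy]
    exact Subgroup.npow_mem_zpowers _ _
  have hcard : Nat.card ↥H7 = 7 * 2 ^ 25 := by
    have hker : (proj e).ker = Q := by ext t; rw [MonoidHom.mem_ker, proj_eq_one]
    have hQle : Q ≤ H7 := fun q hq => by
      rw [hH7, Subgroup.mem_comap, proj_eq_one.2 hq]; exact Subgroup.one_mem _
    have h := (Q.subgroupOf H7).card_mul_index
    rw [Nat.card_congr (Subgroup.subgroupOfEquivOfLe hQle).toEquiv, d.card] at h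
    have h2 : (Q.subgroupOf H7).index = Nat.card ↥(H7.map (proj e)) := by
      rw [← Subgroup.relIndex_ker (f := proj e), hker]; rfl
    rw [h2, hH7, Subgroup.map_comap_eq_self_of_surjective (proj_surjective e), Nat.card_zpowers,
      orderOf_rho_sS] at h
    rw [← h, mul_comm]
  have hf : (Nat.card ↥H7).factorization 7 = 1 := by
    rw [hcard, Nat.factorization_mul (by norm_num) (by norm_num)]
    simp only [Finsupp.add_apply, Nat.Prime.factorization_pow Nat.prime_two,
      (show Nat.Prime 7 by norm_num).factorization_self]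
    rw [Finsupp.single_eq_of_ne (by norm_num), add_zero]
  have ho : orderOf (w0 * b * w0⁻¹) = 7 := by
    have h := orderOf_injective (MulAut.conj w0).toMonoidHom (MulAut.conj w0).injective b
    simp only [MulEquiv.coe_toMonoidHom, MulAut.conj_apply] at h
    rw [h, hb]
  obtain ⟨u, j, hu⟩ := conj_seven hf (a := (⟨_, hb'⟩ : H7)) (b := (⟨b, hbm⟩ : H7))
    (by rw [Subgroup.orderOf_mk]; exact ho) (by rw [Subgroup.orderOf_mk]; exact hb)
  have hu' : (u : Subgroup.centralizer ({z} : Set G)) * (w0 * b * w0⁻¹) *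
      (u : Subgroup.centralizer ({z} : Set G))⁻¹ = b ^ j := by
    have := congrArg Subtype.val hu
    simpa using this
  have humem : proj e (u : Subgroup.centralizer ({z} : Set G)) ∈ Subgroup.zpowers (rho sS) := u.2
  rw [Subgroup.mem_zpowers_iff] at humem
  obtain ⟨i, hi⟩ := humem
  have hjk : b ^ j = b ^ k := by
    have h := congrArg (proj e) hu'
    simp only [map_mul, map_inv, map_pow, hw0, hp, ← hi, hy] at h
    rw [((Commute.refl (rho sS)).zpow_left i |>.pow_right k).eq, mul_inv_cancel_right] at h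
    exact pow_eq_pow_iff_modEq.2 (by rw [hb, ← orderOf_rho_sS]; exact (pow_eq_pow_iff_modEq.1 h).symm)
  refine ⟨(b ^ i)⁻¹ * (u : Subgroup.centralizer ({z} : Set G)) * w0, ?_, ?_⟩
  · rw [map_mul, map_mul, map_inv, map_zpow, hp, hw0, ← hi, inv_mul_cancel, one_mul]
  · have hc : b ^ j * b ^ i = b ^ i * b ^ j := (((Commute.refl b).zpow_right i).pow_left j).eq
    calc (b ^ i)⁻¹ * (u : Subgroup.centralizer ({z} : Set G)) * w0 * b *
          ((b ^ i)⁻¹ * (u : Subgroup.centralizer ({z} : Set G)) * w0)⁻¹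
        = (b ^ i)⁻¹ * ((u : Subgroup.centralizer ({z} : Set G)) * (w0 * b * w0⁻¹) *
          (u : Subgroup.centralizer ({z} : Set G))⁻¹) * b ^ i := by group
      _ = b ^ k := by rw [hu', mul_assoc, hc, ← mul_assoc, inv_mul_cancel, one_mul, hjk]

omit [Finite G] in
/-- fixed classes give centralising elements -/
theorem commute_b_iff (d : MonsterType.Data Q e ψ) {b : Subgroup.centralizer ({z} : Set G)}
    (hb : b ^ 7 = 1) (hp : proj e b = rho sS) {v : leechLattice} {q : Q}
    (hv : ψ v = QuotientGroup.mk q) :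
    b * q = (q : Subgroup.centralizer ({z} : Set G)) * b ↔ Leech.cls (sS • v) = Leech.cls v := by
  have hc := d.hψ.2.2.2 b sS hp.symm v q hv
  constructor
  · intro h
    rw [← psi_congr d, hc, hv]
    exact congrArg QuotientGroup.mk (Subtype.ext ((mul_inv_eq_iff_eq_mul).2 h))
  · intro h
    rw [(psi_congr d).2 h, hv] at hc
    set q' : Q := ⟨b * q * b⁻¹, (inferInstance : Q.Normal).conj_mem _ q.2 b⟩ with hq'
    rcases center_cases d (x := q⁻¹ * q') (QuotientGroup.eq.1 hc) with h1 | h1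
    · have h2 : (q : Subgroup.centralizer ({z} : Set G)) = b * q * b⁻¹ :=
        congrArg Subtype.val (inv_mul_eq_one.1 h1)
      rw [eq_mul_inv_iff_mul_eq] at h2
      exact h2.symm
    · exfalso
      have h2 : b * q * b⁻¹ = (q : Subgroup.centralizer ({z} : Set G)) * zc z :=
        congrArg Subtype.val (eq_mul_of_inv_mul_eq h1 : q' = q * ⟨zc z, zc_mem d⟩)
      have hpow : ∀ n : ℕ, b ^ n * q * (b ^ n)⁻¹ = (q : Subgroup.centralizer ({z} : Set G)) * zc z ^ n := by
        intro n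
        induction n with
        | zero => simp
        | succ n ih =>
          rw [show b ^ (n + 1) * (q : Subgroup.centralizer ({z} : Set G)) * (b ^ (n + 1))⁻¹ =
            b * (b ^ n * q * (b ^ n)⁻¹) * b⁻¹ by rw [pow_succ']; group, ih,
            show b * ((q : Subgroup.centralizer ({z} : Set G)) * zc z ^ n) * b⁻¹ =
              b * q * (zc z ^ n * b⁻¹) by group,
            ((commute_zc b).pow_left n |>.inv_right).eq, ← mul_assoc, h2, mul_assoc, ← pow_succ']
      have h7 := hpow 7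
      rw [hb, one_mul, inv_one, mul_one, left_eq_mul] at h7
      have h2' : zc z ^ 2 = 1 := Subtype.ext (show z ^ 2 = 1 by rw [sq]; exact z_sq d)
      rw [show (7 : ℕ) = 2 * 3 + 1 from rfl, pow_succ, pow_mul, h2', one_pow, one_mul] at h7
      exact z_ne_one d (congrArg Subtype.val h7)

/-- fusion inside the centraliser of the element of order 7 -/
theorem fusion (d : MonsterType.Data Q e ψ) (hex : ∃ g : G, ∃ y : Q,
      g * z * g⁻¹ = ((y : Subgroup.centralizer ({z} : Set G)) : G) ∧ g * z * g⁻¹ ≠ z)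
    {x : Q} (hx : ψ (Leech.oct none) = QuotientGroup.mk x) (hx64 : Typ ψ 64 x)
    {b : Subgroup.centralizer ({z} : Set G)} (hb : orderOf b = 7) (hp : proj e b = rho sS)
    {q : Q} (hq : Typ ψ 64 q) (hbq : b * q = (q : Subgroup.centralizer ({z} : Set G)) * b) :
    ∃ w : G, w * (b : G) = (b : G) * w ∧
      w * z * w⁻¹ = ((q : Subgroup.centralizer ({z} : Set G)) : G) := by
  obtain ⟨hconj, hqz⟩ := (typ64_iff d hex q).2 hq
  obtain ⟨g0, hg0⟩ := isConj_iff.1 hconj
  obtain ⟨h, hh⟩ := typ_trans d (Or.inr (Or.inr rfl)) hx64 hq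
  have hhz : (h : G) * z = z * (h : G) := Subgroup.mem_centralizer_singleton_iff.1 h.2
  have hhG : (h : G) * ((x : Subgroup.centralizer ({z} : Set G)) : G) * (h : G)⁻¹ =
      ((q : Subgroup.centralizer ({z} : Set G)) : G) := congrArg Subtype.val hh
  have hg1 : (h : G)⁻¹ * g0 * z * ((h : G)⁻¹ * g0)⁻¹ =
      ((x : Subgroup.centralizer ({z} : Set G)) : G) := by
    rw [show (h : G)⁻¹ * g0 * z * ((h : G)⁻¹ * g0)⁻¹ = (h : G)⁻¹ * (g0 * z * g0⁻¹) * (h : G) by group,
      hg0, ← hhG]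
    group
  have hxc := typ_notMem_center d (Or.inr (Or.inr rfl)) hx64
  obtain ⟨q₀, hq₀, hq₀c⟩ := exists_back d hg1 hxc hx
    ⟨permHom shiftM, perm_mem_frame shiftM, by
      have hinj : Function.Injective permHom := (injective_iff_map_eq_one _).2 fun σ h =>
        (rho_mono_eq_one (c := 1) (σ := σ) (by rw [map_one, one_mul, h, map_one])).2
      exact (orderOf_injective permHom hinj shiftM).trans orderOf_shiftM⟩
  have hq0 : ((q₀ : Subgroup.centralizer ({z} : Set G)) : G) = g0⁻¹ * z * g0 := by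
    rw [hq₀, show ((h : G)⁻¹ * g0)⁻¹ * z * ((h : G)⁻¹ * g0) = g0⁻¹ * ((h : G) * z * (h : G)⁻¹) * g0 by group,
      hhz, mul_inv_cancel_right]
  have hq064 : Typ ψ 64 q₀ := (typ64_iff d hex q₀).1 ⟨isConj_iff.2 ⟨g0⁻¹, by rw [inv_inv, hq0]⟩, fun e' =>
    hq₀c (by
      rw [show q₀ = ⟨zc z, zc_mem d⟩ from Subtype.ext (Subtype.ext e')]
      exact zq_center d)⟩
  obtain ⟨h1, hh1⟩ := typ_trans d (Or.inr (Or.inr rfl)) hq064 hq
  -- the transported element
  have hbz : (b : G) * z = z * (b : G) := Subgroup.mem_centralizer_singleton_iff.1 b.2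
  have hbqG : (b : G) * ((q : Subgroup.centralizer ({z} : Set G)) : G) =
      ((q : Subgroup.centralizer ({z} : Set G)) : G) * (b : G) := congrArg Subtype.val hbq
  have hb'z : g0⁻¹ * (b : G) * g0 ∈ Subgroup.centralizer ({z} : Set G) := by
    rw [Subgroup.mem_centralizer_singleton_iff]
    calc g0⁻¹ * (b : G) * g0 * z = g0⁻¹ * ((b : G) * (g0 * z * g0⁻¹)) * g0 := by group
      _ = g0⁻¹ * ((g0 * z * g0⁻¹) * (b : G)) * g0 := by rw [hg0, hbqG]
      _ = _ := by group
  set b' : Subgroup.centralizer ({z} : Set G) := ⟨_, hb'z⟩ with hb'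
  have hb'q : b' * q₀ = (q₀ : Subgroup.centralizer ({z} : Set G)) * b' := by
    refine Subtype.ext ?_
    show g0⁻¹ * (b : G) * g0 * ((q₀ : Subgroup.centralizer ({z} : Set G)) : G) =
      ((q₀ : Subgroup.centralizer ({z} : Set G)) : G) * (g0⁻¹ * (b : G) * g0)
    rw [hq0]
    calc g0⁻¹ * (b : G) * g0 * (g0⁻¹ * z * g0) = g0⁻¹ * ((b : G) * z) * g0 := by group
      _ = _ := by rw [hbz]; group
  set b'' := h1 * b' * h1⁻¹ with hb''
  set H := Subgroup.centralizer
    ({(q : Subgroup.centralizer ({z} : Set G))} : Set (Subgroup.centralizer ({z} : Set G))) with hH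
  have hbH : b ∈ H := Subgroup.mem_centralizer_singleton_iff.2 hbq
  have hb''H : b'' ∈ H := by
    refine Subgroup.mem_centralizer_singleton_iff.2 ?_
    rw [hb'', ← hh1]
    calc h1 * b' * h1⁻¹ * (h1 * q₀ * h1⁻¹) = h1 * (b' * q₀) * h1⁻¹ := by group
      _ = _ := by rw [hb'q]; group
  have hob : orderOf b'' = 7 := by
    have e1 := orderOf_injective (MulAut.conj h1).toMonoidHom (MulAut.conj h1).injective b'
    simp only [MulEquiv.coe_toMonoidHom, MulAut.conj_apply] at e1
    rw [hb'', e1, ← Subgroup.orderOf_coe, hb']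
    have e2 := orderOf_injective (MulAut.conj g0⁻¹).toMonoidHom (MulAut.conj g0⁻¹).injective (b : G)
    simp only [MulEquiv.coe_toMonoidHom, MulAut.conj_apply, inv_inv] at e2
    rw [e2, Subgroup.orderOf_coe, hb]
  obtain ⟨u, j, hu⟩ := conj_seven (seven_part d hq) (a := (⟨b'', hb''H⟩ : H)) (b := (⟨b, hbH⟩ : H))
    (by rw [Subgroup.orderOf_mk]; exact hob) (by rw [Subgroup.orderOf_mk]; exact hb)
  have hu' : (u : Subgroup.centralizer ({z} : Set G)) * b'' *
      (u : Subgroup.centralizer ({z} : Set G))⁻¹ = b ^ j := by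
    have := congrArg Subtype.val hu
    simpa using this
  have huq : (u : Subgroup.centralizer ({z} : Set G)) * q = q * (u : Subgroup.centralizer ({z} : Set G)) :=
    Subgroup.mem_centralizer_singleton_iff.1 u.2
  have hj : ¬ 7 ∣ j := by
    rintro ⟨m, rfl⟩
    rw [pow_mul, show b ^ 7 = 1 by rw [← hb]; exact pow_orderOf_eq_one b, one_pow,
      mul_inv_eq_one, mul_eq_left] at hu'
    rw [hu', orderOf_one] at hob
    omega
  obtain ⟨hy, hyk⟩ := exists_inducing hj
  obtain ⟨w, -, hw⟩ := exists_lift d hb hp hyk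
  set c := (u : Subgroup.centralizer ({z} : Set G)) * h1 with hc
  have hcb : (c : G) * (g0⁻¹ * (b : G) * g0) * (c : G)⁻¹ = (b : G) ^ j := by
    have := congrArg Subtype.val hu'
    simp only [hb'', hb', Subgroup.coe_mul, Subgroup.coe_inv, SubmonoidClass.coe_pow] at this
    rw [hc, Subgroup.coe_mul, ← this]
    group
  have hwb : (w : G) * (b : G) * (w : G)⁻¹ = (b : G) ^ j := by
    have := congrArg Subtype.val hw
    simpa using this
  have hcz : (c : G) * z = z * (c : G) := Subgroup.mem_centralizer_singleton_iff.1 c.2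
  have hwz : (w : G) * z = z * (w : G) := Subgroup.mem_centralizer_singleton_iff.1 w.2
  refine ⟨g0 * (c : G)⁻¹ * (w : G), ?_, ?_⟩
  · calc g0 * (c : G)⁻¹ * (w : G) * (b : G)
        = g0 * (c : G)⁻¹ * ((w : G) * (b : G) * (w : G)⁻¹) * (w : G) := by group
      _ = g0 * (c : G)⁻¹ * ((c : G) * (g0⁻¹ * (b : G) * g0) * (c : G)⁻¹) * (w : G) := by rw [hwb, hcb]
      _ = _ := by group
  · calc g0 * (c : G)⁻¹ * (w : G) * z * (g0 * (c : G)⁻¹ * (w : G))⁻¹
        = g0 * ((c : G)⁻¹ * ((w : G) * z * (w : G)⁻¹) * (c : G)) * g0⁻¹ := by group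
      _ = g0 * ((c : G)⁻¹ * (z * (c : G))) * g0⁻¹ := by rw [hwz, mul_inv_cancel_right]; group
      _ = g0 * z * g0⁻¹ := by rw [← hcz]; group
      _ = _ := hg0

set_option maxHeartbeats 1600000 in
theorem heldTypeAt (d : MonsterType.Data Q e ψ) (hex : ∃ g : G, ∃ y : Q,
      g * z * g⁻¹ = ((y : Subgroup.centralizer ({z} : Set G)) : G) ∧ g * z * g⁻¹ ≠ z)
    (x : Q) (hx : ψ (Leech.oct none) = QuotientGroup.mk x)
    (b : Subgroup.centralizer ({z} : Set G)) (hb : orderOf b = 7) (hp : proj e b = rho sS)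
    (B : Subgroup G) (hB : B = Subgroup.zpowers (b : G))
    [hn : (B.subgroupOf (Subgroup.centralizer (B : Set G))).Normal] :
    ∃ (hzC : z ∈ Subgroup.centralizer (B : Set G))
      (R : Subgroup (Subgroup.centralizer ({((⟨z, hzC⟩ : ↥(Subgroup.centralizer (B : Set G))) :
        ↥(Subgroup.centralizer (B : Set G)) ⧸ B.subgroupOf (Subgroup.centralizer (B : Set G)))} :
          Set (↥(Subgroup.centralizer (B : Set G)) ⧸ B.subgroupOf (Subgroup.centralizer (B : Set G))))))
      (_ : R.Normal),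
      IsExtraspecialCentralizerSetting _ R 3 ∧
      Nonempty (_ ⧸ R ≃* Matrix.SpecialLinearGroup (Fin 3) (ZMod 2)) ∧
      Set.ncard {y | y ∈ R ∧ IsConj ((⟨z, hzC⟩ : ↥(Subgroup.centralizer (B : Set G))) :
        ↥(Subgroup.centralizer (B : Set G)) ⧸ B.subgroupOf (Subgroup.centralizer (B : Set G))) y.1} = 29 ∧
      ∀ y, y ∈ R ↔ ∃ a : Q, b * a = (a : Subgroup.centralizer ({z} : Set G)) * b ∧
        ∃ ha : ((a : Subgroup.centralizer ({z} : Set G)) : G) ∈ Subgroup.centralizer (B : Set G),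
          (QuotientGroup.mk ⟨_, ha⟩ :
            ↥(Subgroup.centralizer (B : Set G)) ⧸ B.subgroupOf (Subgroup.centralizer (B : Set G))) = y.1 := by
  set C1 := Subgroup.centralizer (B : Set G) with hC1
  set N := B.subgroupOf C1 with hN
  have hx64 : Typ ψ 64 x := ⟨_, (Leech.stdCross_mem (Leech.oct_mem_stdCross none)).2, hx⟩
  set ζ : Q := ⟨zc z, zc_mem d⟩ with hζ
  have hζc : ζ ∈ Subgroup.center Q := zq_center d
  have hζ1 : ζ ≠ 1 := zq_ne_one d
  have hz0 := z_sq d
  have hb7 : b ^ 7 = 1 := by rw [← hb]; exact pow_orderOf_eq_one b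
  have hmemC1 : ∀ a : G, a ∈ C1 ↔ a * (b : G) = (b : G) * a := by
    intro a
    rw [hC1, hB, Subgroup.mem_centralizer_iff]
    constructor
    · intro h; exact (h _ (Subgroup.mem_zpowers _)).symm
    · intro h y hy
      obtain ⟨n, rfl⟩ := Subgroup.mem_zpowers_iff.1 hy
      exact ((show Commute a (b : G) from h).zpow_right n).eq.symm
  have hBpow : ∀ {a : G}, a ∈ B → ∃ i : ℕ, a = (b : G) ^ i := by
    intro a ha
    rw [hB, ← mem_powers_iff_mem_zpowers, Submonoid.mem_powers_iff] at ha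
    obtain ⟨i, hi⟩ := ha
    exact ⟨i, hi.symm⟩
  have hBQ : ∀ a : Subgroup.centralizer ({z} : Set G), a ∈ Q → (a : G) ∈ B → a = 1 := by
    intro a ha haB
    obtain ⟨i, hi⟩ := hBpow haB
    refine two_power_seven d ha (Subtype.ext ?_)
    show (a : G) ^ 7 = 1
    rw [hi, ← pow_mul, mul_comm, pow_mul, ← SubmonoidClass.coe_pow, hb7, Subgroup.coe_one, one_pow]
  have hzb : z * (b : G) = (b : G) * z := (Subgroup.mem_centralizer_singleton_iff.1 b.2).symm
  have hzC1 : z ∈ C1 := (hmemC1 z).2 hzb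
  set zb : C1 ⧸ N := QuotientGroup.mk ⟨z, hzC1⟩ with hzbd
  set Cb := Subgroup.centralizer ({zb} : Set (C1 ⧸ N)) with hCb
  set CC := Subgroup.centralizer ({b} : Set (Subgroup.centralizer ({z} : Set G))) with hCC
  have hmemCC : ∀ c : Subgroup.centralizer ({z} : Set G), c ∈ CC ↔ c * b = b * c := fun c =>
    Subgroup.mem_centralizer_singleton_iff
  have hCC1 : ∀ c : CC, ((c : Subgroup.centralizer ({z} : Set G)) : G) ∈ C1 := fun c =>
    (hmemC1 _).2 (congrArg Subtype.val ((hmemCC _).1 c.2))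
  let toC1 : CC →* C1 :=
    { toFun := fun c => ⟨_, hCC1 c⟩, map_one' := rfl, map_mul' := fun _ _ => rfl }
  have hμmem : ∀ c : CC, (QuotientGroup.mk (toC1 c) : C1 ⧸ N) ∈ Cb := fun c => by
    refine Subgroup.mem_centralizer_singleton_iff.2 ?_
    rw [hzbd, ← QuotientGroup.mk_mul, ← QuotientGroup.mk_mul]
    congr 1
    refine Subtype.ext ?_
    exact congrArg (fun a : Subgroup.centralizer ({z} : Set G) => (a : G))
      (commute_zc (c : Subgroup.centralizer ({z} : Set G))).eq.symm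
  let μ : CC →* Cb := ((QuotientGroup.mk' N).comp toC1).codRestrict Cb hμmem
  have hμker : ∀ {a : CC}, μ a = 1 ↔ ((a : Subgroup.centralizer ({z} : Set G)) : G) ∈ B := fun {a} =>
    ⟨fun ha => Subgroup.mem_subgroupOf.1 ((QuotientGroup.eq_one_iff (N := N) (toC1 a)).1 (congrArg Subtype.val ha)),
      fun ha => Subtype.ext ((QuotientGroup.eq_one_iff (N := N) (toC1 a)).2 (Subgroup.mem_subgroupOf.2 ha))⟩
  -- the quotient involution centraliser comes from the centraliser of `z`
  have hμsurj : Function.Surjective μ := by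
    rintro ⟨y, hy⟩
    obtain ⟨a, rfl⟩ := QuotientGroup.mk_surjective y
    have h1 := Subgroup.mem_centralizer_singleton_iff.1 hy
    rw [hzbd, ← QuotientGroup.mk_mul, ← QuotientGroup.mk_mul, QuotientGroup.eq] at h1
    obtain ⟨i, hi⟩ := hBpow (Subgroup.mem_subgroupOf.1 h1)
    simp only [Subgroup.coe_mul, Subgroup.coe_inv] at hi
    have hab : (a : G) * (b : G) = (b : G) * (a : G) := (hmemC1 _).1 a.2
    have hconj : (a : G)⁻¹ * z * (a : G) = z * (b : G) ^ i := by
      rw [← hi, show z * (((a : G) * z)⁻¹ * (z * (a : G))) = z * z⁻¹ * ((a : G)⁻¹ * z * (a : G)) by group,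
        mul_inv_cancel, one_mul]
    have hi1 : (b : G) ^ (i * 2) = 1 := by
      have h2 : ((a : G)⁻¹ * z * (a : G)) * ((a : G)⁻¹ * z * (a : G)) = 1 := by
        rw [show (a : G)⁻¹ * z * (a : G) * ((a : G)⁻¹ * z * (a : G)) = (a : G)⁻¹ * (z * z) * (a : G) by group,
          hz0]
        group
      rw [hconj, show z * (b : G) ^ i * (z * (b : G) ^ i) = z * ((b : G) ^ i * z) * (b : G) ^ i by group,
        ← ((show Commute z (b : G) from hzb).pow_right i).eq, ← mul_assoc, hz0, one_mul, ← pow_add] at h2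
      rwa [mul_two]
    have hb7G : orderOf (b : G) = 7 := by rw [Subgroup.orderOf_coe, hb]
    have hi7 : 7 ∣ i := by
      have := orderOf_dvd_of_pow_eq_one hi1
      rw [hb7G] at this
      exact (Nat.Coprime.dvd_of_dvd_mul_right (by norm_num) this)
    have hone : (b : G) ^ i = 1 := orderOf_dvd_iff_pow_eq_one.1 (hb7G ▸ hi7)
    rw [hone, mul_one] at hconj
    have haz : (a : G) * z = z * (a : G) := by
      conv_lhs => rw [← hconj]
      group
    exact ⟨⟨⟨a, Subgroup.mem_centralizer_singleton_iff.2 haz⟩, (hmemCC _).2 (Subtype.ext hab)⟩, rfl⟩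
  set CQ := Q.subgroupOf CC with hCQ
  set R := CQ.map μ with hR
  have hRn : R.Normal := (inferInstance : CQ.Normal).map μ hμsurj
  have hμinj : ∀ a ∈ CQ, μ a = 1 → a = 1 := fun a ha h => Subtype.ext (hBQ _ ha (hμker.1 h))
  have hμinj' : ∀ a ∈ CQ, ∀ a' ∈ CQ, μ a = μ a' → a = a' := fun a ha a' ha' h =>
    inv_mul_eq_one.1 (hμinj _ (CQ.mul_mem (CQ.inv_mem ha) ha') (by rw [map_mul, map_inv, h, inv_mul_cancel]))
  have hζCC : (ζ : Subgroup.centralizer ({z} : Set G)) ∈ CC := (hmemCC _).2 (commute_zc b).eq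
  set ζ' : CC := ⟨ζ, hζCC⟩ with hζ'
  set zbC : Cb := μ ζ' with hzbC
  have hzbval : (zbC : C1 ⧸ N) = zb := rfl
  have hzne : zbC ≠ 1 := fun h => hζ1 (Subtype.ext (congrArg (fun y : CC => (y : Subgroup.centralizer ({z} : Set G))) (hμinj ζ' ζ.2 h)))
  set wR : R := ⟨zbC, ζ', ζ.2, rfl⟩ with hwR
  have hwne : wR ≠ 1 := fun h => hzne (congrArg Subtype.val h)
  -- elements of `Q` commuting with `b` and their classes
  have hfixq : ∀ {q : Q} {v : leechLattice}, ψ v = QuotientGroup.mk q →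
      ((q : Subgroup.centralizer ({z} : Set G)) ∈ CC ↔ Leech.cls (sS • v) = Leech.cls v) := by
    intro q v hv
    rw [hmemCC, eq_comm]
    exact commute_b_iff d hb7 hp hv
  have hclass : ∀ q : Q, (q : Subgroup.centralizer ({z} : Set G)) ∈ CC →
      ∃ k, ψ (repV k) = QuotientGroup.mk q := by
    intro q hq
    obtain ⟨v, hv⟩ := d.hψ.2.1 (QuotientGroup.mk q)
    obtain ⟨k, hk⟩ := exists_kap ((hfixq hv).1 hq)
    exact ⟨k, ((psi_congr d).2 ((cls_repV k).trans hk)).trans hv⟩
  have hlift : ∀ k, ∀ q : Q, ψ (repV k) = QuotientGroup.mk q →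
      (q : Subgroup.centralizer ({z} : Set G)) ∈ CC := fun k q hq =>
    (hfixq hq).2 (congrArg Leech.cls (vecN_fixed _))
  have hinjk : Function.Injective fun k => ψ (repV k) := fun a c h => by
    have := (psi_congr d).1 h
    rw [cls_repV, cls_repV] at this
    exact kap_injective this
  have hpre : ∀ S : Set (Fin 6 → ZMod 2),
      Nat.card ↥(QuotientGroup.mk ⁻¹' ((fun k => ψ (repV k)) '' S) : Set Q) = 2 * S.ncard := by
    intro S
    have hc2 : Nat.card ↥(Subgroup.center Q) = 2 := by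
      have hset : (Subgroup.center Q : Set Q) = {1, ζ} := by
        ext a
        simp only [SetLike.mem_coe, Set.mem_insert_iff, Set.mem_singleton_iff]
        exact ⟨center_cases d, by rintro (rfl | rfl); exacts [Subgroup.one_mem _, hζc]⟩
      refine (Nat.card_coe_set_eq (Subgroup.center Q : Set Q)).trans ?_
      rw [hset, Set.ncard_pair hζ1.symm]
    rw [Nat.card_congr (QuotientGroup.preimageMkEquivSubgroupProdSet _ _), Nat.card_prod, hc2,
      Nat.card_coe_set_eq, Set.ncard_image_of_injective _ hinjk]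
  have hCQset : ∀ q : Q, (q : Subgroup.centralizer ({z} : Set G)) ∈ CC ↔
      q ∈ (QuotientGroup.mk ⁻¹' ((fun k => ψ (repV k)) '' Set.univ) : Set Q) := fun q =>
    ⟨fun h => (hclass q h).imp fun k hk => ⟨trivial, hk⟩, fun ⟨k, _, hk⟩ => hlift k q hk⟩
  have hCQcard : Nat.card CQ = 2 ^ 7 := by
    have h := hpre Set.univ
    rw [Set.ncard_univ] at h
    simp only [Nat.card_eq_fintype_card (α := Fin 6 → ZMod 2), Fintype.card_fun, ZMod.card, Fintype.card_fin] at h
    rw [show (2 : ℕ) ^ 7 = 2 * 2 ^ 6 from rfl, ← h]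
    exact Nat.card_congr ⟨fun a => ⟨⟨_, a.2⟩, (hCQset _).1 a.1.2⟩,
      fun q => ⟨⟨_, (hCQset _).2 q.2⟩, q.1.2⟩, fun _ => rfl, fun _ => rfl⟩
  have hRcard : Nat.card R = 2 ^ (2 * 3 + 1) := by
    rw [show (2 : ℕ) ^ (2 * 3 + 1) = 2 ^ 7 from rfl, ← hCQcard]
    exact (Nat.card_congr (Equiv.ofBijective (fun a : CQ => (⟨μ a, a.1, a.2, rfl⟩ : R))
      ⟨fun a a' h => Subtype.ext (hμinj' _ a.2 _ a'.2 (congrArg Subtype.val h)),
        by rintro ⟨_, a, ha, rfl⟩; exact ⟨⟨a, ha⟩, rfl⟩⟩)).symm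
  have hR2 : IsPGroup 2 R := IsPGroup.of_card hRcard
  have hcom1 : ∀ a ∈ CQ, ∀ a' ∈ CQ, μ a * μ a' = μ a' * μ a ∨ μ a * μ a' = zbC * (μ a' * μ a) := by
    intro a ha a' ha'
    rcases center_cases d (comm_mem_center d (⟨a, ha⟩ : Q) ⟨a', ha'⟩) with h | h
    · left
      rw [mul_inv_eq_one, mul_inv_eq_iff_eq_mul] at h
      rw [← map_mul, ← map_mul]
      exact congrArg μ (Subtype.ext (congrArg (fun q : Q => (q : Subgroup.centralizer ({z} : Set G))) h))
    · right
      rw [mul_inv_eq_iff_eq_mul, mul_inv_eq_iff_eq_mul, mul_assoc] at h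
      rw [← map_mul, ← map_mul, hzbC, ← map_mul]
      exact congrArg μ (Subtype.ext (congrArg (fun q : Q => (q : Subgroup.centralizer ({z} : Set G))) h))
  have hsq1 : ∀ a ∈ CQ, μ a * μ a = 1 ∨ μ a * μ a = zbC := by
    intro a ha
    obtain ⟨v, hv⟩ := d.hψ.2.1 (QuotientGroup.mk (⟨a, ha⟩ : Q))
    have hc : (⟨a, ha⟩ : Q) * ⟨a, ha⟩ ∈ Subgroup.center Q := by
      rw [← QuotientGroup.eq_one_iff, QuotientGroup.mk_mul, ← hv, ← d.hψ.1, d.hψ.2.2.1]
      exact ⟨v, rfl⟩
    rw [← map_mul]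
    rcases center_cases d hc with h | h
    · left
      rw [show a * a = 1 from Subtype.ext (congrArg (fun q : Q => (q : Subgroup.centralizer ({z} : Set G))) h),
        map_one]
    · right
      rw [hzbC]
      exact congrArg μ (Subtype.ext (congrArg (fun q : Q => (q : Subgroup.centralizer ({z} : Set G))) h))
  have hpartner : ∀ q : Q, (q : Subgroup.centralizer ({z} : Set G)) ∈ CC → q ∉ Subgroup.center Q →
      ∃ r : Q, (r : Subgroup.centralizer ({z} : Set G)) ∈ CC ∧ q * r ≠ r * q := by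
    intro q hq hqc
    obtain ⟨k, hk⟩ := hclass q hq
    have hk0 : k ≠ 0 := by
      rintro rfl
      refine hqc ((QuotientGroup.eq_one_iff q).1 ?_)
      rw [← hk, d.hψ.2.2.1]
      have h0 : Leech.cls (repV 0) = Leech.cls 0 := by
        rw [cls_repV]
        exact congrArg Leech.cls (show vecN (fun i => (((0 : Fin 6 → ZMod 2) i).val : ℤ)) = 0 by simp [vecN])
      obtain ⟨w, hw⟩ := Leech.cls_eq_iff.1 h0
      exact ⟨w, by rw [hw, zero_add]⟩
    obtain ⟨l, hl, hdot⟩ := nondeg k hk0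
    obtain ⟨r, hr⟩ := QuotientGroup.mk_surjective (ψ (repV l))
    refine ⟨r, hlift l r hr.symm, fun hc => hdot ?_⟩
    have hsq : r ^ 2 = 1 := (sq_iff d hr.symm).2 (by
      rw [show sqNorm (repV l : GolayPt → ℤ) = normK l from layer_repV l]
      rcases hl with h | h <;> rw [h] <;> decide)
    rw [← repV_coe, ← repV_coe]
    exact (commute_iff d hk hr.symm hsq).1 hc
  have hcenR : ∀ c ∈ Subgroup.center R, c = 1 ∨ c = wR := by
    rintro ⟨_, a, ha, rfl⟩ hc
    by_cases hqc : (⟨a, ha⟩ : Q) ∈ Subgroup.center Q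
    · rcases center_cases d hqc with h | h
      · left
        refine Subtype.ext ?_
        show μ a = 1
        rw [show a = 1 from Subtype.ext (congrArg (fun q : Q => (q : Subgroup.centralizer ({z} : Set G))) h),
          map_one]
      · right
        exact Subtype.ext (congrArg μ (Subtype.ext (congrArg (fun q : Q => (q : Subgroup.centralizer ({z} : Set G))) h)))
    · exfalso
      obtain ⟨r, hr, hne⟩ := hpartner _ a.2 hqc
      set r' : CC := ⟨r, hr⟩ with hr'
      have h := congrArg Subtype.val (Subgroup.mem_center_iff.1 hc ⟨μ r', r', r.2, rfl⟩)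
      change μ r' * μ a = μ a * μ r' at h
      rw [← map_mul, ← map_mul] at h
      have h2 := hμinj' _ (CQ.mul_mem r.2 ha) _ (CQ.mul_mem ha r.2) h
      exact hne (Subtype.ext (congrArg (fun y : CC => (y : Subgroup.centralizer ({z} : Set G))) h2).symm)
  have hwc : wR ∈ Subgroup.center R := Subgroup.mem_center_iff.2 fun r => Subtype.ext (by
    refine Subtype.ext ?_
    exact Subgroup.mem_centralizer_singleton_iff.1 (r : Cb).2)
  have hww : wR * wR = 1 := Subtype.ext (by
    show μ ζ' * μ ζ' = 1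
    rw [← map_mul, show ζ' * ζ' = 1 from Subtype.ext (Subtype.ext hz0), map_one])
  have hExt : IsExtraspecial 2 R := by
    refine LargeExtra.extraspecial_of hR2 hwne hww hwc hcenR ?_ ?_ ?_
    · rintro ⟨_, a, ha, rfl⟩ ⟨_, a', ha', rfl⟩
      rw [commutatorElement_def]
      rcases hcom1 a ha a' ha' with h | h
      · left; refine Subtype.ext ?_
        show μ a * μ a' * (μ a)⁻¹ * (μ a')⁻¹ = 1
        rw [h]; group
      · right; refine Subtype.ext ?_
        show μ a * μ a' * (μ a)⁻¹ * (μ a')⁻¹ = zbC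
        rw [h]; group
    · rintro ⟨_, a, ha, rfl⟩
      rcases hsq1 a ha with h | h
      · exact Or.inl (Subtype.ext h)
      · exact Or.inr (Subtype.ext h)
    · obtain ⟨r, hr, hne⟩ := hpartner x (hfixq hx |>.2 (congrArg Leech.cls oct_fixed))
        (typ_notMem_center d (Or.inr (Or.inr rfl)) hx64)
      set x' : CC := ⟨x, hfixq hx |>.2 (congrArg Leech.cls oct_fixed)⟩
      refine ⟨⟨μ x', x', x.2, rfl⟩, ⟨μ ⟨r, hr⟩, _, r.2, rfl⟩, fun h => hne ?_⟩
      have h' := congrArg Subtype.val h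
      change μ x' * μ _ = μ _ * μ x' at h'
      rw [← map_mul, ← map_mul] at h'
      have h2 := hμinj' _ (CQ.mul_mem x.2 r.2) _ (CQ.mul_mem r.2 x.2) h'
      exact Subtype.ext (congrArg (fun y : CC => (y : Subgroup.centralizer ({z} : Set G))) h2)
  -- the quotient
  have hκmem : ∀ c : CC, proj e c ∈ cent7Bar := fun c => Subgroup.mem_centralizer_singleton_iff.2 (by
    rw [← hp, ← map_mul, ← map_mul]; exact congrArg (proj e) ((hmemCC _).1 c.2))
  let κ0 : CC →* ↥cent7Bar := ((proj e).comp CC.subtype).codRestrict cent7Bar hκmem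
  let κ : CC →* Matrix.SpecialLinearGroup (Fin 3) (ZMod 2) := phiBar.comp κ0
  have hκsurj : Function.Surjective κ := fun g => by
    obtain ⟨y, rfl⟩ := phiBar_surjective g
    obtain ⟨w, hw, hwb⟩ := exists_lift d hb hp (y := (y : Spor.Co1)) (k := 1) (by
      rw [pow_one, Subgroup.mem_centralizer_singleton_iff.1 y.2, mul_inv_cancel_right])
    rw [pow_one, mul_inv_eq_iff_eq_mul] at hwb
    exact ⟨⟨w, (hmemCC w).2 hwb⟩, congrArg phiBar (Subtype.ext hw)⟩
  have hbCC : b ∈ CC := (hmemCC b).2 rfl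
  have hκker : ∀ {c : CC}, κ c = 1 → μ c ∈ R := fun {c} hc => by
    have hm : proj e (c : Subgroup.centralizer ({z} : Set G)) ∈ Subgroup.zpowers (rho sS) :=
      phiBar_eq_one.1 hc
    obtain ⟨i, hi⟩ := Subgroup.mem_zpowers_iff.1 hm
    set b1 : CC := ⟨b, hbCC⟩
    have hq : ((c * (b1 ^ i)⁻¹ : CC) : Subgroup.centralizer ({z} : Set G)) ∈ Q := by
      rw [← proj_eq_one (e := e)]
      simp only [Subgroup.coe_mul, Subgroup.coe_inv, SubgroupClass.coe_zpow, map_mul, map_inv, map_zpow,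
        show (b1 : Subgroup.centralizer ({z} : Set G)) = b from rfl, hp, hi, mul_inv_cancel]
    have hb1 : μ b1 = 1 := hμker.2 (hB ▸ Subgroup.mem_zpowers _)
    exact ⟨c * (b1 ^ i)⁻¹, hq, by rw [map_mul, map_inv, map_zpow, hb1, one_zpow, inv_one, mul_one]⟩
  have hμκ : μ.ker ≤ κ.ker := fun c hc => by
    obtain ⟨i, hi⟩ := hBpow (hμker.1 (MonoidHom.mem_ker.1 hc))
    refine MonoidHom.mem_ker.2 (phiBar_eq_one.2 ?_)
    show proj e (c : Subgroup.centralizer ({z} : Set G)) ∈ _
    rw [show (c : Subgroup.centralizer ({z} : Set G)) = b ^ i from Subtype.ext hi, map_pow, hp]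
    exact Subgroup.npow_mem_zpowers _ _
  let Θ : Cb →* Matrix.SpecialLinearGroup (Fin 3) (ZMod 2) :=
    μ.liftOfRightInverse (Function.surjInv hμsurj) (Function.rightInverse_surjInv hμsurj) ⟨κ, hμκ⟩
  have hΘ : ∀ c, Θ (μ c) = κ c := fun c => μ.liftOfRightInverse_comp_apply _ _ _ c
  have hΘsurj : Function.Surjective Θ := fun g => by
    obtain ⟨c, hc⟩ := hκsurj g
    exact ⟨μ c, (hΘ c).trans hc⟩
  have hΘker : Θ.ker = R := by
    ext y
    obtain ⟨c, rfl⟩ := hμsurj y
    rw [MonoidHom.mem_ker, hΘ]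
    refine ⟨hκker, ?_⟩
    rintro ⟨a, ha, hac⟩
    rw [← hΘ, ← hac, hΘ]
    refine phiBar_eq_one.2 ?_
    show proj e (a : Subgroup.centralizer ({z} : Set G)) ∈ _
    rw [show proj e (a : Subgroup.centralizer ({z} : Set G)) = 1 from proj_eq_one.2 ha]
    exact Subgroup.one_mem _
  let eb : Cb ⧸ R ≃* Matrix.SpecialLinearGroup (Fin 3) (ZMod 2) :=
    (QuotientGroup.quotientMulEquivOfEq hΘker.symm).trans
      (QuotientGroup.quotientKerEquivOfSurjective Θ hΘsurj)
  refine ⟨hzC1, R, hRn, ⟨?_, ?_, hExt, hRcard, ?_⟩, ⟨eb⟩, ?_, ?_⟩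
  · show orderOf zb = 2
    rw [← hzbval, Subgroup.orderOf_coe]
    exact orderOf_eq_prime (by rw [sq]; exact congrArg Subtype.val hww) hzne
  · -- generalised Fitting subgroup
    have := isSimple_sl
    have hFle : fittingSubgroup Cb ≤ R := by
      rw [← hΘker, ← Subgroup.map_eq_bot_iff]
      have hsn : ((fittingSubgroup Cb).map Θ).Normal :=
        (inferInstance : (fittingSubgroup Cb).Normal).map Θ hΘsurj
      refine (IsSimpleGroup.eq_bot_or_eq_top_of_normal _ hsn).resolve_right fun h => ?_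
      have hnil : Group.IsNilpotent ↥((fittingSubgroup Cb).map Θ) :=
        Group.nilpotent_of_surjective (Θ.subgroupMap (fittingSubgroup Cb))
          (MonoidHom.subgroupMap_surjective Θ _)
      rw [h] at hnil
      have : Group.IsNilpotent (Matrix.SpecialLinearGroup (Fin 3) (ZMod 2)) :=
        (Group.isNilpotent_congr Subgroup.topEquiv).1 hnil
      have hne := Group.IsNilpotent.center_ne_bot (Matrix.SpecialLinearGroup (Fin 3) (ZMod 2))
      have hct := (IsSimpleGroup.eq_bot_or_eq_top_of_normal _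
        (inferInstance : (Subgroup.center (Matrix.SpecialLinearGroup (Fin 3) (ZMod 2))).Normal)).resolve_left hne
      let _ : CommGroup (Matrix.SpecialLinearGroup (Fin 3) (ZMod 2)) :=
        { mul_comm := fun a c => Subgroup.mem_center_iff.1 (hct ▸ Subgroup.mem_top c) a }
      have hpr := IsSimpleGroup.prime_card (α := Matrix.SpecialLinearGroup (Fin 3) (ZMod 2))
      rw [card_sl] at hpr
      norm_num at hpr
    have hFge : R ≤ fittingSubgroup Cb := Core.le_fittingSubgroup hR2.isNilpotent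
    have hF : fittingSubgroup Cb = R := le_antisymm hFle hFge
    have hlayer : layer Cb = ⊥ := by
      rw [Layer.layer_eq_bot_iff_centralizer_fitting, hF]
      intro y hy
      obtain ⟨c, rfl⟩ := hμsurj y
      rw [← hΘker, MonoidHom.mem_ker, hΘ]
      obtain ⟨g, hg, hge⟩ := exists_lift_cent (hκmem c)
      have hcl : ∀ k, Leech.cls (g • repV k) = Leech.cls (repV k) := by
        intro k
        obtain ⟨q, hq⟩ := QuotientGroup.mk_surjective (ψ (repV k))
        have hqC := hlift k q hq.symm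
        set q' : CC := ⟨q, hqC⟩
        have h1 := Subgroup.mem_centralizer_iff.1 hy (μ q') ⟨q', q.2, rfl⟩
        have h2 : μ (c * q' * c⁻¹) = μ q' := by
          rw [map_mul, map_mul, map_inv, ← h1]; group
        have h3 := hμinj' _ ((inferInstance : CQ.Normal).conj_mem q' q.2 c) _ q.2 h2
        have h4 := d.hψ.2.2.2 (c : Subgroup.centralizer ({z} : Set G)) g hge (repV k) q hq.symm
        rw [show (⟨(c : Subgroup.centralizer ({z} : Set G)) * q * (c : Subgroup.centralizer ({z} : Set G))⁻¹,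
          (inferInstance : Q.Normal).conj_mem _ q.2 _⟩ : Q) = q from
            Subtype.ext (congrArg (fun y : CC => (y : Subgroup.centralizer ({z} : Set G))) h3), hq] at h4
        exact (psi_congr d).1 h4
      have hphi := phi_of_fixes (g := ⟨g, hg⟩) hcl
      show phiBar (κ0 c) = 1
      rw [show κ0 c = rhoCent ⟨g, hg⟩ from Subtype.ext hge.symm, phiBar_rho, hphi]
    show generalizedFittingSubgroup Cb = R
    rw [generalizedFittingSubgroup, hlayer, bot_sup_eq, hF]
  · -- not weakly closed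
    have hxCC : (x : Subgroup.centralizer ({z} : Set G)) ∈ CC :=
      hfixq hx |>.2 (congrArg Leech.cls oct_fixed)
    obtain ⟨w, hwb, hwz⟩ := fusion d hex hx hx64 hb hp hx64 ((hmemCC _).1 hxCC).symm
    set W : C1 ⧸ N := QuotientGroup.mk ⟨w, (hmemC1 w).2 hwb⟩ with hW
    set x' : CC := ⟨x, hxCC⟩
    have hval : W * zb * W⁻¹ = ((μ x' : Cb) : C1 ⧸ N) := by
      rw [hW, hzbd, ← QuotientGroup.mk_inv, ← QuotientGroup.mk_mul, ← QuotientGroup.mk_mul]
      exact congrArg QuotientGroup.mk (Subtype.ext hwz)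
    have hmemCb : W * zb * W⁻¹ ∈ Cb := hval ▸ (μ x').2
    refine ⟨W, ⟨hmemCb, x', x.2, Subtype.ext hval.symm⟩, fun heq => ?_⟩
    rw [hval] at heq
    change _ = zb at heq
    rw [← hzbval] at heq
    have h3 := hμinj' x' x.2 ζ' ζ.2 (Subtype.ext heq)
    exact typ_notMem_center d (Or.inr (Or.inr rfl)) hx64
      ((show x = ζ from Subtype.ext (congrArg (fun y : CC => (y : Subgroup.centralizer ({z} : Set G))) h3)) ▸ hζc)
  · -- the count
    set T : Set Q := (QuotientGroup.mk ⁻¹' ((fun k => ψ (repV k)) '' {k | normK k = 64}) : Set Q) with hT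
    have hTCC : ∀ q ∈ T, (q : Subgroup.centralizer ({z} : Set G)) ∈ CC := fun q ⟨k, _, hk⟩ => hlift k q hk
    have hTtyp : ∀ q ∈ T, Typ ψ 64 q := fun q ⟨k, hk, hk'⟩ => ⟨repV k, (hk : normK k = 64) ▸ layer_repV k, hk'⟩
    have hζT : ζ ∉ T := fun h => typ_notMem_center d (Or.inr (Or.inr rfl)) (hTtyp ζ h) hζc
    have hins : (insert ζ T).ncard = 29 := by
      rw [Set.ncard_insert_of_notMem hζT (Set.toFinite _), ← Nat.card_coe_set_eq, hT, hpre]
      have h14 : ({k | normK k = 64} : Set (Fin 6 → ZMod 2)).ncard = 14 := by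
        rw [← card_frames, ← Set.ncard_coe_finset]
        congr 1
        ext k; simp
      rw [h14]
    rw [← hins]
    have hin : ∀ q ∈ insert ζ T, (q : Subgroup.centralizer ({z} : Set G)) ∈ CC := by
      rintro q (rfl | h)
      · exact hζCC
      · exact hTCC q h
    refine (Set.ncard_congr (s := insert ζ T) (fun (q : Q) hq => μ ⟨(q : Subgroup.centralizer ({z} : Set G)), hin q hq⟩) ?_ ?_ ?_).symm
    · intro q hq
      refine ⟨⟨⟨(q : Subgroup.centralizer ({z} : Set G)), hin q hq⟩, q.2, rfl⟩, ?_⟩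
      rcases hq with rfl | hqT
      · exact IsConj.refl zb
      · obtain ⟨w, hwb, hwz⟩ := fusion d hex hx hx64 hb hp (hTtyp q hqT) ((hmemCC _).1 (hTCC q hqT)).symm
        refine isConj_iff.2 ⟨QuotientGroup.mk ⟨w, (hmemC1 w).2 hwb⟩, ?_⟩
        have hq' : (QuotientGroup.mk ((⟨w, (hmemC1 w).2 hwb⟩ : C1) * ⟨z, hzC1⟩ * (⟨w, (hmemC1 w).2 hwb⟩ : C1)⁻¹) : C1 ⧸ N) =
            QuotientGroup.mk (toC1 ⟨(q : Subgroup.centralizer ({z} : Set G)), hTCC q hqT⟩) :=
          congrArg QuotientGroup.mk (Subtype.ext hwz)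
        exact hq'
    · intro q q' hq hq' h
      exact Subtype.ext (congrArg (fun y : CC => (y : Subgroup.centralizer ({z} : Set G)))
        (hμinj' _ q.2 _ q'.2 h))
    · rintro y ⟨⟨a, ha, rfl⟩, hconj⟩
      obtain ⟨W, hW⟩ := isConj_iff.1 hconj
      obtain ⟨⟨w, hw⟩, rfl⟩ := QuotientGroup.mk_surjective W
      have hW' : (QuotientGroup.mk ((⟨w, hw⟩ : C1) * ⟨z, hzC1⟩ * (⟨w, hw⟩ : C1)⁻¹) : C1 ⧸ N) =
          QuotientGroup.mk (toC1 a) := hW
      obtain ⟨i, hi⟩ := hBpow (Subgroup.mem_subgroupOf.1 (QuotientGroup.eq.1 hW'))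
      simp only [Subgroup.coe_mul, Subgroup.coe_inv] at hi
      set aG : G := ((a : Subgroup.centralizer ({z} : Set G)) : G) with haG
      have hval : aG = w * z * w⁻¹ * (b : G) ^ i := by rw [← hi]; group; rfl
      have hab : (b : G) * aG = aG * (b : G) :=
        (congrArg Subtype.val ((hmemCC _).1 a.2)).symm
      set u := w * z * w⁻¹ with hu
      have hub : Commute u ((b : G) ^ i) := by
        have h1 : Commute w (b : G) := (hmemC1 w).1 hw
        exact ((h1.mul_left hzb).mul_left h1.inv_left).pow_right i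
      have hu2 : u * u = 1 := by
        rw [hu, show w * z * w⁻¹ * (w * z * w⁻¹) = w * (z * z) * w⁻¹ by group, hz0]; group
      have ha2 : a * a = 1 := by
        have hbi : ((b : G) ^ i) * ((b : G) ^ i) ∈ B := by
          rw [hB, ← pow_add]; exact Subgroup.npow_mem_zpowers _ _
        have hsq : ((a * a : CC) : Subgroup.centralizer ({z} : Set G)) = ((a : CC) : Subgroup.centralizer ({z} : Set G)) * a := rfl
        refine hμinj _ (CQ.mul_mem ha ha) (hμker.2 ?_)
        show aG * aG ∈ B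
        rw [hval, hub.symm.mul_mul_mul_comm, hu2, one_mul]
        exact hbi
      have haq : aG * aG = 1 := congrArg (fun y : CC => ((y : Subgroup.centralizer ({z} : Set G)) : G)) ha2
      have hbi1 : (b : G) ^ i = 1 := by
        rw [hval, hub.symm.mul_mul_mul_comm, hu2, one_mul, ← pow_add, ← mul_two] at haq
        have := orderOf_dvd_of_pow_eq_one haq
        rw [Subgroup.orderOf_coe, hb] at this
        have h7 : 7 ∣ i := Nat.Coprime.dvd_of_dvd_mul_right (by norm_num) this
        exact orderOf_dvd_iff_pow_eq_one.1 (by rw [Subgroup.orderOf_coe, hb]; exact h7)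
      rw [hbi1, mul_one] at hval
      have hconjz : IsConj z aG := isConj_iff.2 ⟨w, hval.symm⟩
      set q : Q := ⟨a, ha⟩ with hq
      refine ⟨q, ?_, rfl⟩
      by_cases hz' : aG = z
      · exact Or.inl (Subtype.ext (Subtype.ext hz'))
      · have h64 := (typ64_iff d hex q).1 ⟨hconjz, hz'⟩
        obtain ⟨k, hk⟩ := hclass q a.2
        obtain ⟨v, hv, hvq⟩ := h64
        refine Or.inr ⟨k, ?_, hk⟩
        exact norm_of_cls (le_refl _) hv ((cls_repV k).symm.trans ((psi_congr d).1 (hk.trans hvq.symm)))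
  · intro y
    constructor
    · rintro ⟨a, ha, rfl⟩
      exact ⟨⟨a, ha⟩, ((hmemCC _).1 a.2).symm, hCC1 a, rfl⟩
    · rintro ⟨a, hab, ha, hy⟩
      exact ⟨⟨a, (hmemCC _).2 hab.symm⟩, a.2, Subtype.ext hy⟩

theorem heldType (d : MonsterType.Data Q e ψ) (hex : ∃ g : G, ∃ y : Q,
      g * z * g⁻¹ = ((y : Subgroup.centralizer ({z} : Set G)) : G) ∧ g * z * g⁻¹ ≠ z)
    (x : Q) (hx : ψ (Leech.oct none) = QuotientGroup.mk x)
    (b : Subgroup.centralizer ({z} : Set G)) (hb : orderOf b = 7) (hp : proj e b = rho sS)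
    (B : Subgroup G) (hB : B = Subgroup.zpowers (b : G))
    [hn : (B.subgroupOf (Subgroup.centralizer (B : Set G))).Normal] :
    IsOfHeldType (↥(Subgroup.centralizer (B : Set G)) ⧸ B.subgroupOf (Subgroup.centralizer (B : Set G))) := by
  obtain ⟨hzC, R, hR, h1, h2, h3, -⟩ := heldTypeAt d hex x hx b hb hp B hB
  exact ⟨_, R, hR, h1, h2, h3⟩

end Cfsg.Agent.HeldType
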