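import Mathlib
import Cfsg.Agent.HeldType.Six
import Cfsg.Agent.Leech.Transitive
import Cfsg.Agent.Leech.Cross
import Cfsg.Agent.Leech.SignGroup

/-! Sign changes fixing the classes orthogonal to the standard frame, up to that frame; the pair vector. -/

set_option autoImplicit false
set_option maxRecDepth 8000

namespace Cfsg.Agent.HeldType
open Cfsg Cfsg.Agent MonsterType
open Fin.NatCast

/-- every proper nonzero word meets some octad in two or four points -/
theorem octad_meet : ((List.range 4096).all fun n =>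
    Leech.maskOf n == 0 || Leech.maskOf n == 2 ^ 24 - 1 || (List.range 4096).any fun k =>
      Leech.maskWeight (Leech.maskOf k) == 8 &&
        (Leech.maskWeight (Leech.maskOf k &&& Leech.maskOf n) == 2 ||
          Leech.maskWeight (Leech.maskOf k &&& Leech.maskOf n) == 4)) = true := by
  decide +kernel

theorem cls_add_oct {u : leechLattice} {a b : leechLattice} (h : (u : GolayPt → ℤ) =
    (a : GolayPt → ℤ) - (b : GolayPt → ℤ)) {t : leechLattice}
    (hab : Leech.cls a = Leech.cls (b + t)) : Leech.cls u = Leech.cls t := by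
  obtain ⟨w, hw⟩ := Leech.cls_eq_iff.1 hab
  refine Leech.cls_eq_iff.2 ⟨w, Subtype.ext ?_⟩
  rw [h, hw]
  simp only [AddSubgroup.coe_add]
  abel

/-- a sign change that fixes, up to the frame, every class orthogonal to the frame is central -/
theorem sign_trivial {c : Multiplicative ↥golayCode}
    (h : ∀ v : leechLattice, (16 : ℤ) ∣ dotInt (v : GolayPt → ℤ) ((Leech.oct none : leechLattice) : GolayPt → ℤ) →
      Leech.cls (signHom c • v) = Leech.cls v ∨ Leech.cls (signHom c • v) = Leech.cls (v + Leech.oct none)) :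
    rho (signHom c) = 1 := by
  obtain ⟨n, hn⟩ := Leech.exists_enum c.toAdd.2
  have hp := List.all_eq_true.1 octad_meet n.1 (List.mem_range.2 n.2)
  simp only [Bool.or_eq_true, beq_iff_eq, List.any_eq_true, List.mem_range, Bool.and_eq_true] at hp
  rcases hp with (h0 | h1) | ⟨k, hk, hk8, hkn⟩
  · have : c = 1 := Multiplicative.toAdd.injective (Subtype.ext (by
      rw [← hn]; funext p; simp [Leech.enum, Leech.bitWord, h0]))
    rw [this, map_one, map_one]
  · have : c = allOnes := Multiplicative.toAdd.injective (Subtype.ext (by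
      rw [← hn]
      funext p
      show (if (Leech.maskOf n.1).testBit (Leech.idx p) then (1 : ZMod 2) else 0) = 1
      rw [h1, Nat.testBit_two_pow_sub_one]
      simp [Leech.idx_lt p]))
    exact rho_eq_one.2 (Or.inr (by rw [this]; rfl))
  exfalso
  set o := Leech.enum ⟨k, hk⟩
  let v : leechLattice := ⟨_, Leech.two_mul_word_mem (Leech.enum_mem ⟨k, hk⟩)⟩
  have hdot : (16 : ℤ) ∣ dotInt (v : GolayPt → ℤ) ((Leech.oct none : leechLattice) : GolayPt → ℤ) := by
    refine ⟨((o none).val : ℤ), ?_⟩
    show ∑ i, (2 * ((o i).val : ℤ)) * (Pi.single none 8 : GolayPt → ℤ) i = _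
    rw [Finset.sum_eq_single none (fun b _ hb => by simp [hb]) (by simp), Pi.single_eq_same]
    ring
  have hc := h v hdot
  let u : leechLattice := ⟨_, sub_mem (signHom c • v).2 v.2⟩
  have hu : (u : GolayPt → ℤ) = fun p =>
      if (Leech.maskOf k &&& Leech.maskOf n.1).testBit (Leech.idx p) then -4 else 0 := by
    funext p
    show ((Leech.signCo0 _ c.toAdd.2 • v : leechLattice) : GolayPt → ℤ) p - (v : GolayPt → ℤ) p = _
    rw [Leech.signCo0_apply]
    simp only [Leech.negOn, Nat.testBit_and, ← hn, Leech.enum, Leech.bitWord, v]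
    cases (Leech.maskOf k).testBit (Leech.idx p) <;> cases (Leech.maskOf n.1).testBit (Leech.idx p) <;>
      simp [ZMod.val_one]
  have hnorm : sqNorm (u : GolayPt → ℤ) = 32 ∨ sqNorm (u : GolayPt → ℤ) = 64 := by
    have hw := Leech.hammingNorm_bitWord (Leech.maskOf k &&& Leech.maskOf n.1)
    have hs : sqNorm (u : GolayPt → ℤ) =
        16 * (hammingNorm (Leech.bitWord (Leech.maskOf k &&& Leech.maskOf n.1)) : ℤ) := by
      rw [hu, sqNorm, hammingNorm, Finset.card_filter, Nat.cast_sum, Finset.mul_sum]
      refine Finset.sum_congr rfl fun p _ => ?_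
      simp only [Leech.bitWord]
      split_ifs <;> simp_all
    rw [hs, hw, show ((List.range 24).filter fun i => (Leech.maskOf k &&& Leech.maskOf n.1).testBit i).length =
      Leech.maskWeight (Leech.maskOf k &&& Leech.maskOf n.1) from rfl]
    rcases hkn with e | e <;> rw [e] <;> norm_num
  rcases hc with hc | hc
  · have h0 : Leech.cls u = Leech.cls 0 := cls_add_oct (t := 0) rfl (by rw [add_zero]; exact hc)
    obtain ⟨N, hN, hN0, hNu⟩ : ∃ N : ℤ, N ≤ 64 ∧ N ≠ 0 ∧ sqNorm (u : GolayPt → ℤ) = N := by
      rcases hnorm with e | e <;> exact ⟨_, by norm_num, by norm_num, e⟩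
    refine Set.disjoint_left.1 (Leech.image_disjoint hN (by norm_num : (0 : ℤ) ≤ 64) hN0)
      ⟨u, hNu, rfl⟩ ⟨0, ?_, h0.symm⟩
    show sqNorm ((0 : leechLattice) : GolayPt → ℤ) = 0
    simp [sqNorm]
  · have h8 : Leech.cls u = Leech.cls (Leech.oct none) := cls_add_oct rfl hc
    rcases hnorm with e | e
    · exact Set.disjoint_left.1 (Leech.image_disjoint (by norm_num : (32 : ℤ) ≤ 64) le_rfl (by norm_num))
        ⟨u, e, rfl⟩ ⟨Leech.oct none, (Leech.stdCross_mem (Leech.oct_mem_stdCross none)).2, h8.symm⟩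
    · obtain ⟨w, hw, hwe⟩ := Leech.cls_eq.1 h8.symm
      obtain ⟨i, s, hs, hval⟩ := Leech.stdCross_class (Leech.oct_mem_stdCross none) e hw hwe
      have hi := congrFun (hu.symm.trans hval) i
      simp only [Pi.single_eq_same] at hi
      split_ifs at hi <;> rcases hs with rfl | rfl <;> omega

/-- the pair vector -/
def pairV : leechLattice := vecN ![4, 0, -2, -1, 0, -2]

theorem pairV_coe : (pairV : GolayPt → ℤ) = spread ![4, 4, 0, 0, 0, 0] := by
  refine (spread_six (vecN_fixed _)).trans (congrArg spread ?_)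
  show six (vecN _) = _
  rw [six_vecN]
  decide +kernel

theorem pairV_facts : sqNorm (spread ![4, 4, 0, 0, 0, 0]) = 32 ∧
    (16 : ℤ) ∣ dotInt (spread ![4, 4, 0, 0, 0, 0]) (Pi.single none 8) ∧
    (∀ p, spread ![4, 4, 0, 0, 0, 0] p = if p = fixPt 0 ∨ p = fixPt 1 then 4 else 0) ∧
    fixPt 0 ≠ fixPt 1 := by decide +kernel

/-- a sign change moves the pair class at most by the frame -/
theorem pair_sign (c : Multiplicative ↥golayCode) : Leech.cls (signHom c • pairV) = Leech.cls pairV ∨
    Leech.cls (signHom c • pairV) = Leech.cls (pairV + Leech.oct none) := by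
  obtain ⟨-, -, hp, hne⟩ := pairV_facts
  have hv : ∀ p, (pairV : GolayPt → ℤ) p = if p = fixPt 0 ∨ p = fixPt 1 then 4 else 0 := fun p => by
    rw [pairV_coe]; exact hp p
  have he : ∀ p, ((signHom c • pairV : leechLattice) : GolayPt → ℤ) p =
      if c.toAdd.1 p = 0 then (pairV : GolayPt → ℤ) p else -(pairV : GolayPt → ℤ) p := fun p => by
    show ((Leech.signCo0 _ c.toAdd.2 • pairV : leechLattice) : GolayPt → ℤ) p = _
    rw [Leech.signCo0_apply]; rfl
  have one : ∀ a b : GolayPt, a ≠ b → (∀ p, (pairV : GolayPt → ℤ) p = if p = a ∨ p = b then 4 else 0) →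
      c.toAdd.1 a ≠ 0 → c.toAdd.1 b = 0 →
      Leech.cls (signHom c • pairV) = Leech.cls (pairV + Leech.oct none) := by
    intro a b hab hv ha hb
    obtain ⟨w, hw, hwe⟩ := Leech.stdCross_congr (a := Pi.single a (-8)) ⟨a, -8, Or.inr rfl, rfl⟩
      (Leech.oct_mem_stdCross none)
    refine Leech.cls_eq.2 ⟨w, hw, funext fun p => ?_⟩
    have := congrFun hwe p
    simp only [Pi.sub_apply, AddSubgroup.coe_add, Pi.add_apply, he, hv] at this ⊢
    by_cases hpa : p = a
    · subst hpa
      simp only [Pi.single_eq_same] at this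
      simp only [true_or, if_true, if_neg ha]
      linarith
    · rw [Pi.single_eq_of_ne hpa] at this
      by_cases hpb : p = b
      · subst hpb
        simp only [or_true, if_true, if_pos hb]
        linarith
      · simp only [hpa, hpb, or_self, if_false, neg_zero, ite_self]
        linarith
  by_cases h0 : c.toAdd.1 (fixPt 0) = 0 <;> by_cases h1 : c.toAdd.1 (fixPt 1) = 0
  · left
    refine congrArg Leech.cls (Subtype.ext (funext fun p => ?_))
    rw [he, hv]
    by_cases hb : p = fixPt 0 ∨ p = fixPt 1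
    · rcases hb with rfl | rfl
      · simp [h0]
      · simp [h1]
    · simp [hb]
  · exact Or.inr (one (fixPt 1) (fixPt 0) hne.symm (fun p => by rw [hv]; simp only [or_comm]) h1 h0)
  · exact Or.inr (one (fixPt 0) (fixPt 1) hne hv h0 h1)
  · left
    refine Leech.cls_eq_iff.2 ⟨-pairV, Subtype.ext (funext fun p => ?_)⟩
    simp only [AddSubgroup.coe_add, AddSubgroup.coe_neg, Pi.add_apply, Pi.neg_apply, he, hv]
    by_cases hb : p = fixPt 0 ∨ p = fixPt 1
    · rcases hb with rfl | rfl
      · simp [h0]
      · simp [h1]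
    · simp [hb]

end Cfsg.Agent.HeldType
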