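import Mathlib
import Cfsg.Agent.HeldType.Main
import Cfsg.Agent.HeldType.SignTest

/-! A short element fixed by the element of order 7 in the meet of the extraspecial subgroup and a conjugate. -/

set_option autoImplicit false

namespace Cfsg.Agent.HeldType
open Cfsg Cfsg.Agent MonsterType

variable {G : Type*} [Group G] [Finite G] {z : G}
  {Q : Subgroup (Subgroup.centralizer ({z} : Set G))} [Q.Normal]
  {e : (Subgroup.centralizer ({z} : Set G)) ⧸ Q ≃* Spor.Co1}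
  {ψ : leechLattice → Q ⧸ Subgroup.center Q}

theorem shift_in_frame : ∃ y ∈ stabCls (Leech.oct none), orderOf y = 23 := by
  refine ⟨permHom shiftM, perm_mem_frame shiftM, ?_⟩
  have hinj : Function.Injective permHom := (injective_iff_map_eq_one _).2 fun σ h =>
    (rho_mono_eq_one (c := 1) (σ := σ) (by rw [map_one, one_mul, h, map_one])).2
  exact (orderOf_injective permHom hinj shiftM).trans orderOf_shiftM

/-- the part of a conjugate of `Q` maps onto sign changes, in the frame of its centre -/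
theorem conjPart_sign (d : MonsterType.Data Q e ψ) {g : G} {x : Q}
    (hg : g * z * g⁻¹ = ((x : Subgroup.centralizer ({z} : Set G)) : G))
    (hx : ψ (Leech.oct none) = QuotientGroup.mk x) (hxc : x ∉ Subgroup.center Q)
    {y : Subgroup.centralizer ({z} : Set G)} (hy : y ∈ conjPart Q g) :
    ∃ c, rho (signHom c) = proj e y := by
  obtain ⟨q₀, hq₀, hq₀c⟩ := exists_back d hg hxc hx shift_in_frame
  obtain ⟨hle, hn⟩ := image_props d hg hx hxc
  have hP : IsPGroup 2 ↥((conjPart Q g).map (proj e)) :=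
    (IsPGroup.of_card (card_conjPart d hq₀ hq₀c)).map _
  obtain ⟨c, hc⟩ := le_signImage _ hP hle hn ⟨y, hy, rfl⟩
  exact ⟨c, hc⟩

/-- an element whose class moves only inside the frame lies in the conjugate -/
theorem pair_mem (d : MonsterType.Data Q e ψ) (hex : ∃ g : G, ∃ y : Q,
      g * z * g⁻¹ = ((y : Subgroup.centralizer ({z} : Set G)) : G) ∧ g * z * g⁻¹ ≠ z)
    {x : Q} (hx : ψ (Leech.oct none) = QuotientGroup.mk x) {g : G}
    (hg : g * z * g⁻¹ = ((x : Subgroup.centralizer ({z} : Set G)) : G))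
    {y : Q} {v : leechLattice} (hv : ψ v = QuotientGroup.mk y) (hyx : y * x = x * y)
    (hsign : ∀ c, Leech.cls (signHom c • v) = Leech.cls v ∨
      Leech.cls (signHom c • v) = Leech.cls (v + Leech.oct none)) :
    ∃ q : Q, g * ((q : Subgroup.centralizer ({z} : Set G)) : G) * g⁻¹ =
      ((y : Subgroup.centralizer ({z} : Set G)) : G) := by
  have hx64 : Typ ψ 64 x := ⟨_, (Leech.stdCross_mem (Leech.oct_mem_stdCross none)).2, hx⟩
  have hxc := typ_notMem_center d (Or.inr (Or.inr rfl)) hx64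
  obtain ⟨q₀, hq₀, hq₀c⟩ := exists_back d hg hxc hx shift_in_frame
  set ι : Q → G := fun q => ((q : Subgroup.centralizer ({z} : Set G)) : G) with hι
  have hq064 : Typ ψ 64 q₀ := (typ64_iff d hex q₀).1
    ⟨isConj_iff.2 ⟨g⁻¹, by rw [inv_inv, hq₀]⟩, fun e' => hq₀c (by
      rw [show q₀ = ⟨zc z, zc_mem d⟩ from Subtype.ext (Subtype.ext e')]
      exact zq_center d)⟩
  obtain ⟨e', ψ', d', hv0⟩ := exists_std64 d hq064
  have hg' : g⁻¹ * z * g⁻¹⁻¹ = ((q₀ : Subgroup.centralizer ({z} : Set G)) : G) := by rw [inv_inv, hq₀]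
  have hxG : g⁻¹ * ι x * g = z := by
    show g⁻¹ * ((x : Subgroup.centralizer ({z} : Set G)) : G) * g = z
    rw [← hg]; group
  have hq0G : g * ι q₀ * g⁻¹ = z := by
    show g * ((q₀ : Subgroup.centralizer ({z} : Set G)) : G) * g⁻¹ = z
    rw [hq₀]; group
  -- the element moved back
  have hyz : g⁻¹ * ι y * g ∈ Subgroup.centralizer ({z} : Set G) := by
    refine Subgroup.mem_centralizer_singleton_iff.2 ?_
    have h : ι y * ι x = ι x * ι y := congrArg ι hyx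
    calc g⁻¹ * ι y * g * z = g⁻¹ * ι y * g * (g⁻¹ * ι x * g) := by rw [hxG]
      _ = g⁻¹ * (ι y * ι x) * g := by group
      _ = (g⁻¹ * ι x * g) * (g⁻¹ * ι y * g) := by rw [h]; group
      _ = _ := by rw [hxG]
  set y' : Subgroup.centralizer ({z} : Set G) := ⟨_, hyz⟩ with hy'
  suffices hmem : y' ∈ Q by
    refine ⟨⟨y', hmem⟩, ?_⟩
    show g * (g⁻¹ * ι y * g) * g⁻¹ = ι y
    group
  obtain ⟨c, hc⟩ := conjPart_sign d' hg' hv0 hq₀c (y := y')
    (mem_conjPart.2 ⟨y, by show g⁻¹ * ι y * g⁻¹⁻¹ = g⁻¹ * ι y * g; rw [inv_inv]⟩)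
  rw [← proj_eq_one (e := e'), ← hc]
  refine sign_trivial fun w hw => ?_
  obtain ⟨q, hq⟩ := QuotientGroup.mk_surjective (ψ' w)
  have hq0sq : q₀ ^ 2 = 1 := by
    refine Subtype.ext (Subtype.ext ?_)
    show ι q₀ ^ 2 = 1
    rw [show ι q₀ = g⁻¹ * z * g from hq₀, sq,
      show g⁻¹ * z * g * (g⁻¹ * z * g) = g⁻¹ * (z * z) * g by group, z_sq d]
    group
  have hqq : q * q₀ = q₀ * q := (commute_iff d' hq.symm hv0 hq0sq).2 hw
  have hpz : g * ι q * g⁻¹ ∈ Subgroup.centralizer ({z} : Set G) := by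
    refine Subgroup.mem_centralizer_singleton_iff.2 ?_
    have h : ι q * ι q₀ = ι q₀ * ι q := congrArg ι hqq
    calc g * ι q * g⁻¹ * z = g * ι q * g⁻¹ * (g * ι q₀ * g⁻¹) := by rw [hq0G]
      _ = g * (ι q * ι q₀) * g⁻¹ := by group
      _ = (g * ι q₀ * g⁻¹) * (g * ι q * g⁻¹) := by rw [h]; group
      _ = _ := by rw [hq0G]
  set p : Subgroup.centralizer ({z} : Set G) := ⟨_, hpz⟩ with hp
  obtain ⟨c', hc'⟩ := conjPart_sign d hg hx hxc (y := p) (mem_conjPart.2 ⟨q, rfl⟩)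
  have hconj := d.hψ.2.2.2 p (signHom c') hc' v y hv
  set yp : Q := ⟨p * y * p⁻¹, (inferInstance : Q.Normal).conj_mem _ y.2 p⟩ with hyp
  set ζ : Q := ⟨zc z, zc_mem d⟩ with hζ
  have hζG : ι ζ = z := rfl
  have hr : ∃ s : Q, yp = s * y ∧ (s = 1 ∨ s = ζ ∨ s = x ∨ s = ζ * x) := by
    refine ⟨yp * y⁻¹, by rw [inv_mul_cancel_right], ?_⟩
    rcases hsign c' with hs | hs
    · have h1 : (QuotientGroup.mk yp : Q ⧸ Subgroup.center Q) = QuotientGroup.mk y := by
        rw [← hconj, (psi_congr d).2 hs, hv]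
      have hm : yp * y⁻¹ ∈ Subgroup.center Q := by
        rw [← QuotientGroup.eq_one_iff, QuotientGroup.mk_mul, h1, QuotientGroup.mk_inv, mul_inv_cancel]
      rcases center_cases d hm with e1 | e1
      · exact Or.inl e1
      · exact Or.inr (Or.inl e1)
    · have h1 : (QuotientGroup.mk yp : Q ⧸ Subgroup.center Q) = QuotientGroup.mk y * QuotientGroup.mk x := by
        rw [← hconj, (psi_congr d).2 hs, d.hψ.1, hv, hx]
      have hm : yp * y⁻¹ * x⁻¹ ∈ Subgroup.center Q := by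
        rw [← QuotientGroup.eq_one_iff, QuotientGroup.mk_mul, QuotientGroup.mk_mul, h1, QuotientGroup.mk_inv,
          QuotientGroup.mk_inv, quot_comm d (QuotientGroup.mk y) (QuotientGroup.mk x)]
        group
      rcases center_cases d hm with e1 | e1
      · exact Or.inr (Or.inr (Or.inl (mul_inv_eq_one.1 e1)))
      · exact Or.inr (Or.inr (Or.inr (mul_inv_eq_iff_eq_mul.1 e1)))
  obtain ⟨s, hys, hs⟩ := hr
  have hG : (g * ι q * g⁻¹) * ι y * (g * ι q * g⁻¹)⁻¹ = ι s * ι y :=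
    congrArg ι hys
  have hkey : g⁻¹ * ι y * g * ι q * (g⁻¹ * ι y * g)⁻¹ = (g⁻¹ * ι s * g)⁻¹ * ι q := by
    have h2 : g⁻¹ * ι s * g = ι q * (g⁻¹ * ι y * g) * (ι q)⁻¹ * (g⁻¹ * ι y * g)⁻¹ := by
      rw [show ι s = g * ι q * g⁻¹ * ι y * (g * ι q * g⁻¹)⁻¹ * (ι y)⁻¹ by rw [hG, mul_inv_cancel_right]]
      group
    rw [h2]; group
  have hconj' := d'.hψ.2.2.2 y' (signHom c) hc w q hq.symm
  set qy : Q := ⟨y' * q * y'⁻¹, (inferInstance : Q.Normal).conj_mem _ q.2 y'⟩ with hqy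
  obtain ⟨s', hs', hs'cls⟩ : ∃ s' : Q, g⁻¹ * ι s * g = ι s' ∧
      ((QuotientGroup.mk s' : Q ⧸ Subgroup.center Q) = 1 ∨
        (QuotientGroup.mk s' : Q ⧸ Subgroup.center Q) = QuotientGroup.mk q₀) := by
    have hz1 : (QuotientGroup.mk ζ : Q ⧸ Subgroup.center Q) = 1 := (QuotientGroup.eq_one_iff ζ).2 (zq_center d)
    rcases hs with rfl | rfl | rfl | rfl
    · exact ⟨1, by show g⁻¹ * 1 * g = 1; group, Or.inl rfl⟩
    · exact ⟨q₀, hq₀.symm, Or.inr rfl⟩
    · exact ⟨ζ, hxG, Or.inl hz1⟩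
    · refine ⟨q₀ * ζ, ?_, Or.inr (by rw [QuotientGroup.mk_mul, hz1, mul_one])⟩
      show g⁻¹ * (ι ζ * ι x) * g = ι q₀ * ι ζ
      rw [show g⁻¹ * (ι ζ * ι x) * g = (g⁻¹ * z * g) * (g⁻¹ * ι x * g) by rw [hζG]; group, hxG, ← hq₀]
      rfl
  have hqyeq : qy = s'⁻¹ * q := Subtype.ext (Subtype.ext (by
    show g⁻¹ * ι y * g * ι q * (g⁻¹ * ι y * g)⁻¹ = (ι s')⁻¹ * ι q
    rw [hkey, hs']))
  rw [hqyeq, QuotientGroup.mk_mul, QuotientGroup.mk_inv] at hconj'
  rcases hs'cls with h1 | h1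
  · left
    rw [← psi_congr d', hconj', h1, inv_one, one_mul, hq]
  · right
    have hinv : (QuotientGroup.mk q₀ : Q ⧸ Subgroup.center Q)⁻¹ = QuotientGroup.mk q₀ :=
      inv_eq_of_mul_eq_one_right (by rw [← QuotientGroup.mk_mul, ← sq, hq0sq]; rfl)
    rw [← psi_congr d', hconj', h1, hinv, d'.hψ.1, hv0, hq, quot_comm d]

/-- the short element -/
theorem witness (d : MonsterType.Data Q e ψ) (hex : ∃ g : G, ∃ y : Q,
      g * z * g⁻¹ = ((y : Subgroup.centralizer ({z} : Set G)) : G) ∧ g * z * g⁻¹ ≠ z)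
    {x : Q} (hx : ψ (Leech.oct none) = QuotientGroup.mk x)
    {b : Subgroup.centralizer ({z} : Set G)} (hb : b ^ 7 = 1) (hp : proj e b = rho sS) {g : G}
    (hg : g * z * g⁻¹ = ((x : Subgroup.centralizer ({z} : Set G)) : G)) :
    ∃ y q : Q, b * y = (y : Subgroup.centralizer ({z} : Set G)) * b ∧ y ^ 2 = 1 ∧ y ≠ 1 ∧ y * x = x * y ∧
      ¬ IsConj z ((y : Subgroup.centralizer ({z} : Set G)) : G) ∧
      g * ((q : Subgroup.centralizer ({z} : Set G)) : G) * g⁻¹ =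
        ((y : Subgroup.centralizer ({z} : Set G)) : G) := by
  obtain ⟨y, hy⟩ := QuotientGroup.mk_surjective (ψ pairV)
  obtain ⟨hn, hdot, -, -⟩ := pairV_facts
  have hn32 : sqNorm (pairV : GolayPt → ℤ) = 32 := by rw [pairV_coe]; exact hn
  have h32 : Typ ψ 32 y := ⟨pairV, hn32, hy.symm⟩
  have hyb := (commute_b_iff d hb hp hy.symm).2 (congrArg Leech.cls (vecN_fixed _))
  have hy2 : y ^ 2 = 1 := (sq_iff d hy.symm).2 (by rw [hn32]; decide)
  have hx2 : x ^ 2 = 1 := (sq_iff d hx).2 (by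
    rw [(Leech.stdCross_mem (Leech.oct_mem_stdCross none)).2]; decide)
  have hyx : y * x = x * y := (commute_iff d hy.symm hx hx2).2 (by rw [pairV_coe]; exact hdot)
  obtain ⟨q, hq⟩ := pair_mem d hex hx hg hy.symm hyx pair_sign
  exact ⟨y, q, hyb, hy2, fun h => typ_notMem_center d (Or.inl rfl) h32 (h ▸ Subgroup.one_mem _), hyx, not_isConj_typ32 d h32, hq⟩

end Cfsg.Agent.HeldType
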