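import Mathlib
import Cfsg.Agent.HeldType.Witness
import Cfsg.Agent.HeRecog.Held

/-! The centraliser of the group of order 7 modulo that group is the Held group. -/

set_option autoImplicit false
set_option maxRecDepth 8000

namespace Cfsg.Agent.HeldType
open Cfsg Cfsg.Agent MonsterType

variable {G : Type*} [Group G] [Finite G] {z : G}
  {Q : Subgroup (Subgroup.centralizer ({z} : Set G))} [Q.Normal]
  {e : (Subgroup.centralizer ({z} : Set G)) ⧸ Q ≃* Spor.Co1}
  {ψ : leechLattice → Q ⧸ Subgroup.center Q}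

theorem flat_facts : (∀ k l : Fin 6 → ZMod 2, k 0 = 0 ∧ k 1 = 0 ∧ k 2 = 0 → l 0 = 0 ∧ l 1 = 0 ∧ l 2 = 0 →
      ((normK k / 16 : ℤ) : ZMod 2) = 0 ∧ (16 : ℤ) ∣ dotInt (spread (repT k)) (spread (repT l))) ∧
    (Finset.univ.filter fun k : Fin 6 → ZMod 2 => k 0 = 0 ∧ k 1 = 0 ∧ k 2 = 0).card = 8 := by
  decide +kernel

/-- an elementary abelian subgroup of order 16 of fixed elements -/
theorem exists_flat (d : MonsterType.Data Q e ψ) {b : Subgroup.centralizer ({z} : Set G)}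
    (hb : b ^ 7 = 1) (hp : proj e b = rho sS) :
    ∃ E : Subgroup Q, Nat.card E = 16 ∧ (∀ a ∈ E, a * a = 1) ∧ (∀ a ∈ E, ∀ c ∈ E, a * c = c * a) ∧
      ∀ a ∈ E, b * a = (a : Subgroup.centralizer ({z} : Set G)) * b := by
  classical
  set S : Set (Fin 6 → ZMod 2) := {k | k 0 = 0 ∧ k 1 = 0 ∧ k 2 = 0} with hS
  have hcomm : ∀ (a c : Q) k l, k ∈ S → l ∈ S → ψ (repV k) = QuotientGroup.mk a →
      ψ (repV l) = QuotientGroup.mk c → a * c = c * a ∧ a * a = 1 := by
    intro a c k l hk hl ha hc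
    have hsq : ∀ (a : Q) k, k ∈ S → ψ (repV k) = QuotientGroup.mk a → a ^ 2 = 1 := fun a k hk ha =>
      (sq_iff d ha).2 (by
        rw [show sqNorm (repV k : GolayPt → ℤ) = normK k from layer_repV k]
        exact (flat_facts.1 k k hk hk).1)
    refine ⟨(commute_iff d ha hc (hsq c l hl hc)).2 ?_, by rw [← sq]; exact hsq a k hk ha⟩
    rw [repV_coe, repV_coe]
    exact (flat_facts.1 k l hk hl).2
  let E : Subgroup Q :=
    { carrier := {a | ∃ k ∈ S, ψ (repV k) = QuotientGroup.mk a}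
      one_mem' := ⟨0, ⟨rfl, rfl, rfl⟩, by
        rw [show (QuotientGroup.mk (1 : Q) : Q ⧸ Subgroup.center Q) = 1 from rfl, ← psi_zero d, psi_congr d,
          cls_repV, kap]
        exact congrArg Leech.cls (show vecN (fun i => (((0 : Fin 6 → ZMod 2) i).val : ℤ)) = 0 by simp [vecN])⟩
      mul_mem' := by
        rintro a c ⟨k, hk, ha⟩ ⟨l, hl, hc⟩
        refine ⟨k + l, ⟨by simp [hk.1, hl.1], by simp [hk.2.1, hl.2.1], by simp [hk.2.2, hl.2.2]⟩, ?_⟩
        rw [QuotientGroup.mk_mul, ← ha, ← hc, ← d.hψ.1, psi_congr d, cls_repV, kap_add, ← cls_repV, ← cls_repV]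
        rfl
      inv_mem' := by
        rintro a ⟨k, hk, ha⟩
        rw [inv_eq_of_mul_eq_one_right (hcomm a a k k hk hk ha ha).2]
        exact ⟨k, hk, ha⟩ }
  refine ⟨E, ?_, fun a ⟨k, hk, ha⟩ => (hcomm a a k k hk hk ha ha).2,
    fun a ⟨k, hk, ha⟩ c ⟨l, hl, hc⟩ => (hcomm a c k l hk hl ha hc).1,
    fun a ⟨k, hk, ha⟩ => (commute_b_iff d hb hp ha).2 (congrArg Leech.cls (vecN_fixed _))⟩
  have hinjk : Function.Injective fun k => ψ (repV k) := fun a c h => by
    have := (psi_congr d).1 h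
    rw [cls_repV, cls_repV] at this
    exact kap_injective this
  have hset : (E : Set Q) = QuotientGroup.mk ⁻¹' ((fun k => ψ (repV k)) '' S) :=
    Set.ext fun _ => Iff.rfl
  have hc2 : Nat.card ↥(Subgroup.center Q) = 2 := d.ext.2
  have h8 : S.ncard = 8 := by
    rw [← flat_facts.2, ← Set.ncard_coe_finset]
    congr 1
    ext k; simp [hS]
  calc Nat.card E = Nat.card ↥(QuotientGroup.mk ⁻¹' ((fun k => ψ (repV k)) '' S) : Set Q) :=
        Nat.card_congr (Equiv.setCongr hset)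
    _ = 16 := by
      rw [Nat.card_congr (QuotientGroup.preimageMkEquivSubgroupProdSet _ _), Nat.card_prod, hc2,
        Nat.card_coe_set_eq, Set.ncard_image_of_injective _ hinjk, h8]

set_option maxHeartbeats 800000 in
theorem isHe (d : MonsterType.Data Q e ψ) (hex : ∃ g : G, ∃ y : Q,
      g * z * g⁻¹ = ((y : Subgroup.centralizer ({z} : Set G)) : G) ∧ g * z * g⁻¹ ≠ z)
    (x : Q) (hx : ψ (Leech.oct none) = QuotientGroup.mk x)
    (b : Subgroup.centralizer ({z} : Set G)) (hb : orderOf b = 7) (hp : proj e b = rho sS)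
    (B : Subgroup G) (hB : B = Subgroup.zpowers (b : G))
    [hn : (B.subgroupOf (Subgroup.centralizer (B : Set G))).Normal] :
    Cfsg.Spor.IsoHe (↥(Subgroup.centralizer (B : Set G)) ⧸ B.subgroupOf (Subgroup.centralizer (B : Set G))) := by
  classical
  set C1 := Subgroup.centralizer (B : Set G) with hC1
  set N := B.subgroupOf C1 with hN
  have hb7 : b ^ 7 = 1 := by rw [← hb]; exact pow_orderOf_eq_one b
  have hbG : orderOf (b : G) = 7 := by rw [Subgroup.orderOf_coe, hb]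
  have hmemC1 : ∀ a : G, a ∈ C1 ↔ a * (b : G) = (b : G) * a := by
    intro a
    rw [hC1, hB, Subgroup.mem_centralizer_iff]
    constructor
    · intro h; exact (h _ (Subgroup.mem_zpowers _)).symm
    · intro h y hy
      obtain ⟨n, rfl⟩ := Subgroup.mem_zpowers_iff.1 hy
      exact ((show Commute a (b : G) from h).zpow_right n).eq.symm
  have hzC : z ∈ C1 := (hmemC1 z).2 (Subgroup.mem_centralizer_singleton_iff.1 b.2).symm
  obtain ⟨-, R, hRn, hset, hiso, h29, hRmem⟩ : ∃ (_ : z ∈ C1)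
      (R : Subgroup (Subgroup.centralizer ({(QuotientGroup.mk ⟨z, hzC⟩ : C1 ⧸ N)} : Set (C1 ⧸ N))))
      (_ : R.Normal), IsExtraspecialCentralizerSetting _ R 3 ∧
      Nonempty (_ ⧸ R ≃* Matrix.SpecialLinearGroup (Fin 3) (ZMod 2)) ∧
      Set.ncard {y | y ∈ R ∧ IsConj (QuotientGroup.mk ⟨z, hzC⟩ : C1 ⧸ N) y.1} = 29 ∧
      ∀ y, y ∈ R ↔ ∃ a : Q, b * a = (a : Subgroup.centralizer ({z} : Set G)) * b ∧
        ∃ ha : ((a : Subgroup.centralizer ({z} : Set G)) : G) ∈ C1,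
          (QuotientGroup.mk ⟨_, ha⟩ : C1 ⧸ N) = y.1 := by
    obtain ⟨h, R, hRn, hh⟩ := heldTypeAt d hex x hx b hb hp B hB
    exact ⟨h, R, hRn, hh⟩
  let zb : C1 ⧸ N := QuotientGroup.mk ⟨z, hzC⟩
  have hzbd : zb = QuotientGroup.mk ⟨z, hzC⟩ := rfl
  have hqC1 : ∀ a : Q, b * a = (a : Subgroup.centralizer ({z} : Set G)) * b →
      ((a : Subgroup.centralizer ({z} : Set G)) : G) ∈ C1 := fun a ha =>
    (hmemC1 _).2 (congrArg Subtype.val ha).symm
  -- the map into the quotient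
  have hmapC : ∀ (a : Q) (ha : b * a = (a : Subgroup.centralizer ({z} : Set G)) * b),
      (QuotientGroup.mk ⟨_, hqC1 a ha⟩ : C1 ⧸ N) ∈ Subgroup.centralizer ({zb} : Set (C1 ⧸ N)) := fun a ha => by
    refine Subgroup.mem_centralizer_singleton_iff.2 ?_
    rw [hzbd, ← QuotientGroup.mk_mul, ← QuotientGroup.mk_mul]
    exact congrArg QuotientGroup.mk (Subtype.ext
      (Subgroup.mem_centralizer_singleton_iff.1 (a : Subgroup.centralizer ({z} : Set G)).2))
  have hmapR : ∀ (a : Q) (ha : b * a = (a : Subgroup.centralizer ({z} : Set G)) * b),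
      (⟨_, hmapC a ha⟩ : Subgroup.centralizer ({zb} : Set (C1 ⧸ N))) ∈ R := fun a ha =>
    (hRmem _).2 ⟨a, ha, hqC1 a ha, rfl⟩
  have hbB : (b : G) ∈ B := hB ▸ Subgroup.mem_zpowers _
  have hBQ : ∀ (a : Q) (ha : ((a : Subgroup.centralizer ({z} : Set G)) : G) ∈ C1),
      (QuotientGroup.mk ⟨_, ha⟩ : C1 ⧸ N) = 1 → a = 1 := by
    intro a ha h1
    have hB' := Subgroup.mem_subgroupOf.1 ((QuotientGroup.eq_one_iff _).1 h1)
    rw [hB, ← mem_powers_iff_mem_zpowers, Submonoid.mem_powers_iff] at hB'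
    obtain ⟨i, hi⟩ := hB'
    refine Subtype.ext (two_power_seven d a.2 (Subtype.ext ?_))
    show ((a : Subgroup.centralizer ({z} : Set G)) : G) ^ 7 = 1
    rw [← show (b : G) ^ i = ((a : Subgroup.centralizer ({z} : Set G)) : G) from hi, ← pow_mul, mul_comm,
      pow_mul, ← hbG, pow_orderOf_eq_one, one_pow]
  have hmulC : ∀ (a c : Q) (ha : ((a : Subgroup.centralizer ({z} : Set G)) : G) ∈ C1)
      (hc : ((c : Subgroup.centralizer ({z} : Set G)) : G) ∈ C1),
      ∃ hac : (((a * c : Q) : Subgroup.centralizer ({z} : Set G)) : G) ∈ C1,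
        (QuotientGroup.mk ⟨_, hac⟩ : C1 ⧸ N) = QuotientGroup.mk ⟨_, ha⟩ * QuotientGroup.mk ⟨_, hc⟩ :=
    fun a c ha hc => ⟨C1.mul_mem ha hc, rfl⟩
  -- conjugacy lifts
  have hlift : ∀ (a : Q) (ha : b * a = (a : Subgroup.centralizer ({z} : Set G)) * b), a * a = 1 →
      IsConj zb (QuotientGroup.mk ⟨_, hqC1 a ha⟩) →
      ∃ w : C1, (w : G) * z * (w : G)⁻¹ = ((a : Subgroup.centralizer ({z} : Set G)) : G) ∧
        (QuotientGroup.mk w : C1 ⧸ N) * zb * (QuotientGroup.mk w)⁻¹ = QuotientGroup.mk ⟨_, hqC1 a ha⟩ := by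
    intro a ha ha2 hconj
    obtain ⟨W, hW⟩ := isConj_iff.1 hconj
    obtain ⟨⟨w, hw⟩, rfl⟩ := QuotientGroup.mk_surjective W
    refine ⟨⟨w, hw⟩, ?_, hW⟩
    have hW' : (QuotientGroup.mk ((⟨w, hw⟩ : C1) * ⟨z, hzC⟩ * (⟨w, hw⟩ : C1)⁻¹) : C1 ⧸ N) =
        QuotientGroup.mk ⟨_, hqC1 a ha⟩ := hW
    have hmem := Subgroup.mem_subgroupOf.1 (QuotientGroup.eq.1 hW')
    rw [hB, ← mem_powers_iff_mem_zpowers, Submonoid.mem_powers_iff] at hmem
    obtain ⟨i, hi⟩ := hmem
    simp only [Subgroup.coe_mul, Subgroup.coe_inv] at hi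
    set aG : G := ((a : Subgroup.centralizer ({z} : Set G)) : G) with haG
    set u := w * z * w⁻¹ with hu
    have hval : aG = u * (b : G) ^ i := by rw [hi]; group
    have hub : Commute u ((b : G) ^ i) := by
      have h1 : Commute w (b : G) := (hmemC1 w).1 hw
      have h2 : Commute z (b : G) := (hmemC1 z).1 hzC
      exact ((h1.mul_left h2).mul_left h1.inv_left).pow_right i
    have hu2 : u * u = 1 := by
      rw [hu, show w * z * w⁻¹ * (w * z * w⁻¹) = w * (z * z) * w⁻¹ by group, z_sq d]; group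
    have haq : aG * aG = 1 := congrArg (fun y : Q => ((y : Subgroup.centralizer ({z} : Set G)) : G)) ha2
    rw [hval, hub.symm.mul_mul_mul_comm, hu2, one_mul, ← pow_add, ← mul_two] at haq
    have h7 : 7 ∣ i := by
      have := orderOf_dvd_of_pow_eq_one haq
      rw [hbG] at this
      exact Nat.Coprime.dvd_of_dvd_mul_right (by norm_num) this
    rw [hval, orderOf_dvd_iff_pow_eq_one.1 (hbG ▸ h7), mul_one]
  refine HeRecog.isoHe_of_held zb R hset hiso h29 ?_ ?_
  · obtain ⟨E, hE16, hE2, hEc, hEb⟩ := exists_flat d hb7 hp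
    let φ : E →* R :=
      { toFun := fun a => ⟨_, hmapR a (hEb a a.2)⟩
        map_one' := rfl
        map_mul' := fun _ _ => rfl }
    have hφ : Function.Injective φ := (injective_iff_map_eq_one φ).2 fun a h =>
      Subtype.ext (hBQ a (hqC1 a (hEb a a.2))
        (congrArg (fun y : R => ((y : Subgroup.centralizer ({zb} : Set (C1 ⧸ N))) : C1 ⧸ N)) h))
    refine ⟨φ.range, ⟨⟨⟨?_⟩⟩, ?_⟩, ?_⟩
    · rintro ⟨_, a, rfl⟩ ⟨_, c, rfl⟩
      refine Subtype.ext ?_
      show φ a * φ c = φ c * φ a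
      rw [← map_mul, ← map_mul]
      exact congrArg φ (Subtype.ext (hEc a a.2 c c.2))
    · rintro _ ⟨a, rfl⟩
      rw [← map_pow, sq, show a * a = 1 from Subtype.ext (hE2 a a.2), map_one]
    · rw [← Nat.card_congr (MonoidHom.ofInjective hφ).toEquiv, hE16]
      norm_num
  intro w hwR hwconj hwne
  obtain ⟨a, hab, haC, haw⟩ := (hRmem w).1 hwR
  have hzb2 : zb * zb = 1 := by
    rw [← sq, ← (show orderOf zb = 2 from hset.1), pow_orderOf_eq_one]
  have ha2 : a * a = 1 := by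
    obtain ⟨W, hW⟩ := isConj_iff.1 hwconj
    obtain ⟨h1, h2⟩ := hmulC a a haC haC
    refine hBQ _ h1 ?_
    rw [h2, haw, ← hW, show W * zb * W⁻¹ * (W * zb * W⁻¹) = W * (zb * zb) * W⁻¹ by group, hzb2]
    group
  obtain ⟨w0, hw0, hw0q⟩ := hlift a hab ha2 (haw.symm ▸ hwconj)
  have haz : ((a : Subgroup.centralizer ({z} : Set G)) : G) ≠ z := fun h => hwne (by
    rw [← haw, hzbd]
    exact congrArg QuotientGroup.mk (Subtype.ext h))
  have h64 : Typ ψ 64 a := (typ64_iff d hex a).1 ⟨isConj_iff.2 ⟨w0, hw0⟩, haz⟩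
  obtain ⟨e', ψ', d', hxv, hcase⟩ := exists_normal_form d h64 hb hab
  obtain ⟨b', hb'7, hp', hb'c⟩ : ∃ b' : Subgroup.centralizer ({z} : Set G), b' ^ 7 = 1 ∧ proj e' b' = rho sS ∧
      ∀ y : Q, b' * y = (y : Subgroup.centralizer ({z} : Set G)) * b' →
        b * y = (y : Subgroup.centralizer ({z} : Set G)) * b := by
    rcases hcase with hc | hc
    · exact ⟨b, hb7, hc, fun y h => h⟩
    · refine ⟨b⁻¹, by rw [inv_pow, hb7, inv_one], hc, fun y h => ?_⟩
      have := (show Commute b⁻¹ (y : Subgroup.centralizer ({z} : Set G)) from h).inv_left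
      rw [inv_inv] at this
      exact this
  obtain ⟨y, q, hyb', hy2, hy1, hya, hynz, hq⟩ := witness d' hex hxv hb'7 hp' hw0
  have hyb := hb'c y hyb'
  have hqb : b * q = (q : Subgroup.centralizer ({z} : Set G)) * b := by
    refine Subtype.ext ?_
    have h1 : Commute (w0 : G) (b : G) := (hmemC1 _).1 w0.2
    have h2 : Commute (b : G) ((y : Subgroup.centralizer ({z} : Set G)) : G) := congrArg Subtype.val hyb
    have h3 : Commute (b : G) ((w0 : G)⁻¹ * ((y : Subgroup.centralizer ({z} : Set G)) : G) * (w0 : G)) :=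
      (h1.symm.inv_right.mul_right h2).mul_right h1.symm
    rw [← hq] at h3
    show (b : G) * _ = _ * (b : G)
    simpa [mul_assoc] using h3.eq
  refine ⟨QuotientGroup.mk w0, ⟨_, hmapC y hyb⟩, by rw [← haw]; exact hw0q, hmapR y hyb, ?_, ?_, ?_, ?_, ?_⟩
  · obtain ⟨h1, h2⟩ := hmulC y y (hqC1 y hyb) (hqC1 y hyb)
    show (QuotientGroup.mk _ : C1 ⧸ N) * QuotientGroup.mk _ = 1
    rw [← h2]
    exact (QuotientGroup.eq_one_iff _).2 (Subgroup.mem_subgroupOf.2 (by
      show (((y * y : Q) : Subgroup.centralizer ({z} : Set G)) : G) ∈ B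
      rw [← sq, hy2]; exact B.one_mem))
  · exact fun h => hy1 (hBQ y (hqC1 y hyb) h)
  · show (QuotientGroup.mk _ : C1 ⧸ N) * (w : C1 ⧸ N) = (w : C1 ⧸ N) * QuotientGroup.mk _
    rw [← haw, ← QuotientGroup.mk_mul, ← QuotientGroup.mk_mul]
    exact congrArg QuotientGroup.mk (Subtype.ext
      (congrArg (fun p : Q => ((p : Subgroup.centralizer ({z} : Set G)) : G)) hya))
  · intro hc
    obtain ⟨u, hu, -⟩ := hlift y hyb (by rw [← sq, hy2]) hc
    exact hynz (isConj_iff.2 ⟨u, hu⟩)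
  · have hval : (QuotientGroup.mk w0 : C1 ⧸ N)⁻¹ * QuotientGroup.mk ⟨_, hqC1 y hyb⟩ * QuotientGroup.mk w0 =
        QuotientGroup.mk ⟨_, hqC1 q hqb⟩ := by
      rw [← QuotientGroup.mk_inv, ← QuotientGroup.mk_mul, ← QuotientGroup.mk_mul]
      refine congrArg QuotientGroup.mk (Subtype.ext ?_)
      show (w0 : G)⁻¹ * ((y : Subgroup.centralizer ({z} : Set G)) : G) * (w0 : G) = _
      rw [← hq]; group
    refine ⟨hval ▸ hmapC q hqb, ?_⟩
    convert hmapR q hqb using 1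
    exact Subtype.ext hval

end Cfsg.Agent.HeldType
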