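import Mathlib
import Cfsg.Agent.Layer.FStar
import Cfsg.Agent.Layer.Components
import Cfsg.Agent.Core.Fitting

/-! An involution of a group with centre of odd order lies in the layer when it has no centralised
elements in normal subgroups avoiding it and its conjugates do not all commute. -/

set_option autoImplicit false

namespace Cfsg.Agent.HeldType
open Cfsg Cfsg.Agent
open scoped commutatorElement

variable {X : Type*} [Group X] [Finite X] {B : Subgroup X} [B.Normal]

theorem inverts_mod (hBc : B ≤ Subgroup.center X) (hodd : Odd (Nat.card B)) {z : X} (hz : z * z = 1)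
    (N : Subgroup X) [N.Normal] (hN : ∀ c ∈ N, c * z = z * c → c ∈ B) {n : X} (hn : n ∈ N) :
    (QuotientGroup.mk (z * n * z⁻¹) : X ⧸ B) = (QuotientGroup.mk n)⁻¹ := by
  set π := QuotientGroup.mk' B with hπ
  have hmap : (N.map π).Normal := (inferInstance : N.Normal).map π (QuotientGroup.mk'_surjective B)
  let φ : ↥(N.map π) →* ↥(N.map π) := (MulAut.conjNormal (π z)).toMonoidHom
  have hinv : z⁻¹ = z := inv_eq_of_mul_eq_one_right hz
  have hφ : MonoidHom.FixedPointFree φ := by
    rintro ⟨_, m, hm, rfl⟩ he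
    have he' : π z * π m * (π z)⁻¹ = π m := congrArg Subtype.val he
    rw [← map_inv, ← map_mul, ← map_mul] at he'
    have hB : m⁻¹ * (z * m * z⁻¹) ∈ B := QuotientGroup.eq.1 he'.symm
    set β := m⁻¹ * (z * m * z⁻¹) with hβ
    have hc : ∀ g, g * β = β * g := fun g => Subgroup.mem_center_iff.1 (hBc hB) g
    have h2 : z * (z * m * z⁻¹) * z⁻¹ = m := by
      rw [hinv]
      calc z * (z * m * z) * z = (z * z) * m * (z * z) := by group
        _ = m := by rw [hz, one_mul, mul_one]
    have h3 : m * β * β = m := by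
      have e1 : z * m * z⁻¹ = m * β := by rw [hβ]; group
      calc m * β * β = z * m * z⁻¹ * β := by rw [e1]
        _ = z * m * (z⁻¹ * β) := by group
        _ = z * m * (β * z⁻¹) := by rw [hc]
        _ = z * (m * β) * z⁻¹ := by group
        _ = m := by rw [← e1, h2]
    have hb2 : (⟨β, hB⟩ : B) ^ 2 = 1 := Subtype.ext (by
      show β ^ 2 = 1
      rw [sq]
      exact mul_left_cancel (by rw [← mul_assoc, h3, mul_one] : m * (β * β) = m * 1))
    have hb1 : β = 1 := by
      have hd := orderOf_dvd_of_pow_eq_one hb2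
      have hd' := orderOf_dvd_natCard (⟨β, hB⟩ : B)
      have := Nat.dvd_gcd hd hd'
      rw [Nat.Coprime.gcd_eq_one (Nat.coprime_two_left.2 hodd), Nat.dvd_one, orderOf_eq_one_iff] at this
      exact congrArg Subtype.val this
    rw [hβ, inv_mul_eq_one] at hb1
    refine Subtype.ext ((QuotientGroup.eq_one_iff m).2 (hN m hm ?_))
    calc m * z = z * m * z⁻¹ * z := by rw [← hb1]
      _ = z * m := by group
  have hinvol : Function.Involutive φ := by
    intro y
    refine Subtype.ext ?_
    show π z * (π z * (y : X ⧸ B) * (π z)⁻¹) * (π z)⁻¹ = y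
    have h2 : π z * π z = 1 := by rw [← map_mul, hz, map_one]
    have hi : (π z)⁻¹ = π z := inv_eq_of_mul_eq_one_right h2
    rw [hi]
    calc π z * (π z * (y : X ⧸ B) * π z) * π z = π z * π z * y * (π z * π z) := by group
      _ = y := by rw [h2, one_mul, mul_one]
  have h := congrFun (hφ.coe_eq_inv_of_involutive hinvol) ⟨π n, n, hn, rfl⟩
  exact congrArg Subtype.val h

theorem inverts_conj (hBc : B ≤ Subgroup.center X) (hodd : Odd (Nat.card B)) {z y : X} (hz : z * z = 1)
    (hy : IsConj z y) (N : Subgroup X) [N.Normal] (hN : ∀ c ∈ N, c * z = z * c → c ∈ B) {n : X}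
    (hn : n ∈ N) : (QuotientGroup.mk (y * n * y⁻¹) : X ⧸ B) = (QuotientGroup.mk n)⁻¹ := by
  obtain ⟨w, rfl⟩ := isConj_iff.1 hy
  have hn' : w⁻¹ * n * w ∈ N := by
    have := (inferInstance : N.Normal).conj_mem n hn w⁻¹
    rwa [inv_inv] at this
  have h := congrArg (fun a : X ⧸ B => (QuotientGroup.mk w : X ⧸ B) * a * (QuotientGroup.mk w)⁻¹)
    (inverts_mod hBc hodd hz N hN hn')
  simp only [← QuotientGroup.mk_mul, ← QuotientGroup.mk_inv] at h
  rw [← QuotientGroup.mk_inv]
  calc (QuotientGroup.mk (w * z * w⁻¹ * n * (w * z * w⁻¹)⁻¹) : X ⧸ B)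
      = QuotientGroup.mk (w * (z * (w⁻¹ * n * w) * z⁻¹) * w⁻¹) := congrArg _ (by group)
    _ = QuotientGroup.mk (w * (w⁻¹ * n * w)⁻¹ * w⁻¹) := h
    _ = QuotientGroup.mk n⁻¹ := congrArg _ (by group)

/-- the conclusion -/
theorem mem_layer_of_no_fixed (hBc : B ≤ Subgroup.center X) (hodd : Odd (Nat.card B)) {z x r : X}
    (hz : z * z = 1) (hzB : z ∉ B)
    (hfix : ∀ N : Subgroup X, N.Normal → z ∉ N → ∀ c ∈ N, c * z = z * c → c ∈ B)
    (hx : IsConj z x) (hxz : IsConj z (x * z)) (hr : IsConj z r) (hxr : x * r ≠ r * x) :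
    z ∈ layer X := by
  have : Fact (Nat.Prime 2) := ⟨Nat.prime_two⟩
  have hB2 : ∀ a ∈ B, a * a = 1 → a = 1 := by
    intro a ha h2
    have hd := orderOf_dvd_of_pow_eq_one (show (⟨a, ha⟩ : B) ^ 2 = 1 from Subtype.ext (by
      show a ^ 2 = 1
      rw [sq, h2]))
    have := Nat.dvd_gcd hd (orderOf_dvd_natCard (⟨a, ha⟩ : B))
    rw [Nat.Coprime.gcd_eq_one (Nat.coprime_two_left.2 hodd), Nat.dvd_one, orderOf_eq_one_iff] at this
    exact congrArg Subtype.val this
  have hconjN : ∀ N : Subgroup X, N.Normal → z ∈ N → ∀ y, IsConj z y → y ∈ N := by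
    intro N hN hzN y hy
    obtain ⟨w, rfl⟩ := isConj_iff.1 hy
    exact hN.conj_mem z hzN w
  -- no normal two-subgroup
  have htwo : ∀ T : Subgroup X, T.Normal → IsPGroup 2 ↥T → T = ⊥ := by
    intro T hT hT2
    have hTB : ∀ a ∈ T, a ∈ B → a = 1 := by
      intro a ha haB
      obtain ⟨k, hk⟩ := hT2 ⟨a, ha⟩
      induction k generalizing a with
      | zero => simpa using congrArg Subtype.val hk
      | succ k ih =>
        refine hB2 a haB (ih (a * a) (T.mul_mem ha ha) (B.mul_mem haB haB) (Subtype.ext ?_))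
        have := congrArg Subtype.val hk
        simp only [SubmonoidClass.coe_pow, OneMemClass.coe_one] at this ⊢
        rw [← this, pow_succ', pow_mul, sq]
    by_cases hzT : z ∈ T
    · exfalso
      set Z : Subgroup X := (Subgroup.center ↥T).map T.subtype with hZ
      have hZn : Z.Normal := inferInstance
      have hzZ : z ∉ Z := fun hzZ => by
        obtain ⟨a, ha, hax⟩ := hconjN Z hZn hzZ x hx
        have hrT := hconjN T hT hzT r hr
        refine hxr ?_
        rw [← hax]
        exact congrArg Subtype.val (Subgroup.mem_center_iff.1 ha ⟨r, hrT⟩).symm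
      have : Nontrivial ↥T := ⟨⟨⟨z, hzT⟩, 1, fun e => hzB (by
        rw [show z = 1 from congrArg Subtype.val e]; exact B.one_mem)⟩⟩
      obtain ⟨a, hac, ha1⟩ : ∃ a ∈ Subgroup.center ↥T, a ≠ 1 := by
        have := hT2.center_nontrivial
        obtain ⟨a, ha⟩ := exists_ne (1 : ↥(Subgroup.center ↥T))
        exact ⟨a, a.2, fun e => ha (Subtype.ext e)⟩
      have haz : (a : X) * z = z * a :=
        (congrArg Subtype.val (Subgroup.mem_center_iff.1 hac ⟨z, hzT⟩)).symm
      exact ha1 (Subtype.ext (hTB _ a.2 (hfix Z hZn hzZ _ ⟨a, hac, rfl⟩ haz)))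
    · by_contra hne
      have hTn : 2 ∣ Nat.card ↥T := by
        obtain ⟨k, hk⟩ := IsPGroup.iff_card.1 hT2
        rw [hk]
        refine dvd_pow_self 2 fun e => hne ?_
        rw [e, pow_zero] at hk
        exact Subgroup.eq_bot_of_card_eq _ hk
      obtain ⟨t, ht⟩ := exists_prime_orderOf_dvd_card' (G := ↥T) 2 hTn
      have ht2 : (t : X) * t = 1 := by
        rw [← sq, ← SubmonoidClass.coe_pow, ← ht, pow_orderOf_eq_one]; rfl
      have h := inverts_mod hBc hodd hz T (fun c => hfix T hT hzT c) t.2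
      rw [← QuotientGroup.mk_inv, inv_eq_of_mul_eq_one_right ht2, QuotientGroup.eq] at h
      have h1 : (z * t * z⁻¹)⁻¹ * t = 1 :=
        hTB _ (T.mul_mem (T.inv_mem (hT.conj_mem _ t.2 z)) t.2) h
      rw [inv_mul_eq_one] at h1
      have htz : (t : X) * z = z * t := by
        conv_lhs => rw [← h1]
        group
      have := hTB _ t.2 (hfix T hT hzT _ t.2 htz)
      rw [show t = 1 from Subtype.ext this, orderOf_one] at ht
      omega
  -- the Fitting subgroup is inside `B`
  have hF : fittingSubgroup X ≤ B := by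
    set F := fittingSubgroup X with hFdef
    have hFn : F.Normal := inferInstance
    have hFodd : ¬ 2 ∣ Nat.card ↥F := by
      intro h2
      obtain ⟨P⟩ : Nonempty (Sylow 2 ↥F) := inferInstance
      have hPn : (P : Subgroup ↥F).Normal := by
        have hiff : Group.IsNilpotent ↥F ↔ ∀ (p : ℕ) (_hp : Fact p.Prime) (Q : Sylow p ↥F), (Q : Subgroup ↥F).Normal :=
          (Group.isNilpotent_of_finite_tfae (G := ↥F)).out 0 3
        exact hiff.1 Core.fittingSubgroup_isNilpotent 2 inferInstance P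
      have := Sylow.characteristic_of_normal P hPn
      have hbot := htwo ((P : Subgroup ↥F).map F.subtype) inferInstance (P.2.map _)
      rw [Subgroup.map_eq_bot_iff_of_injective _ F.subtype_injective] at hbot
      exact P.ne_bot_of_dvd_card h2 hbot
    have hzF : z ∉ F := fun hzF => hFodd (by
      have hd := orderOf_dvd_natCard (⟨z, hzF⟩ : F)
      rwa [Subgroup.orderOf_mk, orderOf_eq_prime (p := 2) (by rw [sq, hz]) (fun e => hzB (by rw [e]; exact B.one_mem))] at hd)
    intro n hn
    have hfix' := hfix F hFn hzF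
    have e1 := inverts_mod hBc hodd hz F hfix' hn
    have e2 := inverts_conj hBc hodd hz hxz F hfix' hn
    have e3 := inverts_conj hBc hodd hz hx F hfix' ((hFn.conj_mem n hn z : z * n * z⁻¹ ∈ F))
    rw [e1, inv_inv, show x * (z * n * z⁻¹) * x⁻¹ = x * z * n * (x * z)⁻¹ by group, e2] at e3
    rw [← QuotientGroup.eq_one_iff]
    set q : X ⧸ B := QuotientGroup.mk n
    have h2 : q * q = 1 := mul_eq_one_iff_inv_eq.2 e3
    have hq : orderOf q ∣ orderOf (⟨n, hn⟩ : F) := by
      rw [← Subgroup.orderOf_coe (⟨n, hn⟩ : F)]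
      exact orderOf_map_dvd (QuotientGroup.mk' B) n
    have hq2 : orderOf q ∣ 2 := orderOf_dvd_of_pow_eq_one (by rw [sq, h2])
    rcases (Nat.dvd_prime Nat.prime_two).1 hq2 with h | h
    · exact orderOf_eq_one_iff.1 h
    · exact absurd ((h ▸ hq).trans (orderOf_dvd_natCard _)) hFodd
  -- the layer
  by_contra hzE
  set E := layer X with hE
  have hEn : E.Normal := inferInstance
  have hfix' := hfix E hEn hzE
  have hab : ⁅E, E⁆ ≤ B := by
    rw [Subgroup.commutator_le]
    intro a ha c hc
    rw [← QuotientGroup.eq_one_iff]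
    have ea := inverts_mod hBc hodd hz E hfix' ha
    have ec := inverts_mod hBc hodd hz E hfix' hc
    have eac := inverts_mod hBc hodd hz E hfix' (E.mul_mem ha hc)
    set πz : X ⧸ B := QuotientGroup.mk z
    set A : X ⧸ B := QuotientGroup.mk a
    set C : X ⧸ B := QuotientGroup.mk c
    have h1 : A⁻¹ * C⁻¹ = (A * C)⁻¹ := by
      rw [← ea, ← ec, ← QuotientGroup.mk_mul (N := B), show A * C = QuotientGroup.mk (a * c) from rfl, ← eac]
      exact congrArg _ (by group)
    rw [mul_inv_rev] at h1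
    show QuotientGroup.mk (a * c * a⁻¹ * c⁻¹) = (1 : X ⧸ B)
    rw [QuotientGroup.mk_mul, QuotientGroup.mk_mul, QuotientGroup.mk_mul, QuotientGroup.mk_inv,
      QuotientGroup.mk_inv]
    show A * C * A⁻¹ * C⁻¹ = 1
    rw [mul_assoc (A * C), h1]
    group
  have hbot : E = ⊥ := by
    rw [hE, ← Layer.layer_perfect, ← hE]
    have hEB : E ≤ Subgroup.center X := by
      rw [hE, ← Layer.layer_perfect, ← hE]
      exact hab.trans hBc
    rw [eq_bot_iff, Subgroup.commutator_le]
    intro a ha c _
    rw [Subgroup.mem_bot, commutatorElement_eq_one_iff_mul_comm]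
    exact (Subgroup.mem_center_iff.1 (hEB ha) c).symm
  have hcF := Layer.layer_eq_bot_iff_centralizer_fitting.1 hbot
  exact hzB (hF (hcF (Subgroup.mem_centralizer_iff.2 fun f hf =>
    (Subgroup.mem_center_iff.1 (hBc (hF hf)) z).symm)))

end Cfsg.Agent.HeldType
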