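import Mathlib
import Cfsg.Agent.HeldType.Setup
import Cfsg.Agent.HeldType.InvData
import Cfsg.Agent.CentType.Coprime

/-! An involution of the centraliser of the central involution inverting the element of order 7. -/

set_option autoImplicit false

namespace Cfsg.Agent.HeldType
open Cfsg Cfsg.Agent MonsterType

theorem jS_conj : jGen.g * sS = sS ^ 6 * jGen.g := by
  refine Leech.ext_of_oct fun p => Subtype.ext (Leech.toL_injective ?_)
  have hl := List.all_eq_true.1 j_lists (Leech.idx p) (List.mem_range.2 (Leech.idx_lt p))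
  simp only [Bool.and_eq_true, beq_iff_eq] at hl
  simp only [mul_smul, pow_succ, pow_zero, one_mul, ← sigGen_g, jGen.spec, sigGen.spec, oct_list]
  exact hl.1

theorem frame_j : frGen.g * jGen.g = jSign.g * frGen.g := by
  refine Leech.ext_of_oct fun p => Subtype.ext (Leech.toL_injective ?_)
  have hl := List.all_eq_true.1 j_lists (Leech.idx p) (List.mem_range.2 (Leech.idx_lt p))
  simp only [Bool.and_eq_true, beq_iff_eq] at hl
  simp only [mul_smul, jGen.spec, frGen.spec, jSign.spec, oct_list]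
  exact hl.2

theorem jSign_mem : rho jSign.g ∈ signImage := by
  have h1 : ∀ (σ : Equiv.Perm GolayPt) (hσ : σ ∈ M24), σ = 1 → Leech.permCo0 σ hσ = 1 := by
    rintro σ hσ rfl
    exact (show permHom ⟨1, hσ⟩ = 1 from map_one permHom)
  show rho (Leech.permCo0 _ _ * Leech.signCo0 _ _) ∈ signImage
  rw [h1 _ _ (Equiv.ext (by decide +kernel)), one_mul]
  exact ⟨Multiplicative.ofAdd ⟨Leech.bitWord 9058487, (Leech.mem_iff _).2 (by decide +kernel)⟩, rfl⟩

theorem rho_sS_six : rho sS ^ 6 ≠ rho sS := by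
  intro h
  have h5 : rho sS ^ 5 = 1 := by
    have : rho sS ^ 5 * rho sS = 1 * rho sS := by rw [← pow_succ, h, one_mul]
    exact mul_right_cancel this
  have := orderOf_dvd_of_pow_eq_one h5
  rw [orderOf_rho_sS] at this
  norm_num at this

theorem jRho_ne_one : rho jGen.g ≠ 1 := by
  intro h
  have h1 := congrArg rho jS_conj
  rw [map_mul, map_mul, map_pow, h, one_mul, mul_one] at h1
  exact rho_sS_six h1.symm

variable {G : Type*} [Group G] [Finite G] {z : G}
  {Q : Subgroup (Subgroup.centralizer ({z} : Set G))} [Q.Normal]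
  {e : (Subgroup.centralizer ({z} : Set G)) ⧸ Q ≃* Spor.Co1}
  {ψ : leechLattice → Q ⧸ Subgroup.center Q}

omit [Finite G] in
theorem sq_cases (d : MonsterType.Data Q e ψ) (q : Q) : q * q = 1 ∨ q * q = ⟨zc z, zc_mem d⟩ := by
  obtain ⟨v, hv⟩ := d.hψ.2.1 (QuotientGroup.mk q)
  refine center_cases d ?_
  rw [← QuotientGroup.eq_one_iff, QuotientGroup.mk_mul, ← hv, ← d.hψ.1, d.hψ.2.2.1]
  exact ⟨v, rfl⟩

/-- images of the conjugate part have involutions above them -/
theorem exists_involution_lift (d : MonsterType.Data Q e ψ) {x : Q} (hx : Typ ψ 64 x) {g : G}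
    (hg : g * z * g⁻¹ = ((x : Subgroup.centralizer ({z} : Set G)) : G)) {y : Spor.Co1}
    (hy : y ∈ (conjPart Q g).map (proj e)) (hy1 : y ≠ 1) :
    ∃ u : Subgroup.centralizer ({z} : Set G), u * u = 1 ∧ proj e u = y := by
  have hxc := typ_notMem_center d (Or.inr (Or.inr rfl)) hx
  obtain ⟨u0, hu0, rfl⟩ := hy
  obtain ⟨q, hq⟩ := mem_conjPart.1 hu0
  let cj : Q →* G := ((MulAut.conj g).toMonoidHom.comp (Subgroup.centralizer ({z} : Set G)).subtype).comp Q.subtype
  have hcj : ∀ p : Q, cj p = g * ((p : Subgroup.centralizer ({z} : Set G)) : G) * g⁻¹ := fun _ => rfl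
  have hinj : Function.Injective cj := fun a b h =>
    Subtype.ext (Subtype.ext ((MulAut.conj g).injective h))
  have hz2 := z_sq d
  rcases sq_cases d q with h | h
  · refine ⟨u0, Subtype.ext ?_, rfl⟩
    show (u0 : G) * u0 = 1
    rw [← hq, ← hcj, ← map_mul, h, map_one]
  -- the square is the central involution: change by an element of the intersection
  set U : Subgroup Q := ((conjPart Q g ⊓ Q).map (Subgroup.centralizer ({z} : Set G)).subtype).comap cj with hU
  have hmemU : ∀ p ∈ U, ∃ c ∈ conjPart Q g ⊓ Q, (c : G) = cj p := fun p ⟨c, hc, he⟩ => ⟨c, hc, he⟩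
  have hUcard : Nat.card U = 2 ^ 13 := by
    obtain ⟨a, -, -, hI⟩ := summary d hx hg
    rw [← hI]
    refine Nat.card_congr (Equiv.ofBijective
      (fun p : U => (⟨(hmemU p.1 p.2).choose, (hmemU p.1 p.2).choose_spec.1⟩ : ↥(conjPart Q g ⊓ Q)))
      ⟨?_, ?_⟩)
    · intro a b hab
      have ha := (hmemU a.1 a.2).choose_spec.2
      have hb := (hmemU b.1 b.2).choose_spec.2
      have he := congrArg (fun c : ↥(conjPart Q g ⊓ Q) => ((c : Subgroup.centralizer ({z} : Set G)) : G)) hab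
      simp only at he
      exact Subtype.ext (hinj (ha.symm.trans (he.trans hb)))
    · rintro ⟨c, hc⟩
      obtain ⟨p, hp⟩ := mem_conjPart.1 hc.1
      have hpU : p ∈ U := ⟨c, hc, hp.symm⟩
      exact ⟨⟨p, hpU⟩, Subtype.ext (Subtype.ext ((hmemU p hpU).choose_spec.2.trans hp))⟩
  have hUab : ∀ a ∈ U, ∀ b ∈ U, a * b = b * a := by
    intro a ha b hb
    obtain ⟨c, hc, hca⟩ := hmemU a ha
    obtain ⟨c', hc', hcb⟩ := hmemU b hb
    apply hinj
    rw [map_mul, map_mul, ← hca, ← hcb]
    exact congrArg Subtype.val (abelian_inter d hg hxc hc hc')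
  have hqU : q ∉ U := fun hqU => by
    obtain ⟨c, hc, hcq⟩ := hmemU q hqU
    refine hy1 (proj_eq_one.2 ?_)
    rw [show u0 = c from Subtype.ext (hq.symm.trans hcq.symm)]
    exact hc.2
  obtain ⟨p, hpU, hpq⟩ : ∃ p ∈ U, p * q ≠ q * p := by
    by_contra hc
    push Not at hc
    set V := U ⊔ Subgroup.zpowers q with hV
    have hVab : V ≤ Subgroup.centralizer (V : Set Q) := by
      have hUU : U ≤ Subgroup.centralizer (U : Set Q) := fun a ha =>
        Subgroup.mem_centralizer_iff.2 fun b hb => hUab b hb a ha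
      have hqC : Subgroup.zpowers q ≤ Subgroup.centralizer (U : Set Q) :=
        Subgroup.zpowers_le.2 (Subgroup.mem_centralizer_iff.2 fun b hb => hc b hb)
      have hqq : Subgroup.zpowers q ≤ Subgroup.centralizer (Subgroup.zpowers q : Set Q) := by
        intro a ha
        refine Subgroup.mem_centralizer_iff.2 fun b hb => ?_
        obtain ⟨m, rfl⟩ := Subgroup.mem_zpowers_iff.1 ha
        obtain ⟨n, rfl⟩ := Subgroup.mem_zpowers_iff.1 hb
        exact (Commute.zpow_zpow (Commute.refl q) n m).eq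
      refine sup_le ?_ ?_
      · rw [Subgroup.le_centralizer_iff]
        exact sup_le hUU hqC
      · rw [Subgroup.le_centralizer_iff]
        exact sup_le (Subgroup.le_centralizer_iff.1 hqC) hqq
    have h1 := card_abelian_le d (U := V) fun a ha b hb =>
      (Subgroup.mem_centralizer_iff.1 (hVab ha) b hb).symm
    have h2 : U = V := Subgroup.eq_of_le_of_card_ge le_sup_left (h1.trans hUcard.ge)
    exact hqU (h2 ▸ (le_sup_right : _ ≤ V) (Subgroup.mem_zpowers q))
  obtain ⟨c, hc, hcp⟩ := hmemU p hpU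
  have hp2 : p * p = 1 := by
    rcases sq_cases d p with hp | hp
    · exact hp
    · exfalso
      have hcc : (c : G) * c = g * z * g⁻¹ := by
        rw [hcp, ← map_mul, hp]; rfl
      have hcx : (⟨c, hc.2⟩ : Q) * ⟨c, hc.2⟩ = x := Subtype.ext (Subtype.ext (hcc.trans hg))
      rcases sq_cases d ⟨c, hc.2⟩ with h1 | h1
      · exact hxc (hcx ▸ h1 ▸ Subgroup.one_mem _)
      · exact hxc (hcx ▸ h1 ▸ zq_center d)
  refine ⟨u0 * c, ?_, ?_⟩
  · have hsq : q * p * (q * p) = 1 := by
      have hcm := comm_eq_z d (a := p) (b := q) (fun e1 => hpq (by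
        rw [mul_inv_eq_one, mul_inv_eq_iff_eq_mul] at e1; exact e1))
      rw [mul_inv_eq_iff_eq_mul, mul_inv_eq_iff_eq_mul] at hcm
      set ζ : Q := ⟨zc z, zc_mem d⟩ with hζ
      have hζc : ∀ a : Q, a * ζ = ζ * a := fun a => Subgroup.mem_center_iff.1 (zq_center d) a
      calc q * p * (q * p) = q * (p * q) * p := by group
        _ = q * (ζ * q * p) * p := by rw [hcm]
        _ = (q * ζ) * q * (p * p) := by group
        _ = ζ * (q * q) := by rw [hζc, hp2, mul_one, mul_assoc]
        _ = 1 := by rw [h]; exact Subtype.ext (Subtype.ext hz2)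
    refine Subtype.ext ?_
    show (u0 : G) * c * (u0 * c) = 1
    rw [← hq, hcp, ← hcj, ← map_mul, ← map_mul, hsq, map_one]
  · rw [map_mul, proj_eq_one.2 hc.2, mul_one]

/-- an involution inverting the element of order 7 -/
theorem exists_inverting (d : MonsterType.Data Q e ψ) {x : Q}
    (hx : Typ ψ 64 x) {g : G} (hg : g * z * g⁻¹ = ((x : Subgroup.centralizer ({z} : Set G)) : G))
    {b : Subgroup.centralizer ({z} : Set G)} (hb : orderOf b = 7) (hp : proj e b = rho sS) :
    ∃ t : Subgroup.centralizer ({z} : Set G), orderOf t = 2 ∧ t * b * t⁻¹ = b⁻¹ := by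
  obtain ⟨a, -, hsum, -⟩ := summary d hx hg
  set J := rho jGen.g with hJ
  set F := rho frGen.g with hF
  set S := rho jSign.g with hS
  have hFJ : F * J = S * F := by rw [hF, hJ, hS, ← map_mul, ← map_mul, frame_j]
  set y := a⁻¹ * S * a with hy
  have hym : y ∈ (conjPart Q g).map (proj e) := by
    rw [hsum, hy, show a * (a⁻¹ * S * a) * a⁻¹ = S by group]
    exact jSign_mem
  have hJ' : J = F⁻¹ * S * F := by rw [mul_assoc, ← hFJ]; group
  have hy1 : y ≠ 1 := fun h1 => by
    have hS1 : S = 1 := by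
      rw [show S = a * y * a⁻¹ by rw [hy]; group, h1]; group
    exact jRho_ne_one (by rw [← hJ, hJ', hS1]; group)
  obtain ⟨u0, hu0, hpu0⟩ := exists_involution_lift d hx hg hym hy1
  obtain ⟨w, hw⟩ := proj_surjective e (F⁻¹ * a)
  set u := w * u0 * w⁻¹ with hu
  have huu : u * u = 1 := by
    rw [hu, show w * u0 * w⁻¹ * (w * u0 * w⁻¹) = w * (u0 * u0) * w⁻¹ by group, hu0]; group
  have hpu : proj e u = J := by
    rw [hu, map_mul, map_mul, map_inv, hw, hpu0, hJ', hy]; group
  set σ := rho sS with hσ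
  have hσ7 : σ ^ 7 = 1 := by rw [hσ, ← map_pow, sS_pow_seven, map_one]
  have hJσ : J * σ * J⁻¹ = σ ^ 6 := by
    rw [hJ, hσ, ← map_inv, ← map_mul, ← map_mul, jS_conj, mul_inv_cancel_right, map_pow]
  have hui : u⁻¹ = u := inv_eq_of_mul_eq_one_right huu
  have hJi : J⁻¹ = J := by rw [← hpu, ← map_inv, hui]
  set β := b⁻¹ * (u * b * u⁻¹) with hβ
  have hpβ : proj e β = σ ^ 5 := by
    rw [hβ, map_mul, map_inv, map_mul, map_mul, map_inv, hpu, hp, hJσ, pow_succ' σ 5,
      inv_mul_cancel_left]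
  have hβinv : u * β * u⁻¹ = β⁻¹ := by
    rw [hβ]
    calc u * (b⁻¹ * (u * b * u⁻¹)) * u⁻¹ = u * b⁻¹ * u * b * (u⁻¹ * u⁻¹) := by group
      _ = u * b⁻¹ * u⁻¹ * b := by rw [hui, huu, mul_one]
      _ = _ := by group
  have hβ28 : β ^ 28 = 1 := by
    have hQ : β ^ 7 ∈ Q := by
      rw [← proj_eq_one (e := e), map_pow, hpβ, ← pow_mul, mul_comm, pow_mul, hσ7, one_pow]
    rw [show 28 = 7 * 4 from rfl, pow_mul]
    have h4 : (⟨β ^ 7, hQ⟩ : Q) ^ 4 = 1 := by
      rw [show 4 = 2 * 2 from rfl, pow_mul]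
      rcases sq_cases d ⟨β ^ 7, hQ⟩ with h | h <;> rw [pow_two (⟨β ^ 7, hQ⟩ : Q), h]
      · exact one_pow 2
      · exact Subtype.ext (Subtype.ext (show z ^ 2 = 1 by rw [sq, z_sq d]))
    exact congrArg Subtype.val h4
  set β' := β ^ 4 with hβ'
  have hpβ' : proj e β' = proj e b ^ 6 := by
    rw [hβ', map_pow, hpβ, hp, ← pow_mul, show 5 * 4 = 7 * 2 + 6 from rfl, pow_add, pow_mul, hσ7,
      one_pow, one_mul]
  have : Fact (Nat.Prime 7) := ⟨by norm_num⟩
  have hoβ : orderOf β' = 7 := by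
    refine orderOf_eq_prime (by rw [hβ', ← pow_mul, hβ28]) fun h => ?_
    have := congrArg (proj e) h
    rw [hpβ', hp, map_one] at this
    have := orderOf_dvd_of_pow_eq_one this
    rw [orderOf_rho_sS] at this
    norm_num at this
  have hker : IsPGroup 2 (proj e).ker := by
    rw [show (proj e).ker = Q by ext t; rw [MonoidHom.mem_ker, proj_eq_one]]
    exact IsPGroup.of_card d.card
  obtain ⟨v, hv1, hv⟩ := CentType.conj_of_image (by norm_num : (7 : ℕ) ≠ 2) (proj e) hker hoβ hb hpβ'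
  refine ⟨v * u * v⁻¹, orderOf_eq_prime (p := 2) ?_ fun h => ?_, ?_⟩
  · rw [sq, show v * u * v⁻¹ * (v * u * v⁻¹) = v * (u * u) * v⁻¹ by group, huu]; group
  · refine jRho_ne_one ?_
    rw [← hJ, ← hpu]
    have := congrArg (proj e) h
    rwa [map_mul, map_mul, map_inv, hv1, one_mul, inv_one, mul_one, map_one] at this
  · have h6 : v * u * v⁻¹ * b ^ 6 * (v * u * v⁻¹)⁻¹ = (b ^ 6)⁻¹ := by
      rw [← hv]
      calc v * u * v⁻¹ * (v * β' * v⁻¹) * (v * u * v⁻¹)⁻¹ = v * (u * β' * u⁻¹) * v⁻¹ := by group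
        _ = v * (β'⁻¹) * v⁻¹ := by rw [hβ', ← conj_pow, hβinv, inv_pow]
        _ = _ := by group
    have hb7 : b ^ 7 = 1 := by rw [← hb]; exact pow_orderOf_eq_one b
    have hbi : b ^ 6 = b⁻¹ := eq_inv_of_mul_eq_one_left (by rw [← pow_succ, hb7])
    rw [hbi, inv_inv] at h6
    rw [← conj_inv] at h6
    exact inv_injective (by rw [h6, inv_inv])

end Cfsg.Agent.HeldType
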