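import Mathlib
import Cfsg.Agent.HeldType.Main
import Cfsg.Agent.HeldType.OuterInv
import Cfsg.Agent.HeldType.LayerMem

/-! The normaliser of the group of order 7 and its action on the layer of the centraliser. -/

set_option autoImplicit false

namespace Cfsg.Agent.HeldType
open Cfsg Cfsg.Agent MonsterType

theorem frame_witness : ∃ k : Fin 6 → ZMod 2, normK k = 64 ∧
    ¬ (16 : ℤ) ∣ dotInt (spread (repT kStd)) (spread (repT k)) := by decide +kernel

variable {G : Type*} [Group G] [Finite G] {z : G}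
  {Q : Subgroup (Subgroup.centralizer ({z} : Set G))} [Q.Normal]
  {e : (Subgroup.centralizer ({z} : Set G)) ⧸ Q ≃* Spor.Co1}
  {ψ : leechLattice → Q ⧸ Subgroup.center Q}

omit [Finite G] in
/-- classes of elements commuting with the element of order 7 -/
theorem class_of_commute (d : MonsterType.Data Q e ψ) {b : Subgroup.centralizer ({z} : Set G)}
    (hb : b ^ 7 = 1) (hp : proj e b = rho sS) {q : Q}
    (hq : b * q = (q : Subgroup.centralizer ({z} : Set G)) * b) :
    ∃ k, ψ (repV k) = QuotientGroup.mk q := by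
  obtain ⟨v, hv⟩ := d.hψ.2.1 (QuotientGroup.mk q)
  obtain ⟨k, hk⟩ := exists_kap ((commute_b_iff d hb hp hv).1 hq)
  exact ⟨k, ((psi_congr d).2 ((cls_repV k).trans hk)).trans hv⟩

omit [Finite G] in
/-- non-central elements have partners -/
theorem exists_partner (d : MonsterType.Data Q e ψ) {b : Subgroup.centralizer ({z} : Set G)}
    (hb : b ^ 7 = 1) (hp : proj e b = rho sS) {q : Q}
    (hq : b * q = (q : Subgroup.centralizer ({z} : Set G)) * b) (hqc : q ∉ Subgroup.center Q) :
    ∃ r : Q, b * r = (r : Subgroup.centralizer ({z} : Set G)) * b ∧ q * r ≠ r * q := by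
  obtain ⟨k, hk⟩ := class_of_commute d hb hp hq
  have hk0 : k ≠ 0 := by
    rintro rfl
    refine hqc ((QuotientGroup.eq_one_iff q).1 ?_)
    rw [← hk, d.hψ.2.2.1]
    have h0 : Leech.cls (repV 0) = Leech.cls 0 := by
      rw [cls_repV]
      exact congrArg Leech.cls (show vecN (fun i => (((0 : Fin 6 → ZMod 2) i).val : ℤ)) = 0 by simp [vecN])
    obtain ⟨w, hw⟩ := Leech.cls_eq_iff.1 h0
    exact ⟨w, by rw [hw, zero_add]⟩
  obtain ⟨l, hl, hdot⟩ := nondeg k hk0
  obtain ⟨r, hr⟩ := QuotientGroup.mk_surjective (ψ (repV l))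
  refine ⟨r, (commute_b_iff d hb hp hr.symm).2 (congrArg Leech.cls (vecN_fixed _)), fun hc => hdot ?_⟩
  have hsq : r ^ 2 = 1 := (sq_iff d hr.symm).2 (by
    rw [show sqNorm (repV l : GolayPt → ℤ) = normK l from layer_repV l]
    rcases hl with h | h <;> rw [h] <;> decide)
  rw [← repV_coe, ← repV_coe]
  exact (commute_iff d hk hr.symm hsq).1 hc

omit [Finite G] in
/-- no element of the centraliser of both involutions inverts the element of order 7 -/
theorem no_inverting_fix (d : MonsterType.Data Q e ψ) {x : Q}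
    (hx : ψ (Leech.oct none) = QuotientGroup.mk x) (hx64 : Typ ψ 64 x)
    {b : Subgroup.centralizer ({z} : Set G)} (hp : proj e b = rho sS)
    {t : Subgroup.centralizer ({z} : Set G)} (htb : t * b * t⁻¹ = b⁻¹)
    (htx : t * (x : Subgroup.centralizer ({z} : Set G)) = x * t) : False := by
  have hmem : proj e t ∈ (stabCls (Leech.oct none)).map rho := by
    rw [← proj_centralizer d hx (typ_notMem_center d (Or.inr (Or.inr rfl)) hx64)]
    exact ⟨t, Subgroup.mem_centralizer_singleton_iff.2 htx, rfl⟩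
  obtain ⟨g, hg, hge⟩ := hmem
  have h1 : rho (g * sS * g⁻¹ * sS) = 1 := by
    have := congrArg (proj e) htb
    rw [map_mul, map_mul, map_inv, map_inv, hp, ← hge] at this
    rw [map_mul, map_mul, map_mul, map_inv, this, inv_mul_cancel]
  have h6 : sS ^ 6 = sS⁻¹ := eq_inv_of_mul_eq_one_left (by rw [← pow_succ, sS_pow_seven])
  refine no_inverting_frame hg ?_
  rcases rho_eq_one.1 h1 with h | h
  · rw [h6, ← mul_inv_eq_iff_eq_mul, ← mul_eq_one_iff_eq_inv]
    exact h
  · exfalso
    rw [← eq_mul_inv_iff_mul_eq] at h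
    have h7 : (g * sS * g⁻¹) ^ 7 = 1 := by rw [conj_pow, sS_pow_seven, mul_one, mul_inv_cancel]
    rw [h, (show Commute Leech.zneg sS from (Leech.zneg_comm sS).symm).inv_right.mul_pow, inv_pow,
      sS_pow_seven, inv_one,
      mul_one, show (7 : ℕ) = 2 * 3 + 1 from rfl, pow_add, pow_mul, Leech.zneg_sq, one_pow, one_mul,
      pow_one] at h7
    exact Leech.zneg_ne_one h7

omit [Finite G] in
/-- centralised elements of normal subgroups avoiding the central involution -/
theorem fixed_small (d : MonsterType.Data Q e ψ) {b : Subgroup.centralizer ({z} : Set G)}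
    (hb : b ^ 7 = 1) (hp : proj e b = rho sS) {B : Subgroup G} (hB : B = Subgroup.zpowers (b : G))
    (hzC1 : z ∈ Subgroup.centralizer (B : Set G))
    (N : Subgroup ↥(Subgroup.centralizer (B : Set G))) (hN : N.Normal) (hzN : (⟨z, hzC1⟩ : ↥(Subgroup.centralizer (B : Set G))) ∉ N)
    (c : ↥(Subgroup.centralizer (B : Set G))) (hc : c ∈ N)
    (hcz : (c : G) * z = z * (c : G)) : (c : G) ∈ B := by
  have hmemC1 : ∀ a : G, a ∈ Subgroup.centralizer (B : Set G) ↔ a * (b : G) = (b : G) * a := by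
    intro a
    rw [hB, Subgroup.mem_centralizer_iff]
    constructor
    · intro h; exact (h _ (Subgroup.mem_zpowers _)).symm
    · intro h y hy
      obtain ⟨n, rfl⟩ := Subgroup.mem_zpowers_iff.1 hy
      exact ((show Commute a (b : G) from h).zpow_right n).eq.symm
  set cC : Subgroup.centralizer ({z} : Set G) := ⟨(c : G), Subgroup.mem_centralizer_singleton_iff.2 hcz⟩ with hcC
  have hcb : cC * b = b * cC := Subtype.ext ((hmemC1 _).1 c.2)
  have hgen : ∀ u : Q, ∀ hu : ((u : Subgroup.centralizer ({z} : Set G)) : G) ∈ Subgroup.centralizer (B : Set G),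
      (⟨_, hu⟩ : ↥(Subgroup.centralizer (B : Set G))) ∈ N → u = 1 := by
    intro u hu huN
    have hub : b * u = (u : Subgroup.centralizer ({z} : Set G)) * b := Subtype.ext ((hmemC1 _).1 hu).symm
    by_contra hne
    by_cases huc : u ∈ Subgroup.center Q
    · rcases center_cases d huc with h | h
      · exact hne h
      · subst h
        exact hzN huN
    · obtain ⟨r, hrb, hur⟩ := exists_partner d hb hp hub huc
      have hr : ((r : Subgroup.centralizer ({z} : Set G)) : G) ∈ Subgroup.centralizer (B : Set G) :=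
        (hmemC1 _).2 (congrArg Subtype.val hrb).symm
      have hcm := comm_eq_z d (a := u) (b := r) (fun e1 => hur (by
        rw [mul_inv_eq_one, mul_inv_eq_iff_eq_mul] at e1; exact e1))
      refine hzN ?_
      have h2 := N.mul_mem huN (hN.conj_mem _ (N.inv_mem huN) ⟨_, hr⟩)
      convert h2 using 1
      refine Subtype.ext ?_
      have h3 := congrArg (fun y : Q => ((y : Subgroup.centralizer ({z} : Set G)) : G)) hcm
      simp only [Subgroup.coe_mul, Subgroup.coe_inv] at h3 ⊢
      refine h3.symm.trans ?_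
      group
  -- commutation with the centralised part
  have hcQ : ∀ q : Q, b * q = (q : Subgroup.centralizer ({z} : Set G)) * b →
      cC * q = (q : Subgroup.centralizer ({z} : Set G)) * cC := by
    intro q hq
    set u : Q := (⟨cC * q * cC⁻¹, (inferInstance : Q.Normal).conj_mem _ q.2 cC⟩ : Q) * q⁻¹ with hu
    have hqC : ((q : Subgroup.centralizer ({z} : Set G)) : G) ∈ Subgroup.centralizer (B : Set G) :=
      (hmemC1 _).2 (congrArg Subtype.val hq).symm
    have h2 := N.mul_mem hc (hN.conj_mem _ (N.inv_mem hc) ⟨_, hqC⟩)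
    have huC : ((u : Subgroup.centralizer ({z} : Set G)) : G) ∈ Subgroup.centralizer (B : Set G) := by
      have := (c * ((⟨_, hqC⟩ : ↥(Subgroup.centralizer (B : Set G))) * c⁻¹ * (⟨_, hqC⟩ : ↥(Subgroup.centralizer (B : Set G)))⁻¹)).2
      simp only [Subgroup.coe_mul, Subgroup.coe_inv] at this
      simp only [hu, Subgroup.coe_mul, Subgroup.coe_inv, hcC]
      convert this using 1
      group
    have := hgen u huC (by
      convert h2 using 1
      refine Subtype.ext ?_
      simp only [hu, Subgroup.coe_mul, Subgroup.coe_inv, hcC]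
      group)
    rw [hu, mul_inv_eq_one] at this
    exact mul_inv_eq_iff_eq_mul.1 (congrArg Subtype.val this)
  have hcent : proj e cC ∈ cent7Bar := Subgroup.mem_centralizer_singleton_iff.2 (by
    rw [← hp, ← map_mul, ← map_mul, hcb])
  obtain ⟨g, hg, hge⟩ := exists_lift_cent hcent
  have hphi : phi ⟨g, hg⟩ = 1 := phi_of_fixes (fun k => by
    obtain ⟨q, hq⟩ := QuotientGroup.mk_surjective (ψ (repV k))
    have hqb := (commute_b_iff d hb hp hq.symm).2 (congrArg Leech.cls (vecN_fixed _))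
    have h4 := d.hψ.2.2.2 cC g hge (repV k) q hq.symm
    rw [show (⟨cC * q * cC⁻¹, (inferInstance : Q.Normal).conj_mem _ q.2 cC⟩ : Q) = q from
      Subtype.ext (mul_inv_eq_iff_eq_mul.2 (hcQ q hqb)), hq] at h4
    exact (psi_congr d).1 h4)
  have hz7 : rho g ∈ Subgroup.zpowers (rho sS) := phi_ker_rho.1 hphi
  rw [hge] at hz7
  obtain ⟨i, hi⟩ := Subgroup.mem_zpowers_iff.1 hz7
  have hq0 : cC * (b ^ i)⁻¹ ∈ Q := by
    rw [← proj_eq_one (e := e), map_mul, map_inv, map_zpow, hp, hi, mul_inv_cancel]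
  have hq0b : b * (cC * (b ^ i)⁻¹) = cC * (b ^ i)⁻¹ * b :=
    ((show Commute b cC from hcb.symm).mul_right ((Commute.refl b).zpow_right i).inv_right).eq
  have hcenQ : (⟨_, hq0⟩ : Q) ∈ Subgroup.center Q := by
    by_contra hnc
    obtain ⟨r, hrb, hur⟩ := exists_partner d hb hp hq0b hnc
    refine hur (Subtype.ext ?_)
    exact ((show Commute cC (r : Subgroup.centralizer ({z} : Set G)) from hcQ r hrb).mul_left
      (((show Commute b (r : Subgroup.centralizer ({z} : Set G)) from hrb).zpow_left i).inv_left)).eq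
  rcases center_cases d hcenQ with h | h
  · have : cC = b ^ i := mul_inv_eq_one.1 (congrArg Subtype.val h)
    have hv := congrArg Subtype.val this
    rw [hcC] at hv
    rw [show (c : G) = (b : G) ^ i by simpa using hv, hB]
    exact Subgroup.zpow_mem _ (Subgroup.mem_zpowers _) i
  · exfalso
    have h1 : cC = zc z * b ^ i := mul_inv_eq_iff_eq_mul.1 (congrArg Subtype.val h)
    have hz2 : zc z ^ 2 = 1 := Subtype.ext (show z ^ 2 = 1 by rw [sq, z_sq d])
    have h7 : cC ^ 7 = zc z := by
      rw [h1, (commute_zc _).mul_pow, ← zpow_natCast (b ^ i), ← zpow_mul, mul_comm i, zpow_mul,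
        zpow_natCast, hb, one_zpow, mul_one, show (7 : ℕ) = 2 * 3 + 1 from rfl, pow_succ, pow_mul,
        hz2, one_pow, one_mul]
    refine hzN ?_
    have h2 := N.pow_mem hc 7
    convert h2 using 1
    refine Subtype.ext ?_
    have := congrArg Subtype.val h7
    simp only [hcC, SubmonoidClass.coe_pow] at this ⊢
    exact this.symm

/-- the index of the centraliser and the involution acting as an outer automorphism -/
theorem automizer (d : MonsterType.Data Q e ψ) (hex : ∃ g : G, ∃ y : Q,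
      g * z * g⁻¹ = ((y : Subgroup.centralizer ({z} : Set G)) : G) ∧ g * z * g⁻¹ ≠ z)
    (x : Q) (hx : ψ (Leech.oct none) = QuotientGroup.mk x)
    (b : Subgroup.centralizer ({z} : Set G)) (hb : orderOf b = 7) (hp : proj e b = rho sS)
    (B : Subgroup G) (hB : B = Subgroup.zpowers (b : G)) :
    (Subgroup.centralizer (B : Set G)).relIndex (Subgroup.normalizer (B : Set G)) = 6 ∧
      ∃ t : G, orderOf t = 2 ∧ (∀ b' ∈ B, t * b' * t⁻¹ = b'⁻¹) ∧
        (∀ y ∈ (Cfsg.layer ↥(Subgroup.centralizer (B : Set G))).map (Subgroup.centralizer (B : Set G)).subtype,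
          t * y * t⁻¹ ∈ (Cfsg.layer ↥(Subgroup.centralizer (B : Set G))).map (Subgroup.centralizer (B : Set G)).subtype) ∧
        ¬ ∃ l ∈ (Cfsg.layer ↥(Subgroup.centralizer (B : Set G))).map (Subgroup.centralizer (B : Set G)).subtype,
          ∀ y ∈ (Cfsg.layer ↥(Subgroup.centralizer (B : Set G))).map (Subgroup.centralizer (B : Set G)).subtype,
            t * y * t⁻¹ = l * y * l⁻¹ := by
  set C1 := Subgroup.centralizer (B : Set G) with hC1
  have hx64 : Typ ψ 64 x := ⟨_, (Leech.stdCross_mem (Leech.oct_mem_stdCross none)).2, hx⟩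
  have hb7 : b ^ 7 = 1 := by rw [← hb]; exact pow_orderOf_eq_one b
  have hbG : orderOf (b : G) = 7 := by rw [Subgroup.orderOf_coe, hb]
  have hBcard : Nat.card B = 7 := by rw [hB, Nat.card_zpowers, hbG]
  have hmemC1 : ∀ a : G, a ∈ C1 ↔ a * (b : G) = (b : G) * a := by
    intro a
    rw [hC1, hB, Subgroup.mem_centralizer_iff]
    constructor
    · intro h; exact (h _ (Subgroup.mem_zpowers _)).symm
    · intro h y hy
      obtain ⟨n, rfl⟩ := Subgroup.mem_zpowers_iff.1 hy
      exact ((show Commute a (b : G) from h).zpow_right n).eq.symm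
  have hnorm : ∀ (w : G) (k : ℕ), ¬ 7 ∣ k → w * (b : G) * w⁻¹ = (b : G) ^ k →
      w ∈ Subgroup.normalizer (B : Set G) := by
    intro w k hk hw
    refine Subgroup.mem_normalizer_iff.2 fun y => ?_
    have hmap : B.map (MulAut.conj w).toMonoidHom = B := by
      refine Subgroup.eq_of_le_of_card_ge ?_ ?_
      · rw [hB, MonoidHom.map_zpowers, Subgroup.zpowers_le]
        show w * (b : G) * w⁻¹ ∈ _
        rw [hw]
        exact Subgroup.npow_mem_zpowers _ _
      · exact le_of_eq (Nat.card_congr (B.equivMapOfInjective _ (MulAut.conj w).injective).toEquiv)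
    constructor
    · intro hy
      rw [← hmap]
      exact ⟨y, hy, rfl⟩
    · intro hy
      rw [← hmap] at hy
      obtain ⟨y', hy', he⟩ := hy
      rwa [show y = y' from ((MulAut.conj w).injective he).symm]
  refine ⟨?_, ?_⟩
  · rw [Subgroup.relIndex, ← Subgroup.normalizerMonoidHom_ker, Subgroup.index_ker]
    have : IsCyclic ↥B := hB ▸ inferInstance
    have htop : (Subgroup.normalizerMonoidHom (H := B)).range = ⊤ := by
      refine eq_top_iff.2 fun φ _ => ?_
      have hbB : (b : G) ∈ B := hB ▸ Subgroup.mem_zpowers _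
      have hφ := (φ ⟨_, hbB⟩).2
      obtain ⟨k, hk⟩ : ∃ k : ℕ, ((φ ⟨_, hbB⟩ : ↥B) : G) = (b : G) ^ k := by
        have h' : ((φ ⟨_, hbB⟩ : ↥B) : G) ∈ Subgroup.zpowers (b : G) := hB ▸ hφ
        rw [← mem_powers_iff_mem_zpowers, Submonoid.mem_powers_iff] at h'
        obtain ⟨k, hk⟩ := h'
        exact ⟨k, hk.symm⟩
      have hk7 : ¬ 7 ∣ k := by
        rintro ⟨m, rfl⟩
        have h1 : φ ⟨_, hbB⟩ = 1 := Subtype.ext (by
          rw [hk, pow_mul, ← hbG, pow_orderOf_eq_one, one_pow]; rfl)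
        have h2 : (b : G) = 1 := congrArg Subtype.val ((map_eq_one_iff φ φ.injective).1 h1)
        rw [h2, orderOf_one] at hbG
        omega
      obtain ⟨h, hh⟩ := exists_inducing hk7
      obtain ⟨w, -, hw⟩ := exists_lift d hb hp hh
      have hwG : (w : G) * (b : G) * (w : G)⁻¹ = (b : G) ^ k := by
        simpa using congrArg Subtype.val hw
      refine ⟨⟨(w : G), hnorm _ k hk7 hwG⟩, MulEquiv.ext fun y => ?_⟩
      obtain ⟨n, hn⟩ : ∃ n : ℤ, (⟨_, hbB⟩ : ↥B) ^ n = y := by
        have hy : (y : G) ∈ Subgroup.zpowers (b : G) := hB ▸ y.2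
        obtain ⟨n, hn⟩ := Subgroup.mem_zpowers_iff.1 hy
        exact ⟨n, Subtype.ext (by simpa using hn)⟩
      rw [← hn, map_zpow, map_zpow]
      exact congrArg (· ^ n) (Subtype.ext (hwG.trans hk.symm))
    rw [htop, Subgroup.card_top, IsCyclic.card_mulAut, hBcard, Nat.totient_prime (by norm_num)]
  · obtain ⟨g0, hg0⟩ := isConj_iff.1 ((typ64_iff d hex x).2 hx64).1
    obtain ⟨t, hto, htb⟩ := exists_inverting d hx64 hg0 hb hp
    have htG : (t : G) * (b : G) * (t : G)⁻¹ = (b : G)⁻¹ := by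
      simpa using congrArg Subtype.val htb
    have htinv : ∀ b' ∈ B, (t : G) * b' * (t : G)⁻¹ = b'⁻¹ := by
      intro b' hb'
      rw [hB] at hb'
      obtain ⟨n, rfl⟩ := Subgroup.mem_zpowers_iff.1 hb'
      rw [← conj_zpow, htG, inv_zpow]
    -- conjugation on the centraliser
    have htC1 : ∀ y : G, y ∈ C1 → (t : G) * y * (t : G)⁻¹ ∈ C1 ∧ (t : G)⁻¹ * y * (t : G) ∈ C1 := by
      intro y hy
      have hyb : Commute y (b : G) := (hmemC1 y).1 hy
      have h1 : (t : G)⁻¹ * (b : G) * (t : G) = (b : G)⁻¹ := by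
        have := congrArg (fun a => (t : G)⁻¹ * a⁻¹ * (t : G)) htG
        simp only [inv_inv] at this
        rw [← this]; group
      constructor
      · refine (hmemC1 _).2 ?_
        have := (hyb.inv_right.map (MulAut.conj (t : G)).toMonoidHom).eq
        simp only [MulEquiv.coe_toMonoidHom, map_inv, MulAut.conj_apply, htG, inv_inv] at this
        exact this
      · refine (hmemC1 _).2 ?_
        calc (t : G)⁻¹ * y * (t : G) * (b : G) = (t : G)⁻¹ * (y * ((t : G) * (b : G) * (t : G)⁻¹)) * (t : G) := by group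
          _ = (t : G)⁻¹ * ((b : G)⁻¹ * y) * (t : G) := by rw [htG, hyb.inv_right.eq]
          _ = ((t : G)⁻¹ * (b : G)⁻¹ * (t : G)) * ((t : G)⁻¹ * y * (t : G)) := by group
          _ = (b : G) * ((t : G)⁻¹ * y * (t : G)) := by
            rw [← htG]
            group
    let τ : ↥C1 ≃* ↥C1 :=
      { toFun := fun y => ⟨(t : G) * y * (t : G)⁻¹, (htC1 y y.2).1⟩
        invFun := fun y => ⟨(t : G)⁻¹ * y * (t : G), (htC1 y y.2).2⟩
        left_inv := fun y => Subtype.ext (by simp [mul_assoc])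
        right_inv := fun y => Subtype.ext (by simp [mul_assoc])
        map_mul' := fun y y' => Subtype.ext (by simp [mul_assoc]) }
    refine ⟨(t : G), by rw [Subgroup.orderOf_coe, hto], htinv, ?_, ?_⟩
    · rintro _ ⟨y, hy, rfl⟩
      exact ⟨τ y, (Layer.map_layer_equiv τ).le ⟨y, hy, rfl⟩, rfl⟩
    -- the central involution and its companion lie in the layer
    have hzC1 : z ∈ C1 := (hmemC1 z).2 (Subgroup.mem_centralizer_singleton_iff.1 b.2).symm
    have hxb : b * x = (x : Subgroup.centralizer ({z} : Set G)) * b :=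
      (commute_b_iff d hb7 hp hx).2 (congrArg Leech.cls oct_fixed)
    have hqC1 : ∀ q : Q, b * q = (q : Subgroup.centralizer ({z} : Set G)) * b →
        ((q : Subgroup.centralizer ({z} : Set G)) : G) ∈ C1 := fun q hq =>
      (hmemC1 _).2 (congrArg Subtype.val hq).symm
    set zX : ↥C1 := ⟨z, hzC1⟩ with hzX
    have hconj : ∀ (q : Q) (hq : b * q = (q : Subgroup.centralizer ({z} : Set G)) * b), Typ ψ 64 q →
        IsConj zX (⟨_, hqC1 q hq⟩ : ↥C1) := by
      intro q hq hq64
      obtain ⟨w, hwb, hwz⟩ := fusion d hex hx hx64 hb hp hq64 hq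
      exact isConj_iff.2 ⟨⟨w, (hmemC1 w).2 hwb⟩, Subtype.ext hwz⟩
    obtain ⟨k, hk64, hkdot⟩ := frame_witness
    obtain ⟨r, hr⟩ := QuotientGroup.mk_surjective (ψ (repV k))
    have hr64 : Typ ψ 64 r := ⟨repV k, hk64 ▸ layer_repV k, hr.symm⟩
    have hrb := (commute_b_iff d hb7 hp hr.symm).2 (congrArg Leech.cls (vecN_fixed _))
    have hxr : x * r ≠ r * x := fun hc => hkdot (by
      rw [← repV_coe, ← repV_coe]
      refine (commute_iff d (((psi_congr d).2 cls_rep_std).trans hx) hr.symm ?_).1 hc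
      exact (sq_iff d hr.symm).2 (by
        rw [show sqNorm (repV k : GolayPt → ℤ) = normK k from layer_repV k, hk64]; decide))
    set ζ : Q := ⟨zc z, zc_mem d⟩ with hζ
    have hxζ64 : Typ ψ 64 (x * ζ) := ⟨_, (Leech.stdCross_mem (Leech.oct_mem_stdCross none)).2, by
      rw [QuotientGroup.mk_mul, (QuotientGroup.eq_one_iff ζ).2 (zq_center d), mul_one, hx]⟩
    have hxζb : b * (x * ζ : Q) = ((x * ζ : Q) : Subgroup.centralizer ({z} : Set G)) * b :=
      ((show Commute b (x : Subgroup.centralizer ({z} : Set G)) from hxb).mul_right (commute_zc b).symm).eq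
    have hBc : B.subgroupOf C1 ≤ Subgroup.center ↥C1 := fun a ha => Subgroup.mem_center_iff.2 fun c =>
      Subtype.ext ((Subgroup.mem_centralizer_iff.1 c.2 _ (Subgroup.mem_subgroupOf.1 ha)).symm)
    have : (B.subgroupOf C1).Normal := ⟨fun a ha g => by
      rw [Subgroup.mem_center_iff.1 (hBc ha) g, mul_inv_cancel_right]; exact ha⟩
    have hodd : Odd (Nat.card ↥(B.subgroupOf C1)) := by
      rw [Nat.card_congr (Subgroup.subgroupOfEquivOfLe (show B ≤ C1 from fun a ha =>
        (hmemC1 a).2 (by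
          rw [hB] at ha
          obtain ⟨n, rfl⟩ := Subgroup.mem_zpowers_iff.1 ha
          exact ((Commute.refl (b : G)).zpow_left n).eq))).toEquiv, hBcard]
      decide
    have hz2 : z * z = 1 := z_sq d
    have hzB : zX ∉ B.subgroupOf C1 := fun h => by
      have hd := orderOf_dvd_natCard (⟨z, Subgroup.mem_subgroupOf.1 h⟩ : ↥B)
      rw [Subgroup.orderOf_mk, hBcard, orderOf_eq_prime (p := 2) (by rw [sq, hz2]) (z_ne_one d)] at hd
      norm_num at hd
    have hzE : zX ∈ Cfsg.layer ↥C1 := mem_layer_of_no_fixed (B := B.subgroupOf C1) hBc hodd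
      (Subtype.ext hz2) hzB
      (fun N hN hzN c hc hcz => Subgroup.mem_subgroupOf.2
        (fixed_small d hb7 hp hB hzC1 N hN hzN c hc (congrArg Subtype.val hcz)))
      (hconj x hxb hx64)
      (by
        have := hconj (x * ζ) hxζb hxζ64
        exact this)
      (hconj r hrb hr64)
      (fun h => hxr (Subtype.ext (Subtype.ext (congrArg (fun a : ↥C1 => (a : G)) h :))))
    have hEn : (Cfsg.layer ↥C1).Normal := inferInstance
    have hxE : (⟨_, hqC1 x hxb⟩ : ↥C1) ∈ Cfsg.layer ↥C1 := by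
      obtain ⟨w, hw⟩ := isConj_iff.1 (hconj x hxb hx64)
      rw [← hw]
      exact hEn.conj_mem _ hzE w
    rintro ⟨_, ⟨l, hl, rfl⟩, hl'⟩
    have hlb : Commute (l : G) (b : G) := (hmemC1 _).1 l.2
    have hfix : ∀ y : ↥C1, y ∈ Cfsg.layer ↥C1 →
        (l : G)⁻¹ * (t : G) * y * ((l : G)⁻¹ * (t : G))⁻¹ = y := by
      intro y hy
      have h1 : (t : G) * y * (t : G)⁻¹ = (l : G) * y * (l : G)⁻¹ := hl' _ ⟨y, hy, rfl⟩
      rw [show (l : G)⁻¹ * (t : G) * y * ((l : G)⁻¹ * (t : G))⁻¹ =
        (l : G)⁻¹ * ((t : G) * y * (t : G)⁻¹) * (l : G) by group, h1]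
      group
    have hzfix : (l : G)⁻¹ * (t : G) * z * ((l : G)⁻¹ * (t : G))⁻¹ = z := hfix zX hzE
    set t' : Subgroup.centralizer ({z} : Set G) :=
      ⟨(l : G)⁻¹ * (t : G), Subgroup.mem_centralizer_singleton_iff.2 (mul_inv_eq_iff_eq_mul.1 hzfix)⟩
    refine no_inverting_fix d hx hx64 hp (t := t') (Subtype.ext ?_) (Subtype.ext ?_)
    · show (l : G)⁻¹ * (t : G) * (b : G) * ((l : G)⁻¹ * (t : G))⁻¹ = (b : G)⁻¹
      rw [show (l : G)⁻¹ * (t : G) * (b : G) * ((l : G)⁻¹ * (t : G))⁻¹ =
        (l : G)⁻¹ * ((t : G) * (b : G) * (t : G)⁻¹) * (l : G) by group, htG, hlb.inv_inv.eq]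
      group
    · exact mul_inv_eq_iff_eq_mul.1 (hfix ⟨_, hqC1 x hxb⟩ hxE)

end Cfsg.Agent.HeldType
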